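import Mathlib

namespace Groth.Calg3

open Module

universe u v w

theorem isTorsionFree_of_smul_eq_zero {R : Type u} [CommRing R] [IsDomain R] {M : Type v}
    [AddCommGroup M] [Module R M] (h : ∀ (c : R) (x : M), c ≠ 0 → c • x = 0 → x = 0) :
    IsTorsionFree R M :=
  ⟨fun c hc x y hxy => sub_eq_zero.mp (h c _ hc.ne_zero (by rw [smul_sub]; exact sub_eq_zero.mpr hxy))⟩

variable {R : Type u} [CommRing R] [IsDomain R]

theorem eq_zero_of_smul_eq_zero {M : Type v} [AddCommGroup M] [Module R M] [IsTorsionFree R M]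
    {c : R} {x : M} (hc : c ≠ 0) (h : c • x = 0) : x = 0 :=
  smul_right_injective M hc (by simpa using h)

theorem isTorsionFree_of_injective {M : Type v} {N : Type w} [AddCommGroup M] [Module R M]
    [AddCommGroup N] [Module R N] [IsTorsionFree R N] (f : M →ₗ[R] N) (hf : Function.Injective f) :
    IsTorsionFree R M :=
  isTorsionFree_of_smul_eq_zero fun c x hc h =>
    hf (by rw [map_zero]; exact eq_zero_of_smul_eq_zero hc (by rw [← map_smul, h, map_zero]))

theorem linearMap_torsionFree {M : Type v} {N : Type w} [AddCommGroup M] [Module R M]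
    [AddCommGroup N] [Module R N] [IsTorsionFree R N] : IsTorsionFree R (M →ₗ[R] N) :=
  isTorsionFree_of_smul_eq_zero fun _c _φ hc h =>
    LinearMap.ext fun x => eq_zero_of_smul_eq_zero hc (LinearMap.congr_fun h x)

section

variable (R) (M : Type v) [AddCommGroup M] [Module R M] [Module.Finite R M]

/-- A finite module over a domain contains a free module of full rank. -/
theorem exists_injective_torsion_coker :
    ∃ g : (Fin (finrank R M) → R) →ₗ[R] M, Function.Injective g ∧
      ∀ x : M, ∃ c : R, c ≠ 0 ∧ c • x ∈ LinearMap.range g := by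
  obtain ⟨s, hs, hli⟩ := exists_finset_linearIndependent_of_le_finrank (R := R) (M := M) le_rfl
  let e : Fin (finrank R M) ≃ s := (s.equivFinOfCardEq hs).symm
  let v : Fin (finrank R M) → M := fun i => (e i : M)
  have hv : LinearIndependent R v := hli.comp e e.injective
  refine ⟨Fintype.linearCombination R v, ?_, fun x => ?_⟩
  · rw [← LinearMap.ker_eq_bot]
    exact LinearMap.ker_eq_bot.mpr (linearIndependent_iff_injective_fintypeLinearCombination.mp hv)
  · by_contra hno
    push Not at hno
    have hli' : LinearIndependent R (Fin.cons x v : Fin (finrank R M + 1) → M) := by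
      refine LinearIndependent.finCons' x v hv fun c y hy h0 => ?_
      by_contra hc
      refine hno c hc ?_
      rw [Fintype.range_linearCombination]
      rw [eq_neg_of_add_eq_zero_left h0]
      exact Submodule.neg_mem _ hy
    have := hli'.fintype_card_le_finrank
    simp at this

/-- Maps `g : R^r → M`, `h : M → R^r` both of whose composites are multiplication by some `d ≠ 0`. -/
theorem exists_finrank_pair :
    ∃ (g : (Fin (finrank R M) → R) →ₗ[R] M) (h : M →ₗ[R] (Fin (finrank R M) → R)) (d : R),
      d ≠ 0 ∧ Function.Injective g ∧ (∀ x, g (h x) = d • x) ∧ (∀ v, h (g v) = d • v) := by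
  classical
  obtain ⟨g, hg, htor⟩ := exists_injective_torsion_coker R M
  obtain ⟨t, ht⟩ := (Module.Finite.fg_top : (⊤ : Submodule R M).FG)
  choose c hc hcr using htor
  have hd : ∀ x : M, (∏ m ∈ t, c m) • x ∈ LinearMap.range g := by
    intro x
    have hx : x ∈ Submodule.span R (t : Set M) := ht ▸ Submodule.mem_top
    induction hx using Submodule.span_induction with
    | mem m hm =>
      rw [← Finset.prod_erase_mul t c hm, mul_smul]
      exact Submodule.smul_mem _ _ (hcr m)
    | zero => rw [smul_zero]; exact Submodule.zero_mem _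
    | add a b _ _ ha hb => rw [smul_add]; exact Submodule.add_mem _ ha hb
    | smul a b _ hb => rw [smul_comm]; exact Submodule.smul_mem _ _ hb
  let d := ∏ m ∈ t, c m
  let h : M →ₗ[R] (Fin (finrank R M) → R) := (LinearEquiv.ofInjective g hg).symm.toLinearMap ∘ₗ
    (d • LinearMap.id : M →ₗ[R] M).codRestrict (LinearMap.range g) hd
  have h1 : ∀ x, g (h x) = d • x := fun x =>
    congrArg Subtype.val ((LinearEquiv.ofInjective g hg).apply_symm_apply ⟨d • x, hd x⟩)
  refine ⟨g, h, d, Finset.prod_ne_zero_iff.mpr fun m _ => hc m, hg, h1, fun v => hg ?_⟩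
  rw [h1, map_smul]

theorem exists_injective_of_torsionFree [IsTorsionFree R M] :
    ∃ f : M →ₗ[R] (Fin (finrank R M) → R), Function.Injective f := by
  obtain ⟨g, h, d, hd, -, h1, -⟩ := exists_finrank_pair R M
  refine ⟨h, fun x y hxy => smul_right_injective M hd ?_⟩
  show d • x = d • y
  rw [← h1, ← h1, hxy]

theorem eval_injective_of_torsionFree [IsTorsionFree R M] : Function.Injective (Dual.eval R M) := by
  obtain ⟨f, hf⟩ := exists_injective_of_torsionFree R M
  intro x y hxy
  exact hf (funext fun i => LinearMap.congr_fun hxy ((LinearMap.proj i : (Fin (finrank R M) → R) →ₗ[R] R) ∘ₗ f))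

/-- One nonzero `d` kills the kernel and the cokernel of `M → M**`. -/
theorem exists_smul_mem_range_eval :
    ∃ d : R, d ≠ 0 ∧ (∀ x : M, Dual.eval R M x = 0 → d • x = 0) ∧
      ∀ y : Dual R (Dual R M), d • y ∈ LinearMap.range (Dual.eval R M) := by
  obtain ⟨g, h, d, hd, -, h1, -⟩ := exists_finrank_pair R M
  refine ⟨d, hd, fun x hx => ?_, fun y => ?_⟩
  · rw [← h1, show h x = 0 from funext fun i => LinearMap.congr_fun hx ((LinearMap.proj i : (Fin (finrank R M) → R) →ₗ[R] R) ∘ₗ h), map_zero]
  · obtain ⟨v, hv⟩ := (Module.bijective_dual_eval R (Fin (finrank R M) → R)).2 (h.dualMap.dualMap y)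
    refine ⟨g v, LinearMap.ext fun φ => ?_⟩
    have h2 := LinearMap.congr_fun hv (g.dualMap φ)
    simp only [Dual.eval_apply, LinearMap.dualMap_apply, LinearMap.smul_apply] at h2 ⊢
    rw [h2, show h.dualMap (g.dualMap φ) = d • φ from LinearMap.ext fun x => by simp [h1]]
    simp

end

/-- A finite submodule with saturated image in a reflexive module is reflexive. -/
theorem isReflexive_of_saturated {M : Type v} {F : Type w} [AddCommGroup M] [Module R M]
    [Module.Finite R M] [AddCommGroup F] [Module R F] [IsReflexive R F]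
    (f : M →ₗ[R] F) (hf : Function.Injective f)
    (hsat : ∀ (c : R) (y : F), c ≠ 0 → c • y ∈ LinearMap.range f → y ∈ LinearMap.range f) :
    IsReflexive R M := by
  have : IsTorsionFree R M := isTorsionFree_of_injective f hf
  obtain ⟨d, hd, -, hcoker⟩ := exists_smul_mem_range_eval R M
  have hnat : ∀ m, f.dualMap.dualMap (Dual.eval R M m) = Dual.eval R F (f m) := fun m => rfl
  refine ⟨⟨eval_injective_of_torsionFree R M, fun y => ?_⟩⟩
  obtain ⟨z, hz⟩ := (bijective_dual_eval R F).2 (f.dualMap.dualMap y)
  obtain ⟨m, hm⟩ := hcoker y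
  have h1 : f m = d • z := (bijective_dual_eval R F).1 (by rw [← hnat, hm, map_smul, map_smul, hz])
  obtain ⟨m₀, hm₀⟩ := hsat d z hd ⟨m, h1⟩
  refine ⟨m₀, ?_⟩
  have h2 : m = d • m₀ := hf (by rw [h1, map_smul, hm₀])
  have : IsTorsionFree R (Dual R (Dual R M)) := linearMap_torsionFree
  apply smul_right_injective (Dual R (Dual R M)) hd
  show d • Dual.eval R M m₀ = d • y
  rw [← hm, h2, map_smul]

theorem saturated_of_exact {M : Type v} {F : Type w} {C : Type*} [AddCommGroup M] [Module R M]
    [AddCommGroup F] [Module R F] [AddCommGroup C] [Module R C] [IsTorsionFree R C]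
    {f : M →ₗ[R] F} {g : F →ₗ[R] C} (hfg : Function.Exact f g) (c : R) (y : F) (hc : c ≠ 0)
    (hy : c • y ∈ LinearMap.range f) : y ∈ LinearMap.range f := by
  have h1 : g (c • y) = 0 := (hfg _).mpr hy
  rw [map_smul] at h1
  exact (hfg y).mp (eq_zero_of_smul_eq_zero hc h1)

theorem torsionFree_quotient_of_saturated {F : Type w} [AddCommGroup F] [Module R F]
    (N : Submodule R F) (hsat : ∀ (c : R) (y : F), c ≠ 0 → c • y ∈ N → y ∈ N) :
    IsTorsionFree R (F ⧸ N) := by
  refine isTorsionFree_of_smul_eq_zero fun c x hc h => ?_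
  obtain ⟨y, rfl⟩ := N.mkQ_surjective x
  rw [← map_smul, Submodule.mkQ_apply, Submodule.Quotient.mk_eq_zero] at h
  rw [Submodule.mkQ_apply, Submodule.Quotient.mk_eq_zero]
  exact hsat c y hc h

/-- A finite reflexive module over a Noetherian domain is saturated in a finite free module. -/
theorem exists_saturated_embedding [IsNoetherianRing R] (M : Type v) [AddCommGroup M] [Module R M]
    [Module.Finite R M] [IsReflexive R M] :
    ∃ (n : ℕ) (f : M →ₗ[R] (Fin n → R)), Function.Injective f ∧
      ∀ (c : R) (y : Fin n → R), c ≠ 0 → c • y ∈ LinearMap.range f → y ∈ LinearMap.range f := by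
  have : Module.Finite R (Dual R M) := inferInstance
  obtain ⟨n, π, hπ⟩ := Module.Finite.exists_fin' R (Dual R M)
  let E : Dual R (Fin n → R) ≃ₗ[R] (Fin n → R) := ((Pi.basisFun R (Fin n)).toDualEquiv).symm
  refine ⟨n, E.toLinearMap ∘ₗ π.dualMap ∘ₗ Dual.eval R M,
    E.injective.comp ((LinearMap.dualMap_injective_of_surjective hπ).comp (bijective_dual_eval R M).1),
    fun c y hc hy => ?_⟩
  obtain ⟨m, hm⟩ := hy
  let ψ := E.symm y
  have hψ : π.dualMap (Dual.eval R M m) = c • ψ := by
    apply E.injective
    simpa [ψ] using hm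
  have hker : LinearMap.ker π ≤ LinearMap.ker ψ := by
    intro v hv
    have h := LinearMap.congr_fun hψ v
    simp only [LinearMap.dualMap_apply, LinearMap.mem_ker.mp hv, map_zero, LinearMap.smul_apply] at h
    exact eq_zero_of_smul_eq_zero hc h.symm
  let θ : Dual R (Dual R M) := ((LinearMap.ker π).liftQ ψ hker) ∘ₗ (π.quotKerEquivOfSurjective hπ).symm.toLinearMap
  obtain ⟨z, hz⟩ := (bijective_dual_eval R M).2 θ
  refine ⟨z, ?_⟩
  have : π.dualMap θ = ψ := by
    ext v
    simp [θ, LinearMap.quotKerEquivOfSurjective_symm_apply]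
  simp [hz, this, ψ]

end Groth.Calg3
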