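import Mathlib
import Groth.Prelude.Def_Found
import Groth.Agent.Calg1.Kaplansky

/-! Bass: projective modules of infinite rank over rings with `R/rad R` Noetherian. -/

namespace Groth.Calg3.Bass

open Submodule

universe u

variable {R : Type u} [CommRing R] {P : Type u} [AddCommGroup P] [Module R P]

/-- A submodule which is nowhere contained in a finitely generated submodule modulo a maximal ideal. -/
def Big (M : Submodule R P) : Prop :=
  ∀ 𝔪 : Ideal R, 𝔪.IsMaximal → ∀ t : Finset P, ¬ M ≤ span R (t : Set P) ⊔ 𝔪 • ⊤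

theorem big_top_of_infinite_rank [Module.Projective R P]
    (hP : ∀ (m : Ideal R) [m.IsMaximal],
      ¬ Module.Finite (Localization.AtPrime m) (LocalizedModule m.primeCompl P)) :
    Big (⊤ : Submodule R P) := by
  classical
  intro 𝔪 h𝔪 t hle
  let Rm := Localization.AtPrime 𝔪
  let Pm := LocalizedModule 𝔪.primeCompl P
  let f : P →ₗ[R] Pm := LocalizedModule.mkLinearMap 𝔪.primeCompl P
  haveI : Module.Projective Rm Pm :=
    Module.projective_of_isLocalizedModule (R := R) 𝔪.primeCompl f
  haveI : Module.Free Rm Pm := Groth.Calg1.free_of_projective Pm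
  let b := Module.Free.chooseBasis Rm Pm
  have hinf : Infinite (Module.Free.ChooseBasisIndex Rm Pm) := by
    by_contra h
    rw [not_infinite_iff_finite] at h
    exact hP 𝔪 (Module.Finite.of_basis b)
  obtain ⟨i, hi⟩ := Infinite.exists_notMem_finset (t.biUnion fun x => (b.repr (f x)).support)
  let φ : P →ₗ[R] Rm := (b.coord i).restrictScalars R ∘ₗ f
  let mm : Submodule R Rm := (IsLocalRing.maximalIdeal Rm).restrictScalars R
  have hmem : (⊤ : Submodule R P) ≤ mm.comap φ := by
    refine hle.trans (sup_le (span_le.mpr fun x hx => ?_) ?_)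
    · have : φ x = 0 := by
        show b.repr (f x) i = 0
        by_contra h
        exact hi (Finset.mem_biUnion.mpr ⟨x, hx, Finsupp.mem_support_iff.mpr h⟩)
      rw [SetLike.mem_coe, Submodule.mem_comap, this]
      exact zero_mem _
    · rw [smul_le]
      intro a ha x _
      rw [Submodule.mem_comap, map_smul, restrictScalars_mem, Algebra.smul_def]
      exact Ideal.mul_mem_right _ _ ((IsLocalization.AtPrime.to_map_mem_maximal_iff Rm 𝔪 a).mpr ha)
  obtain ⟨⟨p, s⟩, hps⟩ := IsLocalizedModule.surj 𝔪.primeCompl f (b i)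
  have h1 : algebraMap R Rm s * 1 = φ p := by
    have := congrArg ((b.coord i).restrictScalars R) hps
    rw [Submonoid.smul_def, map_smul, Algebra.smul_def] at this
    simpa [φ] using this
  have h2 : φ p ∈ IsLocalRing.maximalIdeal Rm := hmem (mem_top (x := p))
  rw [← h1, mul_one] at h2
  exact s.2 ((IsLocalization.AtPrime.to_map_mem_maximal_iff Rm 𝔪 _).mp h2)

theorem big_of_span_sup {M : Submodule R P} (hB : Big (⊤ : Submodule R P)) (t : Finset P)
    (h : span R (t : Set P) ⊔ M = ⊤) : Big M := by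
  classical
  intro 𝔪 h𝔪 t' hle
  refine hB 𝔪 h𝔪 (t ∪ t') ?_
  refine h.ge.trans ?_
  rw [Finset.coe_union, span_union, sup_assoc]
  exact sup_le_sup_left hle _

theorem big_range {e : P →ₗ[R] P} (he : e ∘ₗ e = e) (h : Big (LinearMap.range e)) :
    Big (⊤ : Submodule R (LinearMap.range e)) := by
  classical
  intro 𝔪 h𝔪 t hle
  refine h 𝔪 h𝔪 (t.image Subtype.val) ?_
  have := map_mono (f := (LinearMap.range e).subtype) hle
  rw [map_subtype_top, Submodule.map_sup, map_span, map_smul''] at this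
  refine this.trans (sup_le_sup (by simp) (smul_mono le_rfl le_top))

section

variable [IsNoetherianRing (R ⧸ (⊥ : Ideal R).jacobson)]
variable {X : Type u} (σ : P →ₗ[R] (X →₀ R))

/-- The elements of `M` whose coordinates in `E` lie in the Jacobson radical. -/
noncomputable def restr (M : Submodule R P) (E : Finset X) : Submodule R P :=
  M ⊓ ⨅ j ∈ E, Submodule.comap (Finsupp.lapply j ∘ₗ σ) ((⊥ : Ideal R).jacobson)

omit [IsNoetherianRing (R ⧸ (⊥ : Ideal R).jacobson)] in
theorem mem_restr {M : Submodule R P} {E : Finset X} {x : P} :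
    x ∈ restr σ M E ↔ x ∈ M ∧ ∀ j ∈ E, σ x j ∈ (⊥ : Ideal R).jacobson := by
  simp [restr]

theorem big_restr {M : Submodule R P} (hM : Big M) (E : Finset X) : Big (restr σ M E) := by
  classical
  set J := (⊥ : Ideal R).jacobson
  haveI : IsNoetherian R (R ⧸ J) := ⟨fun N => by
    let N' : Ideal (R ⧸ J) :=
      { carrier := N
        zero_mem' := N.zero_mem
        add_mem' := N.add_mem
        smul_mem' := fun c x hx => by
          obtain ⟨c, rfl⟩ := Ideal.Quotient.mk_surjective c
          exact N.smul_mem c hx }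
    have h := Submodule.FG.restrictScalars_of_surjective (R := R) (IsNoetherian.noetherian N')
      (by exact Ideal.Quotient.mk_surjective)
    exact h⟩
  let ψ : P →ₗ[R] (E → R ⧸ J) := LinearMap.pi fun j => J.mkQ ∘ₗ Finsupp.lapply (j : X) ∘ₗ σ
  obtain ⟨t, htM, ht⟩ : ∃ t : Finset P, (t : Set P) ⊆ M ∧ M.map ψ ≤ (span R (t : Set P)).map ψ := by
    obtain ⟨T, hT⟩ := IsNoetherian.noetherian (M.map ψ)
    have hsub : ∀ y ∈ T, ∃ x ∈ M, ψ x = y := fun y hy =>
      hT.le (subset_span hy)
    choose g hgM hg using hsub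
    refine ⟨T.attach.image fun y => g y.1 y.2, ?_, ?_⟩
    · intro x hx
      obtain ⟨y, -, rfl⟩ := Finset.mem_image.mp hx
      exact hgM _ _
    · conv_lhs => rw [← hT]
      rw [span_le]
      intro y hy
      exact ⟨_, subset_span (Finset.mem_coe.mpr (Finset.mem_image.mpr ⟨⟨y, hy⟩, Finset.mem_attach _ _, rfl⟩)), hg y hy⟩
  intro 𝔪 h𝔪 t' hle
  refine hM 𝔪 h𝔪 (t ∪ t') fun x hx => ?_
  obtain ⟨y, hy, hyx⟩ := ht (mem_map_of_mem hx)
  have hr : x - y ∈ restr σ M E := by
    refine (mem_restr σ).mpr ⟨M.sub_mem hx (span_le.mpr htM hy), fun j hj => ?_⟩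
    have := congrFun hyx ⟨j, hj⟩
    rw [map_sub, Finsupp.sub_apply]
    exact (Submodule.Quotient.eq J).mp this.symm
  rw [Finset.coe_union, span_union, sup_assoc, ← sub_add_cancel x y]
  exact add_mem (mem_sup_right (hle hr)) (mem_sup_left hy)

variable {π : (X →₀ R) →ₗ[R] P}

omit [IsNoetherianRing (R ⧸ (⊥ : Ideal R).jacobson)] in
theorem mem_smul_top_of_coords (hπσ : ∀ x, π (σ x) = x) (I : Ideal R) {x : P}
    (hx : ∀ j, σ x j ∈ I) : x ∈ I • (⊤ : Submodule R P) := by
  rw [← hπσ x, ← Finsupp.sum_single (σ x), map_finsuppSum]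
  refine sum_mem fun j _ => ?_
  show π (Finsupp.single j (σ x j)) ∈ _
  rw [← mul_one (σ x j), ← smul_eq_mul, ← Finsupp.smul_single, map_smul]
  exact smul_mem_smul (hx j) mem_top

theorem exists_mem_content (hπσ : ∀ x, π (σ x) = x) {M : Submodule R P} (hM : Big M) (s : P) :
    ∃ m ∈ M, Ideal.span (Set.range (σ (s + m))) = ⊤ := by
  classical
  set J := (⊥ : Ideal R).jacobson
  let C : P → Ideal (R ⧸ J) := fun x => (Ideal.span (Set.range (σ x))).map (Ideal.Quotient.mk J)
  obtain ⟨_, ⟨m, hm, rfl⟩, hmax⟩ := set_has_maximal_iff_noetherian.mpr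
    (inferInstance : IsNoetherianRing (R ⧸ J)) {I | ∃ m ∈ M, C (s + m) = I} ⟨_, 0, M.zero_mem, rfl⟩
  refine ⟨m, hm, ?_⟩
  by_contra hne
  let I := Ideal.span (Set.range (σ (s + m)))
  have hne' : I ⊔ J ≠ ⊤ := by
    intro h
    obtain ⟨a, ha, j, hj, haj⟩ := mem_sup.mp ((Ideal.eq_top_iff_one _).mp h)
    refine hne (Ideal.eq_top_of_isUnit_mem _ ha ?_)
    rw [eq_sub_of_add_eq haj, sub_eq_add_neg, ← mul_neg_one, add_comm]
    exact Ideal.mem_jacobson_bot.mp hj _
  obtain ⟨𝔪, h𝔪, hle⟩ := Ideal.exists_le_maximal _ hne'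
  obtain ⟨n, hn, hn𝔪⟩ : ∃ n ∈ restr σ M (σ (s + m)).support, ∃ j, σ n j ∉ 𝔪 := by
    by_contra h
    push Not at h
    exact big_restr σ hM _ 𝔪 h𝔪 ∅ fun n hn =>
      mem_sup_right (mem_smul_top_of_coords σ hπσ 𝔪 (h n hn))
  obtain ⟨hnM, hnE⟩ := (mem_restr σ).mp hn
  obtain ⟨j, hj⟩ := hn𝔪
  set E := (σ (s + m)).support
  have hcoord : ∀ i, Ideal.Quotient.mk J (σ (s + (m + n)) i) =
      if i ∈ E then Ideal.Quotient.mk J (σ (s + m) i) else Ideal.Quotient.mk J (σ n i) := fun i => by
    rw [← add_assoc, map_add σ (s + m) n, Finsupp.add_apply, map_add]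
    split_ifs with h
    · rw [Ideal.Quotient.eq_zero_iff_mem.mpr (hnE i h), add_zero]
    · rw [Finsupp.notMem_support_iff.mp h, map_zero, zero_add]
  have hjE : j ∉ E := fun h => hj (hle (mem_sup_right (hnE j h)))
  refine hmax _ ⟨m + n, M.add_mem hm hnM, rfl⟩ (lt_of_le_of_ne ?_ ?_)
  · simp only [C, Ideal.map_span, Ideal.span_le]
    rintro _ ⟨_, ⟨i, rfl⟩, rfl⟩
    by_cases h : i ∈ E
    · exact Ideal.subset_span ⟨_, ⟨i, rfl⟩, by rw [hcoord, if_pos h]⟩
    · rw [Finsupp.notMem_support_iff.mp h, map_zero]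
      exact zero_mem _
  · intro heq
    apply hj
    have h1 : Ideal.Quotient.mk J (σ n j) ∈ C (s + m) := by
      rw [heq, ← show _ = Ideal.Quotient.mk J (σ n j) from (hcoord j).trans (if_neg hjE)]
      exact Ideal.mem_map_of_mem _ (Ideal.subset_span ⟨j, rfl⟩)
    rw [Ideal.mem_quotient_iff_mem_sup] at h1
    exact hle h1

/-- `n` unimodular elements whose coordinates in `E` are in the radical, and dual forms killing
everything supported in `E`. -/
theorem exists_free (hπσ : ∀ x, π (σ x) = x) (hP : Big (⊤ : Submodule R P)) :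
    ∀ (n : ℕ) (E : Finset X), ∃ (u : Fin n → P) (a : Fin n → (X →₀ R)),
      (∀ i, ∀ j ∈ E, σ (u i) j ∈ (⊥ : Ideal R).jacobson) ∧ (∀ i, ∀ j ∈ E, a i j = 0) ∧
      IsUnit (Matrix.det (Matrix.of fun i k => (a i).sum fun j c => c * σ (u k) j)) := by
  classical
  intro n
  induction n with
  | zero => exact fun E => ⟨Fin.elim0, Fin.elim0, fun i => Fin.elim0 i, fun i => Fin.elim0 i, by simp⟩
  | succ n ih =>
    intro E
    obtain ⟨x, hx, hc⟩ := exists_mem_content σ hπσ (big_restr σ hP E) 0
    rw [zero_add] at hc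
    obtain ⟨c, hc⟩ := (Finsupp.mem_span_range_iff_exists_finsupp).mp
      (show (1 : R) ∈ span R (Set.range (σ x)) from (Ideal.eq_top_iff_one _).mp hc)
    let a₀ : X →₀ R := c.filter fun j => j ∉ E
    have ha₀ : IsUnit (a₀.sum fun j d => d * σ x j) := by
      have hsplit := Finsupp.filter_pos_add_filter_neg c (fun j => j ∈ E)
      rw [← hsplit, Finsupp.sum_add_index' (by simp) (by simp [add_mul])] at hc
      have hmem : (c.filter fun j => j ∈ E).sum (fun j d => d • σ x j) ∈ (⊥ : Ideal R).jacobson := by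
        refine sum_mem fun j hj => ?_
        have hjE : j ∈ E := by
          have := (Finsupp.mem_support_iff.mp hj)
          by_contra h
          exact this (Finsupp.filter_apply_neg (fun j => j ∈ E) c h)
        exact smul_mem _ _ (((mem_restr σ).mp hx).2 j hjE)
      have := Ideal.mem_jacobson_bot.mp hmem (-1)
      simp only [smul_eq_mul] at hc this
      rwa [mul_neg_one, neg_add_eq_sub, ← eq_sub_of_add_eq' hc] at this
    obtain ⟨u, a, hu, ha, hdet⟩ := ih (E ∪ a₀.support ∪ (σ x).support)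
    refine ⟨Fin.cons x u, Fin.cons a₀ a, ?_, ?_, ?_⟩
    · exact Fin.cases ((mem_restr σ).mp hx).2
        fun i j hj => hu i j (Finset.mem_union_left _ (Finset.mem_union_left _ hj))
    · exact Fin.cases (fun j hj => Finsupp.filter_apply_neg (fun j => j ∉ E) c (not_not.mpr hj))
        fun i j hj => ha i j (Finset.mem_union_left _ (Finset.mem_union_left _ hj))
    · rw [Matrix.det_succ_column_zero, Finset.sum_eq_single 0]
      · simp only [Fin.val_zero, pow_zero, one_mul, Matrix.of_apply, Fin.cons_zero]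
        refine ha₀.mul ?_
        convert hdet using 2
        ext i k
        simp
      · intro i _ hi
        obtain ⟨i, rfl⟩ := Fin.exists_succ_eq.mpr hi
        have : ((a i).sum fun j d => d * σ x j) = 0 := Finset.sum_eq_zero fun j hj => by
          by_cases h : j ∈ (σ x).support
          · show a i j * σ x j = 0
            rw [ha i j (Finset.mem_union_right _ h), zero_mul]
          · show a i j * σ x j = 0
            rw [Finsupp.notMem_support_iff.mp h, mul_zero]
        simp [Matrix.of_apply, this]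
      · exact fun h => absurd (Finset.mem_univ _) h

/-- Every element lies in a finite free direct summand. -/
theorem exists_free_summand (hπσ : ∀ x, π (σ x) = x) (hP : Big (⊤ : Submodule R P)) (s : P) :
    ∃ (n : ℕ) (ψ : (Fin n → R) →ₗ[R] P) (p : P →ₗ[R] (Fin n → R)),
      p ∘ₗ ψ = LinearMap.id ∧ s ∈ LinearMap.range ψ := by
  classical
  set E := (σ s).support
  let e := E.equivFin
  set n := E.card
  obtain ⟨u, a, hu, ha, hdet⟩ := exists_free σ hπσ hP n E
  let p : P →ₗ[R] (Fin n → R) := LinearMap.pi fun i =>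
    Finsupp.linearCombination R (fun j => (Finsupp.lapply j : (X →₀ R) →ₗ[R] R)) (a i) ∘ₗ σ +
      Finsupp.lapply (e.symm i : X) ∘ₗ σ
  have hp : ∀ x i, p x i = ((a i).sum fun j c => c * σ x j) + σ x (e.symm i) := fun x i => by
    simp [p, Finsupp.linearCombination_apply, Finsupp.sum, LinearMap.sum_apply]
  let c : Fin n → R := fun i => σ s (e.symm i)
  have hps : p s = c := funext fun i => by
    rw [hp, show ((a i).sum fun j d => d * σ s j) = 0 from Finset.sum_eq_zero fun j _ => ?_, zero_add]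
    by_cases h : j ∈ E
    · show a i j * σ s j = 0
      rw [ha i j h, zero_mul]
    · show a i j * σ s j = 0
      rw [Finsupp.notMem_support_iff.mp h, mul_zero]
  let U : (Fin n → R) →ₗ[R] P := Fintype.linearCombination R u
  set T := LinearMap.toMatrix' (p ∘ₗ U) with hT
  have hTdet : IsUnit T.det := by
    have hTA : T.map (Ideal.Quotient.mk (⊥ : Ideal R).jacobson) =
        (Matrix.of fun i k => (a i).sum fun j d => d * σ (u k) j).map
          (Ideal.Quotient.mk (⊥ : Ideal R).jacobson) := by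
      ext i k
      have hpU : T i k = p (u k) i := by
        simp [T, LinearMap.toMatrix'_apply, U, Fintype.linearCombination_apply, Pi.single_apply]
      rw [Matrix.map_apply, Matrix.map_apply, hpU, hp, Matrix.of_apply, map_add,
        Ideal.Quotient.eq_zero_iff_mem.mpr (hu k _ (e.symm i).2), add_zero]
    have h := congrArg Matrix.det hTA
    rw [← RingHom.mapMatrix_apply, ← RingHom.map_det, ← RingHom.mapMatrix_apply, ← RingHom.map_det,
      Ideal.Quotient.eq] at h
    obtain ⟨v, hv⟩ := hdet.exists_left_inv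
    have h1 := Ideal.mem_jacobson_bot.mp h v
    rw [sub_mul, mul_comm _ v, mul_comm _ v, hv, sub_add_cancel] at h1
    exact (IsUnit.mul_iff.mp h1).2
  let U' : (Fin n → R) →ₗ[R] P := U ∘ₗ Matrix.toLin' T⁻¹
  have hU' : p ∘ₗ U' = LinearMap.id := by
    rw [← LinearMap.comp_assoc, ← Matrix.toLin'_toMatrix' (p ∘ₗ U), ← hT, ← Matrix.toLin'_mul,
      Matrix.mul_nonsing_inv _ hTdet, Matrix.toLin'_one]
  let α : (Fin n → R) →ₗ[R] P :=
    Fintype.linearCombination R fun i => π (Finsupp.single (e.symm i : X) 1)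
  have hα : α c = s := by
    conv_rhs => rw [← hπσ s, ← Finsupp.sum_single (σ s), map_finsuppSum, Finsupp.sum,
      ← Finset.sum_coe_sort, ← e.symm.sum_comp]
    simp only [α, Fintype.linearCombination_apply, c]
    refine Finset.sum_congr rfl fun i _ => ?_
    rw [← map_smul, Finsupp.smul_single, smul_eq_mul, mul_one]
  refine ⟨n, U' + (LinearMap.id - U' ∘ₗ p) ∘ₗ α, p, ?_, c, ?_⟩
  · refine LinearMap.ext fun w => ?_
    have hU'' : ∀ w, p (U' w) = w := LinearMap.congr_fun hU'
    simp [hU'']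
  · simp [hα, hps]

end

theorem exists_free_summand' [IsNoetherianRing (R ⧸ (⊥ : Ideal R).jacobson)] [Module.Projective R P]
    (hP : Big (⊤ : Submodule R P)) (s : P) :
    ∃ (n : ℕ) (ψ : (Fin n → R) →ₗ[R] P) (p : P →ₗ[R] (Fin n → R)),
      p ∘ₗ ψ = LinearMap.id ∧ s ∈ LinearMap.range ψ := by
  obtain ⟨σ, hσ⟩ := Module.projective_def'.mp ‹Module.Projective R P›
  exact exists_free_summand σ (π := Finsupp.linearCombination R id) (LinearMap.congr_fun hσ) hP s

theorem free_of_countablyGenerated [IsNoetherianRing (R ⧸ (⊥ : Ideal R).jacobson)]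
    [Module.Projective R P] (hP : Big (⊤ : Submodule R P)) (hc : CAlg.IsCountablyGenerated R P) :
    Module.Free R P := by
  classical
  obtain ⟨S, hS, hspan⟩ := hc
  obtain ⟨g, hg⟩ : ∃ g : ℕ → P, S ⊆ Set.range g := by
    rcases S.eq_empty_or_nonempty with rfl | hne
    · exact ⟨0, Set.empty_subset _⟩
    · obtain ⟨g, hg⟩ := hS.exists_eq_range hne
      exact ⟨g, hg.le⟩
  let St := {e : P →ₗ[R] P // e ∘ₗ e = e ∧ ∃ t : Finset P, span R (t : Set P) ⊔ LinearMap.range e = ⊤}
  have step : ∀ (e : St) (x : P), ∃ (n : ℕ) (ψ : (Fin n → R) →ₗ[R] P) (q : P →ₗ[R] (Fin n → R)) (e' : St),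
      q ∘ₗ ψ = LinearMap.id ∧ e.1 ∘ₗ ψ = ψ ∧ q ∘ₗ e.1 = q ∧ e'.1 = e.1 - ψ ∘ₗ q ∧
        e.1 x ∈ LinearMap.range ψ := by
    rintro ⟨e, he, t, ht⟩ x
    let V := LinearMap.range e
    let r : P →ₗ[R] V := e.rangeRestrict
    have hr : r ∘ₗ V.subtype = LinearMap.id := LinearMap.ext fun v => by
      obtain ⟨w, hw⟩ := v.2
      refine Subtype.ext ?_
      show e v.1 = v.1
      rw [← hw]; exact LinearMap.congr_fun he w
    haveI : Module.Projective R V := Module.Projective.of_split V.subtype r hr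
    obtain ⟨n, ψ, p, hpψ, v, hv⟩ := exists_free_summand' (P := V)
      (big_range he (big_of_span_sup hP t ht)) (r x)
    let ψ' : (Fin n → R) →ₗ[R] P := V.subtype ∘ₗ ψ
    let q := p ∘ₗ r
    have h1 : e ∘ₗ ψ' = ψ' := LinearMap.ext fun w =>
      congrArg Subtype.val (LinearMap.congr_fun hr (ψ w))
    have h2 : q ∘ₗ e = q := LinearMap.ext fun w => congrArg p (Subtype.ext (LinearMap.congr_fun he w))
    have h3 : q ∘ₗ ψ' = LinearMap.id := by
      rw [LinearMap.comp_assoc, ← LinearMap.comp_assoc _ _ r, hr, LinearMap.id_comp, hpψ]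
    refine ⟨n, ψ', q, ⟨e - ψ' ∘ₗ q, ?_,
      t ∪ Finset.univ.image (fun i => ψ' (Pi.single i 1)), ?_⟩, h3, h1, h2, rfl, v, congrArg Subtype.val hv⟩
    · refine LinearMap.ext fun w => ?_
      have e1 := LinearMap.congr_fun he w
      have e2 := LinearMap.congr_fun h1 (q w)
      have e3 := LinearMap.congr_fun h2 w
      have e4 := LinearMap.congr_fun h3 (q w)
      simp only [LinearMap.comp_apply, LinearMap.sub_apply, LinearMap.id_apply] at e1 e2 e3 e4 ⊢
      simp only [map_sub, e1, e2, e3, e4, sub_self, map_zero, sub_zero]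
    · have hψ' : LinearMap.range ψ' ≤ span R (↑(t ∪ Finset.univ.image fun i => ψ' (Pi.single i 1)) : Set P) := by
        rintro _ ⟨w, rfl⟩
        rw [pi_eq_sum_univ' w, map_sum]
        refine sum_mem fun i _ => ?_
        rw [map_smul]
        exact smul_mem _ _ (subset_span (Finset.mem_coe.mpr
          (Finset.mem_union_right _ (Finset.mem_image.mpr ⟨i, Finset.mem_univ i, rfl⟩))))
      rw [eq_top_iff, ← ht]
      refine sup_le (le_sup_of_le_left (span_mono (by simp))) ?_
      rintro _ ⟨w, rfl⟩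
      rw [show e w = ψ' (q w) + (e - ψ' ∘ₗ q) w by simp]
      exact add_mem (mem_sup_left (hψ' ⟨_, rfl⟩)) (mem_sup_right ⟨_, rfl⟩)
  choose n ψ q nxt hid heψ hqe hnxt hx using step
  let E : ℕ → St := fun k => Nat.rec ⟨LinearMap.id, rfl, ∅, by simp⟩ (fun k e => nxt e (g k)) k
  let Q : ∀ k, P →ₗ[R] (Fin (n (E k) (g k)) → R) := fun k => q (E k) (g k)
  let F : ∀ k, (Fin (n (E k) (g k)) → R) →ₗ[R] P := fun k => ψ (E k) (g k)
  have hE : ∀ k, (E (k + 1)).1 = (E k).1 - F k ∘ₗ Q k := fun k => hnxt _ _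
  have hE_le : ∀ k l, k ≤ l → ∀ w, (E k).1 ((E l).1 w) = (E l).1 w ∧ (E l).1 ((E k).1 w) = (E l).1 w := by
    intro k l hkl
    induction l, hkl using Nat.le_induction with
    | base => exact fun w => ⟨LinearMap.congr_fun (E k).2.1 w, LinearMap.congr_fun (E k).2.1 w⟩
    | succ l hkl ih =>
      intro w
      have a1 : ∀ v, (E k).1 (F l v) = F l v := fun v => by
        rw [← show (E l).1 (F l v) = F l v from LinearMap.congr_fun (heψ _ _) v]
        exact (ih _).1
      have a2 : Q l ((E k).1 w) = Q l w := by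
        rw [← show Q l ((E l).1 ((E k).1 w)) = Q l ((E k).1 w) from LinearMap.congr_fun (hqe _ _) _,
          (ih w).2]
        exact LinearMap.congr_fun (hqe _ _) w
      simp only [hE, LinearMap.sub_apply, LinearMap.comp_apply, map_sub, (ih w).1, (ih w).2, a1, a2,
        and_self]
  have hQF : ∀ k v, Q k (F k v) = v := fun k v => LinearMap.congr_fun (hid _ _) v
  have hQF' : ∀ k l v, k ≠ l → Q k (F l v) = 0 := by
    intro k l v hkl
    rcases lt_or_gt_of_ne hkl with h | h
    · have hl : (E l).1 (F l v) = F l v := LinearMap.congr_fun (heψ _ _) v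
      have : (E (k + 1)).1 (F l v) = F l v := by rw [← hl]; exact (hE_le (k + 1) l h _).1
      rw [← this, hE, LinearMap.sub_apply, LinearMap.comp_apply, map_sub, hQF,
        show Q k ((E k).1 (F l v)) = Q k (F l v) from LinearMap.congr_fun (hqe _ _) _, sub_self]
    · rw [← show Q k ((E k).1 (F l v)) = Q k (F l v) from LinearMap.congr_fun (hqe _ _) _,
        ← (hE_le (l + 1) k h _).2, hE l, LinearMap.sub_apply, LinearMap.comp_apply, hQF,
        show (E l).1 (F l v) = F l v from LinearMap.congr_fun (heψ _ _) v, sub_self, map_zero, map_zero]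
  let ι := Σ k, Fin (n (E k) (g k))
  let v : ι → P := fun j => F j.1 (Pi.single j.2 1)
  have hrange : ∀ k, LinearMap.range (F k) ≤ span R (Set.range v) := by
    rintro k _ ⟨w, rfl⟩
    rw [pi_eq_sum_univ' w, map_sum]
    exact sum_mem fun i _ => by rw [map_smul]; exact smul_mem _ _ (subset_span ⟨⟨k, i⟩, rfl⟩)
  have hdec : ∀ k y, y - (E k).1 y ∈ span R (Set.range v) := by
    intro k y
    induction k with
    | zero => show y - y ∈ _; rw [sub_self]; exact zero_mem _
    | succ k ih =>
      rw [hE, LinearMap.sub_apply, sub_sub_eq_add_sub, add_comm, add_sub_assoc]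
      exact add_mem (hrange k (LinearMap.mem_range_self _ _)) ih
  refine Module.Free.of_basis (Module.Basis.mk (v := v) ?_ ?_)
  · rw [linearIndependent_iff']
    intro s c hs j hj
    obtain ⟨k, i⟩ := j
    have h := congrArg (fun z => Q k z i) hs
    simp only [map_sum, map_smul, map_zero, Finset.sum_apply, Pi.smul_apply, Pi.zero_apply] at h
    rw [Finset.sum_eq_single ⟨k, i⟩] at h
    · simpa [v, hQF] using h
    · rintro ⟨k', i'⟩ _ hne
      by_cases hk : k' = k
      · subst hk
        have : i' ≠ i := fun e => hne (by rw [e])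
        simp [v, hQF, this.symm]
      · simp [v, hQF' k k' _ (Ne.symm hk)]
    · exact fun h => absurd hj h
  · rw [← hspan, span_le]
    intro y hy
    obtain ⟨k, rfl⟩ := hg hy
    rw [← sub_add_cancel (g k) ((E k).1 (g k))]
    exact add_mem (hdec k _) (hrange k (hx (E k) (g k)))

end Groth.Calg3.Bass
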