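import Mathlib
import Groth.Agent.Calg3.DualTF

/-! Finitely presented modules over Bézout domains. -/

namespace Groth.Calg3.Bezout

open Module

universe u v

variable {R : Type u} [CommRing R] [IsDomain R] [IsBezout R]

theorem free_of_injective_pi : ∀ (n : ℕ) (M : Type v) [AddCommGroup M] [Module R M] [Module.Finite R M]
    (f : M →ₗ[R] (Fin n → R)), Function.Injective f → Module.Free R M := by
  intro n
  induction n with
  | zero =>
    intro M _ _ _ f hf
    haveI : Subsingleton M := hf.subsingleton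
    exact Module.Free.of_subsingleton R M
  | succ n ih =>
    intro M _ _ _ f hf
    let φ : M →ₗ[R] R := LinearMap.proj 0 ∘ₗ f
    have hfg : (LinearMap.range φ).FG := Module.Finite.iff_fg.mp (Module.Finite.range φ)
    haveI hfree : Module.Free R (LinearMap.range φ) := by
      obtain ⟨a, ha⟩ := IsBezout.isPrincipal_of_FG (LinearMap.range φ) hfg
      rw [ha]
      by_cases h0 : a = 0
      · subst h0
        haveI : Subsingleton (Submodule.span R {(0 : R)}) := by
          rw [Submodule.span_zero_singleton]; infer_instance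
        exact Module.Free.of_subsingleton _ _
      · exact Module.Free.of_equiv (LinearEquiv.toSpanNonzeroSingleton R R a h0)
    obtain ⟨s, hs⟩ := Module.projective_lifting_property φ.rangeRestrict LinearMap.id φ.surjective_rangeRestrict
    have hs' : ∀ y, φ.rangeRestrict (s y) = y := LinearMap.congr_fun hs
    have hk : ∀ x, x - s (φ.rangeRestrict x) ∈ LinearMap.ker φ := fun x => by
      rw [LinearMap.mem_ker, map_sub, sub_eq_zero]
      exact (congrArg Subtype.val (hs' (φ.rangeRestrict x))).symm
    let r : M →ₗ[R] LinearMap.ker φ :=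
      (LinearMap.id - s ∘ₗ φ.rangeRestrict).codRestrict (LinearMap.ker φ) hk
    have hker : ∀ x : LinearMap.ker φ, φ.rangeRestrict (x : M) = 0 := fun x =>
      Subtype.ext x.2
    have hr : ∀ x : LinearMap.ker φ, r x = x := fun x => Subtype.ext (by simp [r, hker])
    haveI : Module.Finite R (LinearMap.ker φ) := Module.Finite.of_surjective r fun x => ⟨x, hr x⟩
    haveI : Module.Free R (LinearMap.ker φ) :=
      ih (LinearMap.ker φ) (LinearMap.funLeft R R Fin.succ ∘ₗ f ∘ₗ (LinearMap.ker φ).subtype) (by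
        intro x y h
        refine Subtype.ext (hf (funext fun i => ?_))
        refine Fin.cases ?_ (fun j => congrFun h j) i
        exact (show φ x = φ y by rw [LinearMap.mem_ker.mp x.2, LinearMap.mem_ker.mp y.2]))
    refine Module.Free.of_equiv (R := R) (M := LinearMap.range φ × LinearMap.ker φ) (LinearEquiv.ofLinearMap
      (f := s.coprod (LinearMap.ker φ).subtype) (g := φ.rangeRestrict.prod r) ?_ ?_)
    · ext x
      simp [r]
    · refine LinearMap.prod_ext ?_ ?_ <;> ext x <;> simp [r, hs', hker]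

theorem free_of_torsionFree (M : Type v) [AddCommGroup M] [Module R M] [Module.Finite R M]
    [IsTorsionFree R M] : Module.Free R M := by
  obtain ⟨f, hf⟩ := Groth.Calg3.exists_injective_of_torsionFree R M
  exact free_of_injective_pi _ M f hf

/-- `s` factors through a finite sum of cyclic modules `R ⧸ (c)` with `c ≠ 0`. -/
def Factors (T : Type v) [AddCommGroup T] [Module R T] (s : R) : Prop :=
  ∃ (ι : Type) (_ : Fintype ι) (c : ι → R), (∀ j, c j ≠ 0) ∧
    ∃ (i : T →ₗ[R] ((j : ι) → R ⧸ Ideal.span {c j})) (p : ((j : ι) → R ⧸ Ideal.span {c j}) →ₗ[R] T),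
      ∀ x, p (i x) = s • x

theorem factors_local (m : Ideal R) [m.IsPrime] :
    ∀ (n : ℕ) (K : Submodule R (Fin n → R)), K.FG → (∀ z : Fin n → R, ∃ c : R, c ≠ 0 ∧ c • z ∈ K) →
      ∃ s, s ∉ m ∧ Factors ((Fin n → R) ⧸ K) s := by
  intro n
  induction n with
  | zero =>
    intro K _ _
    refine ⟨1, fun h => ‹m.IsPrime›.ne_top (m.eq_top_of_isUnit_mem h isUnit_one), Fin 0, inferInstance,
      Fin.elim0, fun j => Fin.elim0 j, 0, 0, fun x => ?_⟩
    obtain ⟨x, rfl⟩ := Submodule.Quotient.mk_surjective _ x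
    rw [Subsingleton.elim x 0, Submodule.Quotient.mk_zero]
    simp
  | succ n ih =>
    intro K hK htor
    obtain ⟨l, k, hk⟩ := Submodule.fg_iff_exists_fin_generating_family.mp hK
    let ent : Fin l × Fin (n + 1) → R := fun ji => k ji.1 ji.2
    obtain ⟨a, ha⟩ := IsBezout.isPrincipal_of_FG (Ideal.span (Set.range ent))
      (Submodule.fg_span (Set.finite_range _))
    have ha' : Ideal.span (Set.range ent) = Ideal.span {a} := ha
    have hdvd : ∀ w ∈ K, ∀ i, a ∣ w i := by
      intro w hw i
      rw [← Ideal.mem_span_singleton, ← ha']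
      rw [← hk] at hw
      induction hw using Submodule.span_induction with
      | mem x hx => obtain ⟨j, rfl⟩ := hx; exact Ideal.subset_span ⟨(j, i), rfl⟩
      | zero => exact Ideal.zero_mem _
      | add x y _ _ hx hy => exact Ideal.add_mem _ hx hy
      | smul r x _ hx => exact Ideal.mul_mem_left _ r hx
    have ha0 : a ≠ 0 := by
      rintro rfl
      obtain ⟨c, hc, hcK⟩ := htor (Pi.single 0 1)
      have := hdvd _ hcK 0
      simp [hc] at this
    choose u hu using fun ji : Fin l × Fin (n + 1) =>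
      hdvd (k ji.1) (hk ▸ Submodule.subset_span ⟨ji.1, rfl⟩) ji.2
    obtain ⟨⟨j, i₀⟩, hj⟩ : ∃ ji, u ji ∉ m := by
      by_contra hno
      push Not at hno
      obtain ⟨lam, hlam⟩ := (Submodule.mem_span_range_iff_exists_fun R).mp
        (show a ∈ Submodule.span R (Set.range ent) from ha'.ge (Ideal.mem_span_singleton_self a))
      have : a * (∑ ji, lam ji * u ji) = a * 1 := by
        rw [mul_one, Finset.mul_sum]
        conv_rhs => rw [← hlam]
        exact Finset.sum_congr rfl fun ji _ => by simp only [ent, hu ji, smul_eq_mul]; ring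
      have h1 := mul_left_cancel₀ ha0 this
      exact ‹m.IsPrime›.ne_top (m.eq_top_of_isUnit_mem
        (h1 ▸ m.sum_mem fun ji _ => m.mul_mem_left _ (hno ji)) isUnit_one)
    let v : Fin (n + 1) → R := fun i => u (j, i)
    set s := v i₀ with hs
    have hav : a • v ∈ K := by
      have : a • v = k j := funext fun i => (hu (j, i)).symm
      rw [this, ← hk]; exact Submodule.subset_span ⟨j, rfl⟩
    let π : (Fin (n + 1) → R) →ₗ[R] (Fin n → R) :=
      LinearMap.pi fun i => s • (LinearMap.proj (i₀.succAbove i) : (Fin (n + 1) → R) →ₗ[R] R)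
        - v (i₀.succAbove i) • (LinearMap.proj i₀ : (Fin (n + 1) → R) →ₗ[R] R)
    let ρ : (Fin n → R) →ₗ[R] (Fin (n + 1) → R) :=
      LinearMap.pi fun i => Fin.succAboveCases i₀ (0 : (Fin n → R) →ₗ[R] R)
        (fun i => LinearMap.proj i) i
    have hρ0 : ∀ z, ρ z i₀ = 0 := fun z => by simp [ρ]
    have hρ1 : ∀ z i, ρ z (i₀.succAbove i) = z i := fun z i => by simp [ρ]
    have hdec : ∀ w, w i₀ • v + ρ (π w) = s • w := by
      intro w
      funext i
      rcases Fin.eq_self_or_eq_succAbove i₀ i with rfl | ⟨i', rfl⟩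
      · simp [hρ0, s, mul_comm]
      · simp [hρ1, π]; ring
    have hπρ : ∀ z, π (ρ z) = s • z := fun z => funext fun i => by simp [π, hρ0, hρ1]
    have hKρ : K.map π ≤ K.comap ρ := by
      rintro _ ⟨w, hw, rfl⟩
      obtain ⟨q, hq⟩ := hdvd w hw i₀
      rw [Submodule.mem_comap, eq_sub_of_add_eq' (hdec w), hq, mul_comm, mul_smul]
      exact K.sub_mem (K.smul_mem s hw) (K.smul_mem q hav)
    obtain ⟨s', hs', N, _, c, hc, i', p', hip⟩ := ih (K.map π) (hK.map π) fun z => by
      obtain ⟨c, hc, hcz⟩ := htor (ρ z)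
      refine ⟨c * s, mul_ne_zero hc fun h => hj ?_, ?_⟩
      · have h' : u (j, i₀) = 0 := h
        rw [h']; exact m.zero_mem
      · rw [mul_smul, ← hπρ, ← map_smul]
        exact Submodule.mem_map_of_mem hcz
    let πq : ((Fin (n + 1) → R) ⧸ K) →ₗ[R] (Fin n → R) ⧸ K.map π :=
      Submodule.mapQ _ _ π (Submodule.le_comap_map π K)
    let ρq : ((Fin n → R) ⧸ K.map π) →ₗ[R] (Fin (n + 1) → R) ⧸ K := Submodule.mapQ _ _ ρ hKρ
    let cd : ((Fin (n + 1) → R) ⧸ K) →ₗ[R] R ⧸ Ideal.span {a} :=
      Submodule.mapQ _ _ (LinearMap.proj i₀) fun w hw => Ideal.mem_span_singleton.mpr (hdvd w hw i₀)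
    let qv : (R ⧸ Ideal.span {a}) →ₗ[R] (Fin (n + 1) → R) ⧸ K :=
      Submodule.mapQ _ _ (LinearMap.toSpanSingleton R (Fin (n + 1) → R) v) fun r hr => by
        obtain ⟨q, rfl⟩ := Ideal.mem_span_singleton.mp hr
        rw [Submodule.mem_comap, LinearMap.toSpanSingleton_apply, mul_comm, mul_smul]
        exact K.smul_mem q hav
    let c' : Unit ⊕ N → R := Sum.elim (fun _ => a) c
    have hsum : ∀ x, qv (cd x) + ρq (πq x) = s • x := fun x => by
      obtain ⟨w, rfl⟩ := Submodule.Quotient.mk_surjective _ x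
      simp only [qv, cd, ρq, πq, Submodule.mapQ_apply, LinearMap.toSpanSingleton_apply,
        LinearMap.proj_apply, ← Submodule.Quotient.mk_add, ← Submodule.Quotient.mk_smul, hdec]
    let e : (∀ j, R ⧸ Ideal.span {c' j}) ≃ₗ[R] (R ⧸ Ideal.span {a}) × ∀ j, R ⧸ Ideal.span {c j} :=
      { toFun := fun z => (z (Sum.inl ()), fun j => z (Sum.inr j))
        invFun := fun z j => match j with | Sum.inl _ => z.1 | Sum.inr j => z.2 j
        map_add' := fun z w => rfl
        map_smul' := fun r z => rfl
        left_inv := fun z => funext fun i => by rcases i with _ | i <;> rfl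
        right_inv := fun z => rfl }
    refine ⟨s' * s, ‹m.IsPrime›.mul_notMem hs' hj, Unit ⊕ N, inferInstance, c', fun j => by rcases j with _ | j; exacts [ha0, hc j],
      e.symm.toLinearMap ∘ₗ cd.prod (i' ∘ₗ πq),
      ((s' • qv).coprod (ρq ∘ₗ p')) ∘ₗ e.toLinearMap, fun x => ?_⟩
    simp only [LinearMap.comp_apply, LinearEquiv.coe_coe, e.apply_symm_apply, LinearMap.prod_apply,
      Function.prod, LinearMap.coprod_apply, LinearMap.smul_apply, hip, map_smul]
    rw [mul_smul, ← hsum x, smul_add]

theorem factors_one (T : Type v) [AddCommGroup T] [Module R T] [Module.FinitePresentation R T]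
    (hT : Module.IsTorsion R T) : Factors T (1 : R) := by
  obtain ⟨n, K, e, hK⟩ := Module.FinitePresentation.exists_fin R T
  have htor : ∀ z, ∃ c : R, c ≠ 0 ∧ c • z ∈ K := fun z => by
    obtain ⟨c, hc⟩ := @hT (e.symm (Submodule.Quotient.mk z))
    refine ⟨c, nonZeroDivisors.ne_zero c.2, (Submodule.Quotient.mk_eq_zero K).mp ?_⟩
    rw [Submodule.Quotient.mk_smul, ← e.apply_symm_apply (Submodule.Quotient.mk z), ← map_smul]
    exact (congrArg e hc).trans (map_zero e)
  let S : Ideal R :=
    { carrier := {s | Factors T s}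
      zero_mem' := ⟨Fin 0, inferInstance, Fin.elim0, fun j => Fin.elim0 j, 0, 0, fun x => by simp⟩
      add_mem' := by
        rintro s t ⟨a, _, c, hc, i, p, h⟩ ⟨b, _, d, hd, i', p', h'⟩
        let E : (∀ j, R ⧸ Ideal.span {Sum.elim c d j}) ≃ₗ[R]
            (∀ j, R ⧸ Ideal.span {c j}) × (∀ j, R ⧸ Ideal.span {d j}) :=
          { toFun := fun z => (fun j => z (Sum.inl j), fun j => z (Sum.inr j))
            invFun := fun z j => match j with | Sum.inl j => z.1 j | Sum.inr j => z.2 j
            map_add' := fun z w => rfl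
            map_smul' := fun r z => rfl
            left_inv := fun z => funext fun i => by rcases i with i | i <;> rfl
            right_inv := fun z => rfl }
        refine ⟨a ⊕ b, inferInstance, Sum.elim c d, fun j => by rcases j with j | j; exacts [hc j, hd j],
          E.symm.toLinearMap ∘ₗ i.prod i', p.coprod p' ∘ₗ E.toLinearMap, fun x => ?_⟩
        simp only [LinearMap.comp_apply, LinearEquiv.coe_coe, LinearEquiv.apply_symm_apply,
          LinearMap.prod_apply, Function.prod, LinearMap.coprod_apply, h, h']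
        exact (add_smul s t x).symm
      smul_mem' := by
        rintro r s ⟨a, _, c, hc, i, p, h⟩
        exact ⟨a, inferInstance, c, hc, i, r • p, fun x => by rw [LinearMap.smul_apply, h, smul_eq_mul, mul_smul]⟩ }
  by_contra hne
  obtain ⟨m, hm, hle⟩ := Ideal.exists_le_maximal S fun h => hne ((Ideal.eq_top_iff_one S).mp h)
  obtain ⟨s, hs, a, _, c, hc, i, p, h⟩ := factors_local m n K hK htor
  exact hs (hle ⟨a, inferInstance, c, hc, i ∘ₗ e.toLinearMap, e.symm.toLinearMap ∘ₗ p, fun x => by simp [h]⟩)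

end Groth.Calg3.Bezout
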