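import Mathlib
import Groth.Prelude.Def_W4c6equivkfinstabCyc

/-! Cyclotomic quotients of group rings: primes, kernels, coprimality. -/

set_option autoImplicit false
set_option linter.unusedSectionVars false
set_option linter.style.haveILetI false

noncomputable section

universe u v

open W4c6equivkfinstab Polynomial

namespace Groth.Calg3.CycGroupAlg

variable (Λ : Type u) [CommRing Λ] {M : Type v} [AddCommGroup M]

/-- the group-like element of `a` -/
abbrev gl (a : M) : AddMonoidAlgebra Λ M := AddMonoidAlgebra.single a 1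

theorem gl_pow (a : M) (n : ℕ) : gl Λ a ^ n = gl Λ (n • a) := by
  rw [gl, AddMonoidAlgebra.single_pow, one_pow]

theorem gl_zero : gl Λ (0 : M) = 1 := rfl

theorem gl_add (a b : M) : gl Λ (a + b) = gl Λ a * gl Λ b := by
  rw [gl, gl, gl, AddMonoidAlgebra.single_mul_single, one_mul]

theorem quotMap_gl (B : AddSubgroup M) (a : M) :
    quotMap Λ M B (gl Λ a) = gl Λ (a : M ⧸ B) :=
  AddMonoidAlgebra.mapDomain_single ..

/-- `[b] - 1` lies in the kernel of `quotMap` -/
theorem gl_sub_one_mem_ker (B : AddSubgroup M) {b : M} (hb : b ∈ B) :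
    gl Λ b - 1 ∈ RingHom.ker (quotMap Λ M B) := by
  rw [RingHom.mem_ker, map_sub, map_one, quotMap_gl, (QuotientAddGroup.eq_zero_iff b).mpr hb, gl_zero, sub_self]

theorem gl_sub_mem_ker (B : AddSubgroup M) {a b : M} (h : (a : M ⧸ B) = b) :
    gl Λ a - gl Λ b ∈ RingHom.ker (quotMap Λ M B) := by
  rw [RingHom.mem_ker, map_sub, quotMap_gl, quotMap_gl, h, sub_self]

theorem quotMap_surjective (B : AddSubgroup M) : Function.Surjective (quotMap Λ M B) := by
  intro y
  induction y using AddMonoidAlgebra.induction_linear with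
  | zero => exact ⟨0, map_zero _⟩
  | add f g hf hg =>
    obtain ⟨a, rfl⟩ := hf
    obtain ⟨b, rfl⟩ := hg
    exact ⟨a + b, map_add _ a b⟩
  | single q r =>
    obtain ⟨a, rfl⟩ := QuotientAddGroup.mk'_surjective B q
    exact ⟨AddMonoidAlgebra.single a r, AddMonoidAlgebra.mapDomain_single ..⟩

theorem ker_quotMap_le (B : AddSubgroup M) (T : Ideal (AddMonoidAlgebra Λ M))
    (hT : ∀ b ∈ B, gl Λ b - 1 ∈ T) : RingHom.ker (quotMap Λ M B) ≤ T := by
  classical
  intro x hx
  let s : M ⧸ B → M := fun q => q.out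
  let L : AddMonoidAlgebra Λ (M ⧸ B) →+ AddMonoidAlgebra Λ M :=
    { toFun := fun y => AddMonoidAlgebra.mapDomain s y
      map_zero' := AddMonoidAlgebra.mapDomain_zero ..
      map_add' := fun a b => AddMonoidAlgebra.mapDomain_add .. }
  have key : ∀ y : AddMonoidAlgebra Λ M, y - L (quotMap Λ M B y) ∈ T := by
    intro y
    induction y using AddMonoidAlgebra.induction_linear with
    | zero => simp
    | add f g hf hg => rw [map_add, map_add, add_sub_add_comm]; exact T.add_mem hf hg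
    | single a r =>
      have h1 : L (quotMap Λ M B (AddMonoidAlgebra.single a r)) = AddMonoidAlgebra.single (s a) r := by
        have : quotMap Λ M B (AddMonoidAlgebra.single a r) = AddMonoidAlgebra.single (a : M ⧸ B) r :=
          AddMonoidAlgebra.mapDomain_single ..
        rw [this]; exact AddMonoidAlgebra.mapDomain_single ..
      rw [h1]
      have hb : a - s a ∈ B := by
        rw [← QuotientAddGroup.eq_zero_iff, QuotientAddGroup.mk_sub, QuotientAddGroup.out_eq', sub_self]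
      have h2 : AddMonoidAlgebra.single a r - AddMonoidAlgebra.single (s a) r =
          AddMonoidAlgebra.single (s a) r * (gl Λ (a - s a) - 1) := by
        rw [mul_sub, mul_one, gl, AddMonoidAlgebra.single_mul_single, mul_one, add_sub_cancel]
      rw [h2]
      exact T.mul_mem_left _ (hT _ hb)
  have := key x
  rwa [RingHom.mem_ker.mp hx, map_zero, sub_zero] at this

theorem cycQuotMap_surjective (B : AddSubgroup M) : Function.Surjective (cycQuotMap Λ M B) :=
  Ideal.Quotient.mk_surjective.comp (quotMap_surjective Λ B)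

theorem ker_cycQuotMap_le (B : AddSubgroup M) (T : Ideal (AddMonoidAlgebra Λ M))
    (hT : ∀ b ∈ B, gl Λ b - 1 ∈ T)
    (hT' : ∀ a : M, AddSubgroup.zmultiples (a : M ⧸ B) = ⊤ →
      aeval (gl Λ a) (cyclotomic (Nat.card (M ⧸ B)) Λ) ∈ T) :
    RingHom.ker (cycQuotMap Λ M B) ≤ T := by
  intro x hx
  rw [cycQuotMap, RingHom.mem_ker, RingHom.comp_apply, Ideal.Quotient.eq_zero_iff_mem] at hx
  have hle : cycIdeal Λ (M ⧸ B) ≤ T.map (quotMap Λ M B) := by
    refine Ideal.span_le.mpr ?_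
    rintro _ ⟨g, hg, rfl⟩
    obtain ⟨a, rfl⟩ := QuotientAddGroup.mk'_surjective B g
    have h := Ideal.mem_map_of_mem (quotMap Λ M B) (hT' a hg)
    rw [aeval_def, hom_eval₂, quotMap_gl] at h
    have : (quotMap Λ M B).comp (algebraMap Λ (AddMonoidAlgebra Λ M)) = algebraMap Λ _ := by
      refine RingHom.ext fun r => ?_
      show quotMap Λ M B (AddMonoidAlgebra.single 0 r) = AddMonoidAlgebra.single 0 r
      exact AddMonoidAlgebra.mapDomain_single ..
    rw [this] at h
    exact h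
  have : x ∈ (T.map (quotMap Λ M B)).comap (quotMap Λ M B) := hle hx
  rw [Ideal.comap_map_of_surjective' _ (quotMap_surjective Λ B)] at this
  exact sup_le le_rfl (ker_quotMap_le Λ B T hT) this

theorem ker_quotMap_le_ker_cycQuotMap {B₀ B : AddSubgroup M} (h : B₀ ≤ B) :
    RingHom.ker (quotMap Λ M B₀) ≤ RingHom.ker (cycQuotMap Λ M B) :=
  ker_quotMap_le Λ B₀ _ fun _ hb => by
    have h' := gl_sub_one_mem_ker Λ B (h hb)
    rw [RingHom.mem_ker] at h' ⊢
    rw [cycQuotMap, RingHom.comp_apply, h', map_zero]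

theorem phi_mem_ker (B : AddSubgroup M) {a : M} (ha : AddSubgroup.zmultiples (a : M ⧸ B) = ⊤) :
    aeval (gl Λ a) (cyclotomic (Nat.card (M ⧸ B)) Λ) ∈ RingHom.ker (cycQuotMap Λ M B) := by
  rw [RingHom.mem_ker, cycQuotMap, RingHom.comp_apply, Ideal.Quotient.eq_zero_iff_mem, aeval_def, hom_eval₂,
    quotMap_gl]
  have : (quotMap Λ M B).comp (algebraMap Λ (AddMonoidAlgebra Λ M)) = algebraMap Λ _ := by
    refine RingHom.ext fun r => ?_
    show quotMap Λ M B (AddMonoidAlgebra.single 0 r) = AddMonoidAlgebra.single 0 r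
    exact AddMonoidAlgebra.mapDomain_single ..
  rw [this]
  exact Ideal.subset_span ⟨_, ha, rfl⟩

section Prime

variable {Λ} (P : Ideal (AddMonoidAlgebra Λ M)) [P.IsPrime]

/-- the character of a prime -/
def chi : Multiplicative M →* AddMonoidAlgebra Λ M ⧸ P :=
  (Ideal.Quotient.mk P).toMonoidHom.comp (AddMonoidAlgebra.of Λ M)

theorem chi_apply (a : M) : chi P (Multiplicative.ofAdd a) = Ideal.Quotient.mk P (gl Λ a) := rfl

/-- the subgroup attached to a prime -/
def subOf : AddSubgroup M where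
  carrier := {a | gl Λ a - 1 ∈ P}
  zero_mem' := by simp [gl_zero]
  add_mem' {a b} ha hb := by
    simp only [Set.mem_ofPred_eq] at ha hb ⊢
    rw [show gl Λ (a + b) - 1 = gl Λ a * (gl Λ b - 1) + (gl Λ a - 1) by rw [gl_add]; ring]
    exact P.add_mem (P.mul_mem_left _ hb) ha
  neg_mem' {a} ha := by
    simp only [Set.mem_ofPred_eq] at ha ⊢
    have : gl Λ (-a) - 1 = -(gl Λ (-a) * (gl Λ a - 1)) := by
      rw [mul_sub, mul_one, ← gl_add, neg_add_cancel, gl_zero]; ring
    rw [this]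
    exact P.neg_mem (P.mul_mem_left _ ha)

theorem mem_subOf {a : M} : a ∈ subOf P ↔ Ideal.Quotient.mk P (gl Λ a) = 1 := by
  rw [← map_one (Ideal.Quotient.mk P), Ideal.Quotient.eq]; rfl

theorem addOrderOf_eq (a : M) :
    addOrderOf (a : M ⧸ subOf P) = orderOf (Ideal.Quotient.mk P (gl Λ a)) := by
  refine Nat.dvd_antisymm ?_ ?_
  · refine addOrderOf_dvd_of_nsmul_eq_zero ?_
    rw [← QuotientAddGroup.mk_nsmul, QuotientAddGroup.eq_zero_iff, mem_subOf, ← gl_pow, map_pow, pow_orderOf_eq_one]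
  · refine orderOf_dvd_of_pow_eq_one ?_
    rw [← map_pow, gl_pow, ← mem_subOf, ← QuotientAddGroup.eq_zero_iff, QuotientAddGroup.mk_nsmul,
      addOrderOf_nsmul_eq_zero]

theorem aeval_mk (a : M) (d : ℕ) :
    Ideal.Quotient.mk P (aeval (gl Λ a) (cyclotomic d Λ)) =
      (cyclotomic d (AddMonoidAlgebra Λ M ⧸ P)).eval (Ideal.Quotient.mk P (gl Λ a)) := by
  rw [aeval_def, hom_eval₂, ← eval_map, map_cyclotomic]

theorem cast_ne_zero {d : ℕ} (hd : IsUnit (d : Λ)) : (d : AddMonoidAlgebra Λ M ⧸ P) ≠ 0 := by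
  have h := hd.map ((Ideal.Quotient.mk P).comp (algebraMap Λ (AddMonoidAlgebra Λ M)))
  rw [map_natCast] at h
  exact h.ne_zero

theorem subOf_eq {B : AddSubgroup M} [IsAddCyclic (M ⧸ B)] (hu : IsUnit (B.index : Λ))
    (hP : RingHom.ker (cycQuotMap Λ M B) ≤ P) : subOf P = B := by
  have hle : B ≤ subOf P := fun b hb => hP (ker_quotMap_le_ker_cycQuotMap Λ le_rfl (gl_sub_one_mem_ker Λ B hb))
  refine le_antisymm (fun a ha => ?_) hle
  obtain ⟨g', hg'⟩ := (IsAddCyclic.exists_zsmul_surjective : ∃ g : M ⧸ B, Function.Surjective fun k : ℤ => k • g)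
  obtain ⟨g, rfl⟩ := QuotientAddGroup.mk'_surjective B g'
  have hgen : AddSubgroup.zmultiples (g : M ⧸ B) = ⊤ := by
    rw [eq_top_iff]
    intro x _
    obtain ⟨k, hk⟩ := hg' x
    exact ⟨k, hk⟩
  have hcard : Nat.card (M ⧸ B) = addOrderOf (g : M ⧸ B) := by
    rw [← Nat.card_zmultiples, hgen, AddSubgroup.card_top]
  have hroot : IsPrimitiveRoot (Ideal.Quotient.mk P (gl Λ g)) (Nat.card (M ⧸ B)) := by
    haveI : NeZero ((Nat.card (M ⧸ B) : ℕ) : AddMonoidAlgebra Λ M ⧸ P) := ⟨cast_ne_zero P hu⟩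
    rw [← isRoot_cyclotomic_iff, IsRoot.def, ← aeval_mk, Ideal.Quotient.eq_zero_iff_mem]
    exact hP (phi_mem_ker Λ B hgen)
  have hord : addOrderOf (g : M ⧸ subOf P) = addOrderOf (g : M ⧸ B) := by
    rw [addOrderOf_eq, ← hroot.eq_orderOf, hcard]
  obtain ⟨k, hk⟩ := hg' (a : M ⧸ B)
  have hk' : a - k • g ∈ B := by
    rw [← QuotientAddGroup.eq_zero_iff, QuotientAddGroup.mk_sub, QuotientAddGroup.mk_zsmul, sub_eq_zero]
    exact hk.symm
  have hkg : k • g ∈ subOf P := by
    have := (subOf P).sub_mem ha (hle hk')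
    rwa [sub_sub_cancel] at this
  rw [← QuotientAddGroup.eq_zero_iff, QuotientAddGroup.mk_zsmul, ← addOrderOf_dvd_iff_zsmul_eq_zero, hord,
    addOrderOf_dvd_iff_zsmul_eq_zero] at hkg
  rw [← QuotientAddGroup.eq_zero_iff, ← hkg]
  exact hk.symm

variable {B₀ : AddSubgroup M} [B₀.FiniteIndex] (hK : RingHom.ker (quotMap Λ M B₀) ≤ P)

include hK in
theorem le_subOf : B₀ ≤ subOf P := fun _ hb => hK (gl_sub_one_mem_ker Λ B₀ hb)

include hK in
theorem subOf_cyclic_and_le : IsAddCyclic (M ⧸ subOf P) ∧ RingHom.ker (cycQuotMap Λ M (subOf P)) ≤ P := by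
  have := AddSubgroup.finiteIndex_of_le (le_subOf P hK)
  have : Finite (M ⧸ subOf P) := AddSubgroup.finite_quotient_of_finiteIndex
  let f : Multiplicative (M ⧸ subOf P) →* AddMonoidAlgebra Λ M ⧸ P :=
    AddMonoidHom.toMultiplicativeLeft
      (QuotientAddGroup.lift (subOf P) (MonoidHom.toAdditiveRight (chi P))
        (fun a ha => (mem_subOf P).mp ha))
  have hf : ∀ a : M, f (Multiplicative.ofAdd (a : M ⧸ subOf P)) = Ideal.Quotient.mk P (gl Λ a) := fun a => rfl
  have hinj : Function.Injective f := by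
    intro x y hxy
    obtain ⟨a, rfl⟩ : ∃ a : M, Multiplicative.ofAdd (a : M ⧸ subOf P) = x :=
      (Multiplicative.ofAdd.surjective.comp QuotientAddGroup.mk_surjective) x
    obtain ⟨b, rfl⟩ : ∃ b : M, Multiplicative.ofAdd (b : M ⧸ subOf P) = y :=
      (Multiplicative.ofAdd.surjective.comp QuotientAddGroup.mk_surjective) y
    refine congrArg Multiplicative.ofAdd ?_
    rw [QuotientAddGroup.eq, mem_subOf, gl_add, map_mul]
    have hxy' : Ideal.Quotient.mk P (gl Λ a) = Ideal.Quotient.mk P (gl Λ b) := hxy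
    rw [← hxy', ← map_mul, ← gl_add, neg_add_cancel, gl_zero, map_one]
  have hc : IsCyclic (Multiplicative (M ⧸ subOf P)) := isCyclic_of_injective_ringHom f hinj
  refine ⟨isCyclic_multiplicative_iff.mp hc, ker_cycQuotMap_le Λ _ _ (fun b hb => hb) fun a ha => ?_⟩
  rw [← Ideal.Quotient.eq_zero_iff_mem, aeval_mk]
  have hcard : Nat.card (M ⧸ subOf P) = orderOf (Ideal.Quotient.mk P (gl Λ a)) := by
    rw [← addOrderOf_eq, ← Nat.card_zmultiples, ha, AddSubgroup.card_top]
  have hpos : 0 < orderOf (Ideal.Quotient.mk P (gl Λ a)) := hcard ▸ Nat.card_pos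
  rw [hcard]
  exact IsPrimitiveRoot.isRoot_cyclotomic hpos (IsPrimitiveRoot.orderOf _)

include hK in
/-- the local annihilator -/
theorem exists_notMem_mul_mem (hu : IsUnit (B₀.index : Λ)) :
    ∃ e ∉ P, ∀ x ∈ RingHom.ker (cycQuotMap Λ M (subOf P)), e * x ∈ RingHom.ker (quotMap Λ M B₀) := by
  classical
  have : Finite (M ⧸ B₀) := AddSubgroup.finite_quotient_of_finiteIndex
  letI := Fintype.ofFinite (M ⧸ B₀)
  set n := B₀.index with hn
  have hn0 : n ≠ 0 := AddSubgroup.FiniteIndex.index_ne_zero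
  let ord : M ⧸ B₀ → ℕ := fun q => addOrderOf (q.out : M ⧸ subOf P)
  let ε : M ⧸ B₀ → AddMonoidAlgebra Λ M := fun q =>
    ∏ d ∈ n.divisors.erase (ord q), aeval (gl Λ q.out) (cyclotomic d Λ)
  have hnsmul : ∀ a : M, n • a ∈ B₀ := fun a => by
    rw [← QuotientAddGroup.eq_zero_iff, QuotientAddGroup.mk_nsmul, hn, AddSubgroup.index, card_nsmul_eq_zero']
  refine ⟨∏ q, ε q, fun h => ?_, ?_⟩
  · rw [Ideal.IsPrime.prod_mem_iff] at h
    obtain ⟨q, -, hq⟩ := h
    rw [Ideal.IsPrime.prod_mem_iff] at hq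
    obtain ⟨d, hd, hd'⟩ := hq
    rw [Finset.mem_erase, Nat.mem_divisors] at hd
    haveI : NeZero ((d : ℕ) : AddMonoidAlgebra Λ M ⧸ P) :=
      ⟨cast_ne_zero P (isUnit_of_dvd_unit (Nat.cast_dvd_cast hd.2.1) hu)⟩
    rw [← Ideal.Quotient.eq_zero_iff_mem, aeval_mk, ← IsRoot.def, isRoot_cyclotomic_iff] at hd'
    exact hd.1 (by rw [hd'.eq_orderOf, ← addOrderOf_eq])
  · let T : Ideal (AddMonoidAlgebra Λ M) :=
      Submodule.comap (LinearMap.mulLeft (AddMonoidAlgebra Λ M) (∏ q, ε q)) (RingHom.ker (quotMap Λ M B₀))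
    have key : ∀ a : M, aeval (gl Λ a) (cyclotomic (addOrderOf (a : M ⧸ subOf P)) Λ) ∈ T := by
      intro a
      set q : M ⧸ B₀ := (a : M ⧸ B₀) with hq
      have hqa : ((q.out : M) : M ⧸ B₀) = (a : M ⧸ B₀) := by rw [QuotientAddGroup.out_eq']
      have hsame : (q.out : M ⧸ subOf P) = (a : M ⧸ subOf P) := by
        rw [QuotientAddGroup.eq]; exact le_subOf P hK (QuotientAddGroup.eq.mp hqa)
      have hordd : ord q ∈ n.divisors := by
        refine Nat.mem_divisors.mpr ⟨addOrderOf_dvd_of_nsmul_eq_zero ?_, hn0⟩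
        rw [← QuotientAddGroup.mk_nsmul, QuotientAddGroup.eq_zero_iff]
        exact le_subOf P hK (hnsmul _)
      have hprod : ε q * aeval (gl Λ q.out) (cyclotomic (ord q) Λ) ∈ RingHom.ker (quotMap Λ M B₀) := by
        show (∏ d ∈ n.divisors.erase (ord q), aeval (gl Λ q.out) (cyclotomic d Λ)) * _ ∈ _
        rw [mul_comm, Finset.mul_prod_erase n.divisors (fun d => aeval (gl Λ q.out) (cyclotomic d Λ)) hordd, ← map_prod, prod_cyclotomic_eq_X_pow_sub_one (Nat.pos_of_ne_zero hn0),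
          map_sub, map_pow, aeval_X, map_one, gl_pow]
        exact gl_sub_one_mem_ker Λ B₀ (hnsmul _)
      show (∏ q, ε q) * _ ∈ RingHom.ker (quotMap Λ M B₀)
      rw [← Finset.mul_prod_erase _ _ (Finset.mem_univ q), mul_right_comm]
      refine Ideal.mul_mem_right _ _ ?_
      rw [RingHom.mem_ker] at hprod ⊢
      rw [map_mul] at hprod ⊢
      rw [show ord q = addOrderOf (a : M ⧸ subOf P) from congrArg addOrderOf hsame] at hprod
      have heq : quotMap Λ M B₀ (gl Λ a) = quotMap Λ M B₀ (gl Λ q.out) := by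
        rw [quotMap_gl, quotMap_gl, hqa]
      have hev : ∀ b : M, quotMap Λ M B₀ (aeval (gl Λ b) (cyclotomic (addOrderOf (a : M ⧸ subOf P)) Λ)) =
          (cyclotomic (addOrderOf (a : M ⧸ subOf P)) Λ).eval₂ ((quotMap Λ M B₀).comp (algebraMap Λ _))
            (quotMap Λ M B₀ (gl Λ b)) := fun b => by rw [aeval_def, hom_eval₂]
      rw [hev, heq, ← hev]
      exact hprod
    intro x hx
    refine (ker_cycQuotMap_le Λ (subOf P) T (fun b hb => ?_) (fun a ha => ?_) hx : x ∈ T)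
    · have := key b
      rwa [(QuotientAddGroup.eq_zero_iff b).mpr hb, addOrderOf_zero, cyclotomic_one, map_sub, aeval_X, map_one] at this
    · have := key a
      rwa [show addOrderOf (a : M ⧸ subOf P) = Nat.card (M ⧸ subOf P) by
        rw [← Nat.card_zmultiples, ha, AddSubgroup.card_top]] at this

end Prime

variable {Λ}

theorem isCoprime_ker {B B' : AddSubgroup M} [IsAddCyclic (M ⧸ B)] [IsAddCyclic (M ⧸ B')]
    (hu : IsUnit (B.index : Λ)) (hu' : IsUnit (B'.index : Λ)) (hne : B ≠ B') :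
    IsCoprime (RingHom.ker (cycQuotMap Λ M B)) (RingHom.ker (cycQuotMap Λ M B')) := by
  rw [Ideal.isCoprime_iff_sup_eq]
  by_contra h
  obtain ⟨P, hP, hle⟩ := Ideal.exists_le_maximal _ h
  exact hne ((subOf_eq P hu (le_sup_left.trans hle)).symm.trans (subOf_eq P hu' (le_sup_right.trans hle)))

theorem isUnit_index_of_le {B₀ B : AddSubgroup M} (h : B₀ ≤ B) (hu : IsUnit (B₀.index : Λ)) :
    IsUnit (B.index : Λ) :=
  isUnit_of_dvd_unit (Nat.cast_dvd_cast (AddSubgroup.index_dvd_of_le h)) hu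

/-- `J_B` is killed modulo `ker quotMap B₀` by an element congruent to one modulo `J_B`. -/
theorem exists_loc_mul_mem {B₀ B : AddSubgroup M} [B₀.FiniteIndex] [IsAddCyclic (M ⧸ B)] (h : B₀ ≤ B)
    (hu : IsUnit (B₀.index : Λ)) :
    ∃ s ∈ locSubmonoid Λ M B, ∀ x ∈ RingHom.ker (cycQuotMap Λ M B), s * x ∈ RingHom.ker (quotMap Λ M B₀) := by
  classical
  let K := RingHom.ker (quotMap Λ M B₀)
  let J := RingHom.ker (cycQuotMap Λ M B)
  let T : Ideal (AddMonoidAlgebra Λ M) :=
    { carrier := {s | ∀ x ∈ J, s * x ∈ K}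
      zero_mem' := fun x _ => by rw [zero_mul]; exact zero_mem _
      add_mem' := fun {a b} ha hb x hx => by rw [add_mul]; exact add_mem (ha x hx) (hb x hx)
      smul_mem' := fun c a ha x hx => by rw [smul_eq_mul, mul_assoc]; exact Ideal.mul_mem_left _ _ (ha x hx) }
  have htop : T ⊔ J = ⊤ := by
    by_contra hne
    obtain ⟨P, hP, hle⟩ := Ideal.exists_le_maximal _ hne
    have hJ : J ≤ P := le_sup_right.trans hle
    have hK : K ≤ P := (ker_quotMap_le_ker_cycQuotMap Λ h).trans hJ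
    obtain ⟨e, he, hker⟩ := exists_notMem_mul_mem P hK hu
    rw [subOf_eq P (isUnit_index_of_le h hu) hJ] at hker
    exact he (le_sup_left.trans hle (show e ∈ T from hker))
  obtain ⟨s, hs, t, ht, hst⟩ := Submodule.mem_sup.mp (htop ▸ Submodule.mem_top (x := (1 : AddMonoidAlgebra Λ M)))
  refine ⟨s, ?_, hs⟩
  show cycQuotMap Λ M B s = 1
  rw [← map_one (cycQuotMap Λ M B), ← hst, map_add, RingHom.mem_ker.mp ht, add_zero]

theorem mem_ker_quotMap_of_forall {B₀ : AddSubgroup M} [B₀.FiniteIndex] (hu : IsUnit (B₀.index : Λ))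
    (x : AddMonoidAlgebra Λ M)
    (hx : ∀ B, B₀ ≤ B → IsAddCyclic (M ⧸ B) → x ∈ RingHom.ker (cycQuotMap Λ M B)) :
    x ∈ RingHom.ker (quotMap Λ M B₀) := by
  by_contra hxK
  let T : Ideal (AddMonoidAlgebra Λ M) :=
    Submodule.comap (LinearMap.mulRight (AddMonoidAlgebra Λ M) x) (RingHom.ker (quotMap Λ M B₀))
  have hT : T ≠ ⊤ := fun h => hxK (by
    have h1 : (1 : AddMonoidAlgebra Λ M) ∈ T := h ▸ Submodule.mem_top
    simpa [T] using h1)
  obtain ⟨P, hP, hle⟩ := Ideal.exists_le_maximal _ hT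
  have hK : RingHom.ker (quotMap Λ M B₀) ≤ P := fun y hy => hle (Ideal.mul_mem_right x _ hy)
  obtain ⟨e, he, hker⟩ := exists_notMem_mul_mem P hK hu
  exact he (hle (hker x (hx _ (le_subOf P hK) (subOf_cyclic_and_le P hK).1)))

theorem finite_index_set (B₀ : AddSubgroup M) [B₀.FiniteIndex] :
    Finite {B : AddSubgroup M // B₀ ≤ B ∧ IsAddCyclic (M ⧸ B)} := by
  have : Finite (M ⧸ B₀) := AddSubgroup.finite_quotient_of_finiteIndex
  refine Finite.of_injective (fun B => B.1.map (QuotientAddGroup.mk' B₀)) fun B C h => Subtype.ext ?_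
  have h1 : ∀ D : AddSubgroup M, B₀ ≤ D → (D.map (QuotientAddGroup.mk' B₀)).comap (QuotientAddGroup.mk' B₀) = D := by
    intro D hD
    rw [AddSubgroup.comap_map_eq, QuotientAddGroup.ker_mk', sup_eq_left.mpr hD]
  rw [← h1 B.1 B.2.1, ← h1 C.1 C.2.1]
  exact congrArg _ h

theorem exists_forall_cycQuotMap (B₀ : AddSubgroup M) [B₀.FiniteIndex] (hu : IsUnit (B₀.index : Λ))
    (y : ∀ B : {B : AddSubgroup M // B₀ ≤ B ∧ IsAddCyclic (M ⧸ B)}, AddMonoidAlgebra Λ M) :
    ∃ x, ∀ B, x - y B ∈ RingHom.ker (cycQuotMap Λ M B.1) := by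
  have := finite_index_set B₀
  obtain ⟨x, hx⟩ := Ideal.pi_quotient_surjective
    (I := fun B : {B : AddSubgroup M // B₀ ≤ B ∧ IsAddCyclic (M ⧸ B)} => RingHom.ker (cycQuotMap Λ M B.1))
    (fun B C hBC => by
      haveI := B.2.2
      haveI := C.2.2
      exact isCoprime_ker (isUnit_index_of_le B.2.1 hu) (isUnit_index_of_le C.2.1 hu) (fun h => hBC (Subtype.ext h)))
    (fun B => Ideal.Quotient.mk _ (y B))
  exact ⟨x, fun B => Ideal.Quotient.eq.mp (hx B)⟩

end Groth.Calg3.CycGroupAlg
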