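import Mathlib
import Groth.Prelude.Def_Wider

/-! Artin–Rees for `Ext(M, N) → Ext(Iⁿ M, N)`. -/

set_option autoImplicit false

universe u

open CategoryTheory CategoryTheory.Pretriangulated

attribute [local instance] HasDerivedCategory.standard

namespace Groth.Calg3.ExtPow

variable {A : Type u} [CommRing A]

/-- A linear map in `D(A)`. -/
noncomputable abbrev dm {X Y : Type u} [AddCommGroup X] [Module A X] [AddCommGroup Y] [Module A Y]
    (f : X →ₗ[A] Y) : Dual.inD A X ⟶ Dual.inD A Y :=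
  (DerivedCategory.singleFunctor (ModuleCat.{u} A) 0).map (ModuleCat.ofHom f)

theorem dm_comp {X Y Z : Type u} [AddCommGroup X] [Module A X] [AddCommGroup Y] [Module A Y]
    [AddCommGroup Z] [Module A Z] (f : X →ₗ[A] Y) (g : Y →ₗ[A] Z) : dm (g ∘ₗ f) = dm f ≫ dm g := by
  rw [dm, dm, dm, ← Functor.map_comp]; rfl

theorem hom_eq_zero_of_projective {F N : Type u} [AddCommGroup F] [Module A F] [Module.Projective A F]
    [AddCommGroup N] [Module A N] (k : ℕ)
    (e : Dual.inD A F ⟶ (Dual.inD A N)⟦((k + 1 : ℕ) : ℤ)⟧) : e = 0 := by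
  haveI : Projective (ModuleCat.of A F) := (IsProjective.iff_projective _).mp inferInstance
  have h := Abelian.Ext.eq_zero_of_projective
    ((Abelian.Ext.homAddEquiv (X := ModuleCat.of A F) (Y := ModuleCat.of A N)).symm e)
  have := congrArg (Abelian.Ext.homAddEquiv) h
  simpa using this

/-- The factorization property in degree `p`. -/
def Factor (I : Ideal A) (N : Type u) [AddCommGroup N] [Module A N] (p : ℤ) : Prop :=
  ∀ (M : Type u) [AddCommGroup M] [Module A M], Module.Finite A M →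
    ∃ c : ℕ, ∀ n : ℕ, c ≤ n → ∀ e : Dual.inD A M ⟶ (Dual.inD A N)⟦p⟧,
      ∃ e' : Dual.inD A ↥(I ^ n • ⊤ : Submodule A M) ⟶ (Dual.inD A ↥(I ^ (n - c) • ⊤ : Submodule A N))⟦p⟧,
        e' ≫ (dm (I ^ (n - c) • ⊤ : Submodule A N).subtype)⟦p⟧' = dm (I ^ n • ⊤ : Submodule A M).subtype ≫ e

theorem factor_zero (I : Ideal A) (N : Type u) [AddCommGroup N] [Module A N] : Factor I N 0 := by
  intro M _ _ _
  refine ⟨0, fun n _ e => ?_⟩
  let z := shiftFunctorZero (Dual.D A) ℤ
  obtain ⟨g, hg⟩ := (DerivedCategory.singleFunctor (ModuleCat.{u} A) 0).map_surjective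
    (e ≫ z.hom.app (Dual.inD A N))
  let gl : M →ₗ[A] N := g.hom
  have hmem : ∀ x : (I ^ n • ⊤ : Submodule A M),
      (gl ∘ₗ (I ^ n • ⊤ : Submodule A M).subtype) x ∈ (I ^ (n - 0) • ⊤ : Submodule A N) := fun x => by
    have := Submodule.mem_map_of_mem (f := gl) x.2
    rw [Submodule.map_smul''] at this
    exact Submodule.smul_mono le_rfl le_top this
  let j := (gl ∘ₗ (I ^ n • ⊤ : Submodule A M).subtype).codRestrict _ hmem
  have hj : dm j ≫ dm (I ^ (n - 0) • ⊤ : Submodule A N).subtype = dm (I ^ n • ⊤ : Submodule A M).subtype ≫ dm gl := by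
    rw [← dm_comp, ← dm_comp, LinearMap.subtype_comp_codRestrict]
  have hgl : dm gl = e ≫ z.hom.app (Dual.inD A N) := hg
  refine ⟨dm j ≫ z.inv.app _, ?_⟩
  have hn := z.inv.naturality (dm (I ^ (n - 0) • ⊤ : Submodule A N).subtype)
  refine (Category.assoc _ _ _).trans ?_
  refine (congrArg (dm j ≫ ·) hn.symm).trans ?_
  refine (Category.assoc _ _ _).symm.trans ?_
  refine (congrArg (· ≫ z.inv.app _) (hj.trans (congrArg _ hgl))).trans ?_
  refine (Category.assoc _ _ _).trans (congrArg _ ?_)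
  exact (Category.assoc _ _ _).trans ((congrArg _ (Iso.hom_inv_id_app z _)).trans (Category.comp_id _))

theorem factor_succ [IsNoetherianRing A] (I : Ideal A) (N : Type u) [AddCommGroup N] [Module A N]
    (k : ℕ) (ih : Factor I N k) : Factor I N ((k + 1 : ℕ) : ℤ) := by
  intro M _ _ _
  obtain ⟨r, π, hπ⟩ := Module.Finite.exists_fin' A M
  let K := LinearMap.ker π
  haveI : Module.Finite A K := Module.IsNoetherian.finite A K
  obtain ⟨c', hc'⟩ := ih K inferInstance
  obtain ⟨c, hc⟩ := I.exists_pow_inf_eq_pow_smul K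
  refine ⟨c + c', fun n hn e => ?_⟩
  let S : ShortComplex (ModuleCat.{u} A) := ShortComplex.mk (ModuleCat.ofHom K.subtype) (ModuleCat.ofHom π)
    (ModuleCat.hom_ext (LinearMap.ext fun (x : K) => LinearMap.mem_ker.mp x.2))
  have hS : S.ShortExact :=
    { exact := (ShortComplex.moduleCat_exact_iff S).mpr fun y hy => ⟨⟨y, hy⟩, rfl⟩
      mono_f := (ModuleCat.mono_iff_injective _).mpr K.injective_subtype
      epi_g := (ModuleCat.epi_iff_surjective _).mpr hπ }
  have hk : (k : ℤ) + 1 = ((k + 1 : ℕ) : ℤ) := by push_cast; ring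
  let sh := shiftFunctorAdd' (Dual.D A) (k : ℤ) 1 ((k + 1 : ℕ) : ℤ) hk
  obtain ⟨v, hv⟩ := Triangle.yoneda_exact₃ _ hS.singleTriangle_distinguished e
    (hom_eq_zero_of_projective k (dm π ≫ e))
  obtain ⟨e₀, he₀⟩ := (shiftFunctor (Dual.D A) (1 : ℤ)).map_surjective
    (X := Dual.inD A K) (Y := (Dual.inD A N)⟦(k : ℤ)⟧) (v ≫ sh.hom.app (Dual.inD A N))
  -- the filtered sequence
  let Y : Submodule A (Fin r → A) := I ^ n • ⊤
  let K' : Submodule A Y := K.comap Y.subtype
  have hπY : ∀ y : Y, π (y : Fin r → A) ∈ (I ^ n • ⊤ : Submodule A M) := fun y => by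
    have := Submodule.mem_map_of_mem (f := π) y.2
    rw [Submodule.map_smul''] at this
    exact Submodule.smul_mono le_rfl le_top this
  let πn : Y →ₗ[A] (I ^ n • ⊤ : Submodule A M) := (π ∘ₗ Y.subtype).codRestrict _ hπY
  let ι₁ : ModuleCat.of A K' ⟶ ModuleCat.of A Y := ModuleCat.ofHom K'.subtype
  let g₁ : ModuleCat.of A Y ⟶ ModuleCat.of A ↥(I ^ n • ⊤ : Submodule A M) := ModuleCat.ofHom πn
  let S' : ShortComplex (ModuleCat.{u} A) := ShortComplex.mk ι₁ g₁
    (ModuleCat.hom_ext (LinearMap.ext fun (x : K') => Subtype.ext (show π ((x : Y) : Fin r → A) = 0 from x.2)))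
  have hS' : S'.ShortExact :=
    { exact := (ShortComplex.moduleCat_exact_iff S').mpr fun y hy => ⟨⟨y, congrArg Subtype.val hy⟩, rfl⟩
      mono_f := (ModuleCat.mono_iff_injective _).mpr K'.injective_subtype
      epi_g := (ModuleCat.epi_iff_surjective _).mpr fun x => by
        have hx : (x : M) ∈ Y.map π := by
          rw [Submodule.map_smul'', Submodule.map_top, LinearMap.range_eq_top.mpr hπ]
          exact x.2
        obtain ⟨y, hy, hyx⟩ := hx
        exact ⟨⟨y, hy⟩, Subtype.ext hyx⟩ }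
  let K'' : Submodule A K := I ^ (n - c) • ⊤
  let j : K' →ₗ[A] K := (Y.subtype ∘ₗ K'.subtype).codRestrict K fun x => x.2
  have hj : ∀ x, j x ∈ K'' := fun x => by
    have h : ((j x : K) : Fin r → A) ∈ I ^ n • ⊤ ⊓ K := ⟨x.1.2, x.2⟩
    rw [hc n (by omega)] at h
    have h2 : ((j x : K) : Fin r → A) ∈ K''.map K.subtype := by
      rw [Submodule.map_smul'', Submodule.map_subtype_top]
      exact Submodule.smul_mono le_rfl inf_le_right h
    obtain ⟨z, hz, hze⟩ := h2
    rwa [show j x = z from Subtype.ext hze.symm]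
  let φ : S' ⟶ S :=
    { τ₁ := ModuleCat.ofHom j
      τ₂ := ModuleCat.ofHom Y.subtype
      τ₃ := ModuleCat.ofHom (I ^ n • ⊤ : Submodule A M).subtype }
  have hnat : hS'.singleδ ≫ (dm (X := K') (Y := K) j)⟦(1 : ℤ)⟧' = dm (I ^ n • ⊤ : Submodule A M).subtype ≫ hS.singleδ :=
    (ShortComplex.ShortExact.singleTriangle.map hS' hS φ).comm₃
  obtain ⟨e₁, he₁⟩ := hc' (n - c) (by omega) e₀
  rw [show n - (c + c') = n - c - c' by omega]
  refine ⟨hS'.singleδ ≫ (dm (X := K') (Y := K'') (j.codRestrict K'' hj) ≫ e₁)⟦(1 : ℤ)⟧' ≫ sh.inv.app _, ?_⟩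
  set ιN := (I ^ (n - c - c') • ⊤ : Submodule A N).subtype
  have hsh : sh.inv.app _ ≫ (dm ιN)⟦((k + 1 : ℕ) : ℤ)⟧' = ((dm ιN)⟦(k : ℤ)⟧')⟦(1 : ℤ)⟧' ≫ sh.inv.app _ :=
    (sh.inv.naturality (dm ιN)).symm
  have hjj : dm (X := K') (Y := K'') (j.codRestrict K'' hj) ≫ dm K''.subtype = dm (X := K') (Y := K) j := by
    rw [← dm_comp, LinearMap.subtype_comp_codRestrict]
  rw [Category.assoc, Category.assoc, hsh, ← Functor.map_comp_assoc, Category.assoc, he₁,
    reassoc_of% hjj, Functor.map_comp, Category.assoc, he₀]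
  refine (Category.assoc _ _ _).symm.trans ?_
  refine (congrArg (· ≫ _) hnat).trans ?_
  refine (Category.assoc _ _ _).trans (congrArg _ ?_)
  refine Eq.trans ?_ hv.symm
  refine congrArg (hS.singleδ ≫ ·) ?_
  exact (Category.assoc _ _ _).trans ((congrArg _ (Iso.hom_inv_id_app sh _)).trans (Category.comp_id _))

theorem factor [IsNoetherianRing A] (I : Ideal A) (N : Type u) [AddCommGroup N] [Module A N] :
    ∀ k : ℕ, Factor I N (k : ℤ)
  | 0 => factor_zero I N
  | k + 1 => factor_succ I N k (factor I N k)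

end Groth.Calg3.ExtPow
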