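import Groth.Agent.Calg1.InjModMaximalEssFP
import Groth.Agent.RaynaudGruson.FiberAssBridge
import Groth.Agent.SchDom.BaseChange
import Groth.Agent.Calg5.RelGCI
import Groth.Prelude.Def_FlatCA

/-!
An element avoiding the associated points of the fibre below a prime is a nonzerodivisor on every
`N ⊗ Q` near that prime, for `N` flat and finitely presented.
-/

set_option autoImplicit false

universe u

open TensorProduct

attribute [local instance] Algebra.TensorProduct.rightAlgebra

namespace Groth.Calg3.FibreAssTorsion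

variable {R S : Type u} [CommRing R] [CommRing S] [Algebra R S] [Algebra.FinitePresentation R S]
  (N : Type u) [AddCommGroup N] [Module S N] [Module R N] [IsScalarTower R S N] [Module.FinitePresentation S N]

instance isNoetherianRing_fiber_fp (p : Ideal R) [p.IsPrime] : IsNoetherianRing (p.Fiber S) :=
  Algebra.FiniteType.isNoetherianRing p.ResidueField _

omit [Algebra.FinitePresentation R S] [Module.FinitePresentation S N] in
/-- The kernel of `N → fibre module`. -/
theorem exists_smul_mem_of_toFiberMod_eq_zero (p : Ideal R) [p.IsPrime] {n : N}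
    (h : ((1 : p.Fiber S) ⊗ₜ[S] n : FlatCA.fiberMod p S N) = (0 : FlatCA.fiberMod p S N)) :
    ∃ r : R, r ∉ p ∧ r • n ∈ p • (⊤ : Submodule R N) := by
  refine Groth.SchDom.exists_smul_mem_of_tmul_one_eq_zero p n ?_
  let ρ : (p.Fiber S ⊗[S] N) ≃ₗ[p.ResidueField] p.ResidueField ⊗[R] N :=
    Algebra.IsPushout.cancelBaseChange R p.ResidueField S (p.Fiber S) N
  have h1 : ρ ((1 : p.Fiber S) ⊗ₜ[S] n) = (1 : p.ResidueField) ⊗ₜ[R] n :=
    Algebra.IsPushout.cancelBaseChange_tmul R p.ResidueField S (p.Fiber S) N n
  have h0 : (1 : p.ResidueField) ⊗ₜ[R] n = 0 := by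
    rw [← h1]
    exact (congrArg ρ h).trans (map_zero ρ)
  exact (congrArg (TensorProduct.comm R p.ResidueField N) h0).trans (map_zero _)

omit [Algebra.FinitePresentation R S] [Module.FinitePresentation S N] in
/-- Elements of `p • N` die in the fibre module. -/
theorem toFiberMod_eq_zero_of_mem (p : Ideal R) [p.IsPrime] {n : N} (h : n ∈ p • (⊤ : Submodule R N)) :
    FlatCA.toFiberMod p S N n = 0 := by
  refine Submodule.smul_induction_on h (fun r hr m _ => ?_) fun a b ha hb => by rw [map_add, ha, hb, add_zero]
  change (1 : p.Fiber S) ⊗ₜ[S] (r • m) = 0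
  rw [← algebraMap_smul S r m, TensorProduct.tmul_smul, TensorProduct.smul_tmul', Algebra.smul_def, mul_one,
    ← IsScalarTower.algebraMap_apply, IsScalarTower.algebraMap_apply R p.ResidueField (p.Fiber S),
    Ideal.algebraMap_residueField_eq_zero.mpr hr, map_zero, TensorProduct.zero_tmul]

omit [Module.FinitePresentation S N] in
/-- An element avoiding the associated points of the fibre that generalize `q` is regular on the fibre at `q`. -/
theorem exists_notMem_smul_mem (p : Ideal R) [p.IsPrime] (q : Ideal S) [q.IsPrime] [q.LiesOver p] (t : S)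
    (ht : ∀ P ∈ associatedPrimes (p.Fiber S) (FlatCA.fiberMod p S N),
      P.comap (algebraMap S (p.Fiber S)) ≤ q → t ∉ P.comap (algebraMap S (p.Fiber S)))
    (n : N) (hn : t • n ∈ p • (⊤ : Submodule R N)) :
    ∃ v : S, v ∉ q ∧ v • n ∈ p • (⊤ : Submodule R N) := by
  let fm := FlatCA.fiberMod p S N
  let F := p.Fiber S
  have : IsScalarTower S F fm := inferInstanceAs (IsScalarTower S F (F ⊗[S] N))
  let y : fm := FlatCA.toFiberMod p S N n
  -- some element outside `q` kills `y`
  obtain ⟨v, hvq, hvy⟩ : ∃ v : S, v ∉ q ∧ v • y = 0 := by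
    by_contra hno
    push Not at hno
    let K : Ideal F := LinearMap.ker (LinearMap.toSpanSingleton F fm y)
    have hK : K.comap (algebraMap S F) ≤ q := fun a ha => by
      by_contra haq
      refine hno a haq ?_
      rw [← algebraMap_smul F a y]
      exact ha
    obtain ⟨Q, hQ⟩ : ∃ Q : PrimeSpectrum F, Q.asIdeal.comap (algebraMap S F) = q :=
      ⟨PrimeSpectrum.preimageEquivFiber R S ⟨p, inferInstance⟩ ⟨⟨q, inferInstance⟩,
          PrimeSpectrum.ext (Ideal.LiesOver.over (p := p) (P := q)).symm⟩,
        congrArg (fun z => z.1.asIdeal) ((PrimeSpectrum.preimageEquivFiber R S ⟨p, inferInstance⟩).symm_apply_apply _)⟩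
    have hKQ : K ≤ Q.asIdeal := by
      rw [← Groth.RaynaudGruson.map_comap_fiber p K, Ideal.map_le_iff_le_comap, hQ]
      exact hK
    obtain ⟨P, hP, hPQ⟩ := Ideal.exists_minimalPrimes_le hKQ
    have := hP.1.1
    have hPass : P ∈ associatedPrimes F fm := by
      let Y : Submodule F fm := Submodule.span F {y}
      refine associatedPrimes.subset_of_injective (f := Y.subtype) Y.injective_subtype ?_
      refine Module.associatedPrimes.minimalPrimes_annihilator_subset_associatedPrimes F Y ?_
      have hY : Module.annihilator F Y = K := by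
        ext a
        rw [← Submodule.annihilator, Submodule.mem_annihilator_span_singleton]
        rfl
      rw [hY]
      exact hP
    refine ht P hPass (hQ ▸ Ideal.comap_mono hPQ) ?_
    refine hP.1.2 ?_
    change algebraMap S F t • y = 0
    rw [algebraMap_smul]
    exact ((FlatCA.toFiberMod p S N).map_smul t n).symm.trans (toFiberMod_eq_zero_of_mem N p hn)
  have h1 : ((1 : F) ⊗ₜ[S] (v • n) : fm) = (0 : fm) := ((FlatCA.toFiberMod p S N).map_smul v n).trans hvy
  obtain ⟨r, hr, hrn⟩ := exists_smul_mem_of_toFiberMod_eq_zero N p h1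
  refine ⟨algebraMap R S r * v, fun h => (Ideal.IsPrime.mem_or_mem ‹q.IsPrime› h).elim (fun h' => hr ?_) hvq, ?_⟩
  · rw [Ideal.LiesOver.over (p := p) (P := q)]
    exact h'
  · rwa [mul_smul, algebraMap_smul]

variable [Module.Flat R N]

set_option synthInstance.maxHeartbeats 200000 in
set_option maxHeartbeats 1000000 in
/-- An element avoiding the associated points of the fibre that generalize `q` is regular on `N ⊗ Q` near `q`. -/
theorem exists_notMem_smul_eq_zero (p : Ideal R) [p.IsPrime] (q : Ideal S) [q.IsPrime] [q.LiesOver p] (t : S)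
    (ht : ∀ P ∈ associatedPrimes (p.Fiber S) (FlatCA.fiberMod p S N),
      P.comap (algebraMap S (p.Fiber S)) ≤ q → t ∉ P.comap (algebraMap S (p.Fiber S)))
    (Q : Type u) [AddCommGroup Q] [Module R Q] (z : N ⊗[R] Q) (hz : t • z = 0) :
    ∃ u : S, u ∉ q ∧ u • z = 0 := by
  let Rp := Localization.AtPrime p
  let Sq := Localization.AtPrime q
  let Nq := LocalizedModule q.primeCompl N
  have hpq : p = q.comap (algebraMap R S) := Ideal.LiesOver.over
  let : Algebra Rp Sq := (Localization.localRingHom p q (algebraMap R S) hpq).toAlgebra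
  have : IsScalarTower R Rp Sq := IsScalarTower.of_algebraMap_eq fun a => by
    rw [RingHom.algebraMap_toAlgebra, Localization.localRingHom_to_map, IsScalarTower.algebraMap_apply R S Sq]
  have : IsLocalHom (algebraMap Rp Sq) := Localization.isLocalHom_localRingHom p q (algebraMap R S) hpq
  let : Module Rp Nq := Module.compHom Nq (algebraMap Rp Sq)
  have : IsScalarTower Rp Sq Nq := IsScalarTower.of_algebraMap_smul fun _ _ => rfl
  have : IsScalarTower R Sq Nq := IsScalarTower.of_algebraMap_smul fun a x => by
    rw [IsScalarTower.algebraMap_apply R S Sq, algebraMap_smul, algebraMap_smul]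
  have : IsScalarTower R Rp Nq := IsScalarTower.of_algebraMap_smul fun a x => by
    change algebraMap Rp Sq (algebraMap R Rp a) • x = a • x
    rw [← IsScalarTower.algebraMap_apply, algebraMap_smul]
  have : Module.Flat R Nq := Groth.Calg5.RelGCI.flat_localizedModule q.primeCompl
  have : Module.Flat Rp Nq := (Module.flat_iff_of_isLocalization Rp p.primeCompl Nq).2 inferInstance
  -- `R_p → S_q` is essentially of finite presentation
  have hS : CAlgX.IsEssFinitePresentation Rp Sq := by
    let M := Algebra.algebraMapSubmonoid S p.primeCompl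
    let Sp := Localization M
    have hM : M ≤ q.primeCompl := by
      rintro _ ⟨a, ha, rfl⟩ haq
      exact ha (hpq ▸ haq)
    let φ : Sp →+* Sq := IsLocalization.lift (M := M) (g := algebraMap S Sq) fun m =>
      IsLocalization.map_units (M := q.primeCompl) Sq ⟨m.1, hM m.2⟩
    let : Algebra Sp Sq := φ.toAlgebra
    have : IsScalarTower S Sp Sq := IsScalarTower.of_algebraMap_eq fun a => (IsLocalization.lift_eq _ a).symm
    have : IsScalarTower Rp Sp Sq := IsScalarTower.of_algebraMap_eq' (IsLocalization.ringHom_ext p.primeCompl (by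
      rw [RingHom.comp_assoc, ← IsScalarTower.algebraMap_eq R Rp Sp, IsScalarTower.algebraMap_eq R S Sp,
        ← RingHom.comp_assoc, ← IsScalarTower.algebraMap_eq S Sp Sq, ← IsScalarTower.algebraMap_eq R S Sq,
        ← IsScalarTower.algebraMap_eq R Rp Sq]))
    exact ⟨Sp, inferInstance, inferInstance, inferInstance, inferInstance, q.primeCompl.map (algebraMap S Sp),
      Algebra.FinitePresentation.equiv (Localization.tensorRightAlgEquiv p.primeCompl S),
      IsLocalization.isLocalization_of_submonoid_le (R := S) Sp Sq M q.primeCompl hM⟩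
  -- multiplication by `t` is injective modulo the maximal ideal
  have hu : ∀ x : Nq, (LinearMap.lsmul Sq Nq (algebraMap S Sq t)) x ∈
      (IsLocalRing.maximalIdeal Rp).map (algebraMap Rp Sq) • (⊤ : Submodule Sq Nq) →
      x ∈ (IsLocalRing.maximalIdeal Rp).map (algebraMap Rp Sq) • (⊤ : Submodule Sq Nq) := by
    have hI : (IsLocalRing.maximalIdeal Rp).map (algebraMap Rp Sq) = p.map (algebraMap R Sq) := by
      rw [← Localization.AtPrime.map_eq_maximalIdeal, Ideal.map_map, ← IsScalarTower.algebraMap_eq]
    have hiff : ∀ x : Nq, x ∈ p.map (algebraMap R Sq) • (⊤ : Submodule Sq Nq) ↔ x ∈ p • (⊤ : Submodule R Nq) := by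
      intro x
      rw [← Submodule.restrictScalars_mem R, Ideal.smul_restrictScalars, Submodule.restrictScalars_top]
    have hsat : ∀ (c : S) (w : Nq), w ∈ p • (⊤ : Submodule R Nq) → c • w ∈ p • (⊤ : Submodule R Nq) := by
      intro c w hw
      rw [← hiff] at hw ⊢
      rw [← algebraMap_smul Sq c w]
      exact Submodule.smul_mem _ _ hw
    intro x hx
    rw [hI, hiff, LinearMap.lsmul_apply, algebraMap_smul] at hx
    rw [hI, hiff]
    let f := LocalizedModule.mkLinearMap q.primeCompl N
    obtain ⟨⟨n, s⟩, hns⟩ := IsLocalizedModule.surj q.primeCompl f x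
    have hns' : (s : S) • x = f n := hns
    have h1 : f (t • n) ∈ p • (⊤ : Submodule R Nq) := by
      rw [map_smul, ← hns', smul_comm]
      exact hsat s _ hx
    obtain ⟨a, ha, h2⟩ := Groth.Calg1.exists_smul_mem_of_localized q.primeCompl f p h1
    rw [smul_comm] at h2
    obtain ⟨v, hv, h3⟩ := exists_notMem_smul_mem N p q t ht _ h2
    have h4 : (v * a * s) • x ∈ p • (⊤ : Submodule R Nq) := by
      rw [mul_smul, hns', ← map_smul, mul_smul]
      refine Submodule.smul_induction_on h3 (fun r hr m _ => ?_) fun c d hc hd => by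
        rw [map_add]; exact add_mem hc hd
      rw [LinearMap.map_smul_of_tower]
      exact Submodule.smul_mem_smul hr trivial
    obtain ⟨w, hw⟩ := (IsLocalization.map_units (M := q.primeCompl) Sq
      ⟨v * a * s, q.primeCompl.mul_mem (q.primeCompl.mul_mem hv ha) s.2⟩)
    rw [← algebraMap_smul Sq (v * a * (s : S)) x] at h4
    rw [← hiff] at h4 ⊢
    exact (Submodule.smul_mem_iff_of_isUnit _ ⟨w, hw⟩).mp h4
  have hinj := Groth.Calg1.rTensor_injective_of_injective_mod hS (LinearMap.lsmul Sq Nq (algebraMap S Sq t)) hu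
    (Rp ⊗[R] Q)
  -- transport to `N_q ⊗_R Q`
  let ι := AlgebraTensorModule.rTensor R Q (LocalizedModule.mkLinearMap q.primeCompl N)
  let c := AlgebraTensorModule.cancelBaseChange R Rp Sq Nq Q
  have hc : ∀ w : Nq ⊗[Rp] (Rp ⊗[R] Q),
      c (((LinearMap.lsmul Sq Nq (algebraMap S Sq t)).restrictScalars Rp).rTensor (Rp ⊗[R] Q) w) =
        algebraMap S Sq t • c w := by
    intro w
    rw [← map_smul]
    congr 1
  have h0 : ι z = 0 := by
    refine c.symm.injective ?_
    rw [map_zero]
    refine hinj ?_
    rw [map_zero]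
    apply c.injective
    rw [hc, map_zero, LinearEquiv.apply_symm_apply, algebraMap_smul, ← map_smul, hz, map_zero]
  obtain ⟨⟨a, ha⟩, h1⟩ := (IsLocalizedModule.eq_zero_iff q.primeCompl ι).mp h0
  exact ⟨a, ha, h1⟩

end Groth.Calg3.FibreAssTorsion
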