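import Mathlib
import Groth.Agent.FlatMorOne.LocalCriterion
import Groth.Agent.Misc6.FlatInj

/-! Descent of flatness along finite injective maps of Noetherian rings. -/

set_option autoImplicit false
universe u
open TensorProduct

namespace Groth.Calg3.FiniteDescent

variable {A : Type u} [CommRing A] {M : Type u} [AddCommGroup M] [Module A M]

/-- The property being proved. -/
def Descends (A : Type u) [CommRing A] : Prop :=
  ∀ (S : Type u) [CommRing S] [Algebra A S], Module.Finite A S → Function.Injective (algebraMap A S) →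
    ∀ (M : Type u) [AddCommGroup M] [Module A M], Module.Flat S (S ⊗[A] M) → Module.Flat A M

theorem flat_of_ideals
    (h : ∀ J : Ideal A, J.FG → Function.Injective (J.subtype.rTensor M)) : Module.Flat A M := by
  rw [Module.Flat.iff_lTensor_injective]
  intro J hJ
  rw [LinearMap.lTensor_inj_iff_rTensor_inj]
  exact h J hJ

theorem rTensor_injective_of_killed (J : Ideal A) (hM : Module.Flat (A ⧸ J) ((A ⧸ J) ⊗[A] M))
    {X Y : Type u} [AddCommGroup X] [Module A X] [AddCommGroup Y] [Module A Y]
    (f : X →ₗ[A] Y) (hf : Function.Injective f) (hX : ∀ a ∈ J, ∀ x : X, a • x = 0)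
    (hY : ∀ a ∈ J, ∀ x : Y, a • x = 0) : Function.Injective (f.rTensor M) := by
  letI : Module (A ⧸ J) X := Module.IsTorsionBySet.module (I := J) fun x a => hX a a.2 x
  letI : Module (A ⧸ J) Y := Module.IsTorsionBySet.module (I := J) fun x a => hY a a.2 x
  haveI : IsScalarTower A (A ⧸ J) X :=
    IsScalarTower.of_algebraMap_smul fun r x => rfl
  haveI : IsScalarTower A (A ⧸ J) Y :=
    IsScalarTower.of_algebraMap_smul fun r x => rfl
  let f' : X →ₗ[A ⧸ J] Y :=
    { toFun := f
      map_add' := f.map_add
      map_smul' := fun c x => by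
        obtain ⟨r, rfl⟩ := Ideal.Quotient.mk_surjective c
        show f (r • x) = r • f x
        exact f.map_smul r x }
  exact (Groth.FlatMorOne.rTensor_baseChange_injective_iff (R := A) (M := M) f').1
    (Module.Flat.rTensor_preserves_injective_linearMap _ hf)

variable {S : Type u} [CommRing S] [Algebra A S]

theorem rTensor_injective_of_linear (hM : Module.Flat S (S ⊗[A] M))
    {X Y : Type u} [AddCommGroup X] [Module A X] [Module S X] [IsScalarTower A S X]
    [AddCommGroup Y] [Module A Y] [Module S Y] [IsScalarTower A S Y]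
    (f : X →ₗ[S] Y) (hf : Function.Injective f) :
    Function.Injective ((f.restrictScalars A).rTensor M) :=
  (Groth.FlatMorOne.rTensor_baseChange_injective_iff (R := A) (M := M) f).1
    (Module.Flat.rTensor_preserves_injective_linearMap _ hf)

theorem flat_quotient_tensor (hM : Module.Flat S (S ⊗[A] M)) (a : Ideal S) :
    Module.Flat (S ⧸ a) ((S ⧸ a) ⊗[A] M) := by
  haveI := hM
  exact Module.Flat.of_linearEquiv
    (TensorProduct.AlgebraTensorModule.cancelBaseChange A S (S ⧸ a) (S ⧸ a) M).symm

variable (IH : ∀ J : Ideal A, J ≠ ⊥ → Descends (A ⧸ J)) [Module.Finite A S]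

include IH in
theorem flat_contract (hM : Module.Flat S (S ⊗[A] M)) (a : Ideal S) (J : Ideal A)
    (hJ : J = a.comap (algebraMap A S)) (hne : J ≠ ⊥) : Module.Flat (A ⧸ J) ((A ⧸ J) ⊗[A] M) := by
  letI : Algebra (A ⧸ J) (S ⧸ a) := (Ideal.quotientMap a (algebraMap A S) hJ.le).toAlgebra
  haveI : IsScalarTower A (A ⧸ J) (S ⧸ a) := IsScalarTower.of_algebraMap_eq fun _ => rfl
  haveI : Module.Finite (A ⧸ J) (S ⧸ a) := Module.Finite.of_restrictScalars_finite A _ _
  refine IH J hne (S ⧸ a) inferInstance (Ideal.quotientMap_injective' hJ.ge) _ ?_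
  haveI := flat_quotient_tensor hM a
  exact Module.Flat.of_linearEquiv
    (TensorProduct.AlgebraTensorModule.cancelBaseChange A (A ⧸ J) (S ⧸ a) (S ⧸ a) M)

variable (hinj : Function.Injective (algebraMap A S))

include IH hinj in
theorem flat_of_zero_divisor (hM : Module.Flat S (S ⊗[A] M)) (x y : A) (hx : x ≠ 0) (hy : y ≠ 0)
    (hxy : x * y = 0) : Module.Flat A M := by
  let ι := algebraMap A S
  let aP : Ideal S := LinearMap.ker (LinearMap.mulLeft S (ι x))
  let p : Ideal A := aP.comap ι
  let aQ : Ideal S := (p.map ι).annihilator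
  let q : Ideal A := aQ.comap ι
  have hyp : y ∈ p := by
    show ι x * ι y = 0
    rw [← map_mul, hxy, map_zero]
  have hxq : x ∈ q := by
    show ι x ∈ (p.map ι).annihilator
    rw [Submodule.mem_annihilator]
    intro t ht
    exact (Ideal.map_le_iff_le_comap.2 le_rfl : p.map ι ≤ aP) ht
  have hpq : ∀ s ∈ p, ∀ t ∈ aQ, t * ι s = 0 := fun s hs t ht =>
    Submodule.mem_annihilator.1 ht _ (Ideal.mem_map_of_mem ι hs)
  have hMp := flat_contract IH hM aP p rfl (fun h => hy (by rw [h] at hyp; exact hyp))
  have hMq := flat_contract IH hM aQ q rfl (fun h => hx (by rw [h] at hxq; exact hxq))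
  let ιl : A →ₗ[A] S := Algebra.linearMap A S
  let ιq : q →ₗ[A] aQ.restrictScalars A := (ιl.comp q.subtype).codRestrict _ fun t => t.2
  have hkq : ∀ s ∈ p, ∀ t : q, s • t = 0 := fun s hs t => Subtype.ext (hinj (by
    show ι (s * t.1) = ι 0
    rw [map_mul, map_zero, mul_comm]
    exact hpq s hs _ t.2))
  have hq : Function.Injective (q.subtype.rTensor M) := by
    have h1 : Function.Injective (ιq.rTensor M) := rTensor_injective_of_killed p hMp ιq
      (fun u v h => Subtype.ext (hinj (congrArg Subtype.val h))) hkq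
      (fun s hs t => Subtype.ext (by
        show s • t.1 = 0
        rw [Algebra.smul_def, mul_comm]
        exact hpq s hs _ t.2))
    have h2 : Function.Injective ((aQ.subtype.restrictScalars A).rTensor M) :=
      rTensor_injective_of_linear hM aQ.subtype Subtype.val_injective
    have e : ιl.comp q.subtype = (aQ.restrictScalars A).subtype.comp ιq := rfl
    have h3 : Function.Injective ((ιl.comp q.subtype).rTensor M) := by
      rw [e, LinearMap.rTensor_comp]
      exact h2.comp h1
    rw [LinearMap.rTensor_comp, LinearMap.coe_comp] at h3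
    exact h3.of_comp
  refine flat_of_ideals fun J _ => ?_
  rw [injective_iff_map_eq_zero]
  intro z hz
  let J1 : Submodule A J := Submodule.comap J.subtype q
  let v : (J ⧸ J1) →ₗ[A] A ⧸ q := J1.mapQ q J.subtype le_rfl
  have hv : Function.Injective v := by
    rw [← LinearMap.ker_eq_bot, Submodule.ker_mapQ]
    exact Submodule.mkQ_map_self _
  have hz1 : J1.mkQ.rTensor M z = 0 := by
    apply rTensor_injective_of_killed q hMq v hv
      (fun t ht w => by
        obtain ⟨w, rfl⟩ := Submodule.mkQ_surjective _ w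
        rw [← map_smul, Submodule.mkQ_apply, Submodule.Quotient.mk_eq_zero]
        exact Ideal.mul_mem_right _ _ ht)
      (fun t ht w => by
        obtain ⟨w, rfl⟩ := Submodule.mkQ_surjective _ w
        rw [← map_smul, Submodule.mkQ_apply, Submodule.Quotient.mk_eq_zero]
        exact Ideal.mul_mem_right _ _ ht)
    rw [map_zero, ← LinearMap.rTensor_comp_apply]
    have e : v.comp J1.mkQ = q.mkQ.comp J.subtype := rfl
    rw [e, LinearMap.rTensor_comp_apply, hz, map_zero]
  obtain ⟨w, hw⟩ := (rTensor_exact M (LinearMap.exact_subtype_mkQ J1) (Submodule.mkQ_surjective _) z).1 hz1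
  let g : J1 →ₗ[A] q := (J.subtype.comp J1.subtype).codRestrict q fun t => t.2
  have hg : Function.Injective (g.rTensor M) := rTensor_injective_of_killed p hMp g
    (fun u v h => by
      have := congrArg Subtype.val h
      exact Subtype.ext (Subtype.ext this))
    (fun s hs t => Subtype.ext (Subtype.ext ((congrArg Subtype.val (hkq s hs ⟨t.1.1, t.2⟩) :) : s • t.1.1 = 0)))
    hkq
  have h0 : (q.subtype.comp g).rTensor M w = 0 := by
    rw [show q.subtype.comp g = J.subtype.comp J1.subtype from rfl, LinearMap.rTensor_comp_apply, hw, hz]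
  rw [LinearMap.rTensor_comp_apply, ← map_zero (q.subtype.rTensor M)] at h0
  rw [← hw, show w = 0 from hg (by rw [map_zero]; exact hq h0), map_zero]

section Domain

variable [IsDomain A] [IsNoetherianRing A]

include IH hinj in
theorem exists_contract (hM : Module.Flat S (S ⊗[A] M)) (c : A) (hc : c ≠ 0) :
    ∃ (a : Ideal S) (J : Ideal A), J = a.comap (algebraMap A S) ∧ J ≤ Ideal.span {c} ∧
      Module.Flat (A ⧸ J) ((A ⧸ J) ⊗[A] M) := by
  let N := LinearMap.range (Algebra.linearMap A S)
  obtain ⟨k, hk⟩ := Ideal.exists_pow_inf_eq_pow_smul (Ideal.span {c}) N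
  refine ⟨Ideal.span {algebraMap A S (c ^ (k + 1))}, _, rfl, ?_, flat_contract IH hM _ _ rfl ?_⟩
  · intro a ha
    rw [Ideal.mem_comap, Ideal.mem_span_singleton'] at ha
    obtain ⟨s, hs⟩ := ha
    have h1 : algebraMap A S a ∈ (Ideal.span {c} ^ (k + 1) • ⊤ : Submodule A S) ⊓ N := by
      refine ⟨?_, a, rfl⟩
      rw [← hs, mul_comm, ← Algebra.smul_def]
      exact Submodule.smul_mem_smul (Ideal.pow_mem_pow (Ideal.mem_span_singleton_self c) _) trivial
    rw [hk (k + 1) (Nat.le_succ k), show k + 1 - k = 1 by omega, pow_one] at h1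
    have h2 := (smul_mono_right (Ideal.span {c}) (inf_le_right (b := N))) h1
    rw [Submodule.ideal_span_singleton_smul, Submodule.mem_smul_pointwise_iff_exists] at h2
    obtain ⟨_, ⟨a', rfl⟩, ha'⟩ := h2
    rw [Ideal.mem_span_singleton']
    exact ⟨a', hinj (by rw [map_mul, ← ha', Algebra.smul_def, mul_comm]; rfl)⟩
  · intro h
    have : c ^ (k + 1) ∈ (⊥ : Ideal A) := h ▸ Ideal.mem_span_singleton_self (algebraMap A S (c ^ (k + 1)))
    exact hc (pow_eq_zero_iff (by omega) |>.1 this)

include IH hinj in
theorem flat_of_torsionFree (hM : Module.Flat S (S ⊗[A] M))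
    (htf : ∀ (c : A) (m : M), c ≠ 0 → c • m = 0 → m = 0) : Module.Flat A M := by
  classical
  refine flat_of_ideals fun J hJ => ?_
  rcases eq_or_ne J ⊥ with rfl | hJ0
  · exact fun _ _ _ => Subsingleton.elim _ _
  obtain ⟨c, hcJ, hc⟩ := (Submodule.ne_bot_iff J).1 hJ0
  rw [injective_iff_map_eq_zero]
  intro z hz
  have hcz : c • z = 0 := by
    have key : ∀ t : J ⊗[A] M, c • t = (⟨c, hcJ⟩ : J) ⊗ₜ[A] (TensorProduct.lid A M (J.subtype.rTensor M t)) := by
      intro t
      induction t using TensorProduct.induction_on with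
      | zero => simp
      | tmul j m =>
        rw [LinearMap.rTensor_tmul, TensorProduct.lid_tmul, TensorProduct.tmul_smul, TensorProduct.smul_tmul',
          TensorProduct.smul_tmul']
        congr 1
        exact Subtype.ext (mul_comm c (j : A))
      | add s t hs ht => rw [smul_add, hs, ht, map_add, map_add, TensorProduct.tmul_add]
    rw [key, hz, map_zero, TensorProduct.tmul_zero]
  haveI : Module.Finite A J := Module.Finite.iff_fg.2 hJ
  obtain ⟨n, π, hπ⟩ := Module.Finite.exists_fin' A J
  obtain ⟨z', rfl⟩ := LinearMap.rTensor_surjective M hπ z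
  let L := LinearMap.ker π
  let μF : (Fin n → A) →ₗ[A] (Fin n → A) := c • LinearMap.id
  let μL : L →ₗ[A] L := c • LinearMap.id
  let v : (L ⧸ LinearMap.range μL) →ₗ[A] (Fin n → A) ⧸ LinearMap.range μF :=
    (LinearMap.range μL).mapQ (LinearMap.range μF) L.subtype (by
      rintro _ ⟨y, rfl⟩
      exact ⟨y, rfl⟩)
  have hv : Function.Injective v := by
    rw [injective_iff_map_eq_zero]
    intro y hy
    obtain ⟨y, rfl⟩ := Submodule.mkQ_surjective _ y
    obtain ⟨f, hf⟩ := (Submodule.Quotient.mk_eq_zero _).1 hy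
    have hπf : π f = 0 := by
      have h1 : c • π f = 0 := by rw [← map_smul]; exact (congrArg π hf).trans y.2
      exact Subtype.ext ((mul_eq_zero.1 (congrArg Subtype.val h1)).resolve_left hc)
    exact (Submodule.Quotient.mk_eq_zero _).2 ⟨⟨f, hπf⟩, Subtype.ext hf⟩
  obtain ⟨a, Jc, -, hle, hMc⟩ := exists_contract IH hinj hM c hc
  have kill : ∀ {X : Type u} [AddCommGroup X] [Module A X] (μ : X →ₗ[A] X), μ = c • LinearMap.id →
      ∀ t ∈ Jc, ∀ w : X ⧸ LinearMap.range μ, t • w = 0 := by
    intro X _ _ μ hμ t ht w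
    obtain ⟨w, rfl⟩ := Submodule.mkQ_surjective _ w
    obtain ⟨r, rfl⟩ := Ideal.mem_span_singleton'.1 (hle ht)
    rw [← map_smul, Submodule.mkQ_apply, Submodule.Quotient.mk_eq_zero]
    exact ⟨r • w, by rw [hμ, LinearMap.smul_apply, LinearMap.id_apply, smul_smul, mul_comm]⟩
  have hvM := rTensor_injective_of_killed Jc hMc v hv (kill μL rfl) (kill μF rfl)
  have hexL : Function.Exact (L.subtype.rTensor M) (π.rTensor M) :=
    rTensor_exact M (LinearMap.exact_subtype_ker_map π) hπ
  obtain ⟨l, hl⟩ := (hexL (c • z')).1 (by rw [map_smul]; exact hcz)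
  have hexF := rTensor_exact M (LinearMap.exact_map_mkQ_range μF) (Submodule.mkQ_surjective _)
  have hl0 : (LinearMap.range μL).mkQ.rTensor M l = 0 := by
    apply hvM
    rw [map_zero, ← LinearMap.rTensor_comp_apply,
      show v.comp (LinearMap.range μL).mkQ = (LinearMap.range μF).mkQ.comp L.subtype from rfl,
      LinearMap.rTensor_comp_apply, hl]
    refine (hexF _).2 ⟨z', ?_⟩
    simp [μF, LinearMap.rTensor_smul]
  obtain ⟨l', hl'⟩ := (rTensor_exact M (LinearMap.exact_map_mkQ_range μL) (Submodule.mkQ_surjective _) l).1 hl0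
  have hdiff : c • (z' - L.subtype.rTensor M l') = 0 := by
    rw [smul_sub, sub_eq_zero, ← hl, ← hl']
    simp [μL, LinearMap.rTensor_smul, map_smul]
  have hreg : z' - L.subtype.rTensor M l' = 0 := by
    let e := (TensorProduct.comm A (Fin n → A) M).trans (TensorProduct.piScalarRight A A M (Fin n))
    refine e.injective ?_
    rw [map_zero]
    funext i
    refine htf c _ hc ?_
    rw [← Pi.smul_apply, ← map_smul, hdiff, map_zero]
    rfl
  rw [sub_eq_zero] at hreg
  rw [hreg]
  exact hexL.apply_apply_eq_zero l'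

include IH hinj in
theorem flat_of_isDomain [IsDomain S] (hM : Module.Flat S (S ⊗[A] M)) : Module.Flat A M := by
  classical
  let N := Submodule.torsion A M
  have hN : ∀ (s : S) (m : N), s ⊗ₜ[A] (m : M) = 0 := by
    intro s m
    obtain ⟨r, hr⟩ := (Submodule.mem_torsion_iff (m : M)).1 m.2
    have h1 : algebraMap A S (r : A) • (s ⊗ₜ[A] (m : M)) = 0 := by
      rw [algebraMap_smul, ← TensorProduct.tmul_smul]
      rw [show (r : A) • (m : M) = 0 from hr, TensorProduct.tmul_zero]
    refine (smul_eq_zero.1 h1).resolve_left fun h => nonZeroDivisors.ne_zero r.2 ?_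
    exact hinj (by rw [h, map_zero])
  have hN' : ∀ w, N.subtype.lTensor S w = 0 := by
    intro w
    induction w using TensorProduct.induction_on with
    | zero => simp
    | tmul s m => exact hN s m
    | add a b ha hb => rw [map_add, ha, hb, add_zero]
  have hMq : Module.Flat S (S ⊗[A] (M ⧸ N)) := by
    let e : S ⊗[A] M →ₗ[S] S ⊗[A] (M ⧸ N) := N.mkQ.baseChange S
    have he : Function.Bijective e := by
      refine ⟨?_, LinearMap.lTensor_surjective S (Submodule.mkQ_surjective _)⟩
      rw [injective_iff_map_eq_zero]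
      intro z hz
      obtain ⟨w, rfl⟩ := (lTensor_exact S (LinearMap.exact_subtype_mkQ N) (Submodule.mkQ_surjective _) z).1 hz
      exact hN' w
    exact Module.Flat.of_linearEquiv (LinearEquiv.ofBijective e he).symm
  haveI hq : Module.Flat A (M ⧸ N) := flat_of_torsionFree IH hinj hMq fun c m hc h => by
    obtain ⟨m, rfl⟩ := Submodule.mkQ_surjective _ m
    rw [← map_smul, Submodule.mkQ_apply, Submodule.Quotient.mk_eq_zero] at h
    obtain ⟨r, hr⟩ := (Submodule.mem_torsion_iff _).1 h
    rw [Submodule.mkQ_apply, Submodule.Quotient.mk_eq_zero, Submodule.mem_torsion_iff]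
    exact ⟨r * ⟨c, mem_nonZeroDivisors_of_ne_zero hc⟩, by
      rw [Submonoid.smul_def] at hr ⊢
      rw [Submonoid.coe_mul, mul_smul]
      exact hr⟩
  have hSN : ∀ (s : S) (m : N), s ⊗ₜ[A] m = (0 : S ⊗[A] N) := fun s m =>
    Groth.Misc6.flatInj S N.subtype N.mkQ Subtype.val_injective (LinearMap.exact_subtype_mkQ N)
      (Submodule.mkQ_surjective _) ((hN' _).trans (map_zero _).symm)
  -- a functional nonzero at `1`
  let K := FractionRing A
  let V := LocalizedModule (nonZeroDivisors A) S
  have h1 : LocalizedModule.mkLinearMap (nonZeroDivisors A) S 1 ≠ 0 := by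
    intro h
    obtain ⟨r, hr'⟩ := (IsLocalizedModule.eq_zero_iff (nonZeroDivisors A) (LocalizedModule.mkLinearMap (nonZeroDivisors A) S)).1 h
    exact nonZeroDivisors.ne_zero r.2 (hinj (by rw [map_zero]; simpa [Submonoid.smul_def, Algebra.smul_def] using hr'))
  obtain ⟨f, hf⟩ : ∃ f : V →ₗ[K] K, f (LocalizedModule.mkLinearMap (nonZeroDivisors A) S 1) = 1 := by
    obtain ⟨g, hg⟩ := Module.Projective.exists_dual_ne_zero K h1
    exact ⟨(g (LocalizedModule.mkLinearMap (nonZeroDivisors A) S 1))⁻¹ • g, by rw [LinearMap.smul_apply, smul_eq_mul, inv_mul_cancel₀ hg]⟩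
  haveI : Module.FinitePresentation A S := Module.finitePresentation_of_finite A S
  obtain ⟨φ, d, hφ⟩ := Module.FinitePresentation.exists_lift_of_isLocalizedModule (nonZeroDivisors A)
    (Algebra.linearMap A K) ((f.restrictScalars A).comp (LocalizedModule.mkLinearMap (nonZeroDivisors A) S))
  have hφ1 : φ 1 = (d : A) := by
    refine IsFractionRing.injective A K ?_
    have := LinearMap.congr_fun hφ 1
    simp only [LinearMap.comp_apply, LinearMap.smul_apply, LinearMap.restrictScalars_apply, Algebra.linearMap_apply] at this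
    rw [this, hf, Submonoid.smul_def, Algebra.smul_def, mul_one]
  have hdN : ∀ m : N, (d : A) • m = 0 := fun m => by
    have := congrArg (fun t => TensorProduct.lid A N (φ.rTensor N t)) (hSN 1 m)
    simpa [hφ1] using this
  haveI : Module.Flat S (S ⊗[A] N) := by
    haveI : Subsingleton (S ⊗[A] N) := subsingleton_of_forall_eq 0 fun t => by
      induction t using TensorProduct.induction_on with
      | zero => rfl
      | tmul s m => exact hSN s m
      | add a b ha hb => rw [ha, hb, add_zero]
    infer_instance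
  obtain ⟨a, J, hJ, hJd, hNJ⟩ := exists_contract IH hinj (M := N) inferInstance (d : A) (nonZeroDivisors.ne_zero d.2)
  have hN0 : ∀ m : N, m = 0 := by
    intro m
    let j : (A ⧸ J) →ₗ[A] S ⧸ a.restrictScalars A :=
      Submodule.mapQ J (a.restrictScalars A) (Algebra.linearMap A S) hJ.le
    have hj : Function.Injective j := by
      rw [← LinearMap.ker_eq_bot, Submodule.ker_mapQ]
      rw [show Submodule.comap (Algebra.linearMap A S) (a.restrictScalars A) = J from hJ.symm]
      exact Submodule.mkQ_map_self _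
    have hinjT := rTensor_injective_of_killed J hNJ j hj
      (fun t ht w => by
        obtain ⟨w, rfl⟩ := Submodule.mkQ_surjective _ w
        rw [← map_smul, Submodule.mkQ_apply, Submodule.Quotient.mk_eq_zero]
        exact Ideal.mul_mem_right _ _ ht)
      (fun t ht w => by
        obtain ⟨w, rfl⟩ := Submodule.mkQ_surjective _ w
        rw [← map_smul, Submodule.mkQ_apply, Submodule.Quotient.mk_eq_zero]
        show t • w ∈ a
        rw [Algebra.smul_def]
        exact Ideal.mul_mem_right _ _ (hJ.le ht))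
    have h0 : (1 : A ⧸ J) ⊗ₜ[A] m = 0 := hinjT (by
      rw [map_zero, LinearMap.rTensor_tmul]
      have := congrArg ((a.restrictScalars A).mkQ.rTensor N) (hSN 1 m)
      rw [map_zero, LinearMap.rTensor_tmul] at this
      rw [show j 1 = (a.restrictScalars A).mkQ 1 from by
        show (a.restrictScalars A).mkQ (Algebra.linearMap A S 1) = _
        rw [Algebra.linearMap_apply, map_one]]
      exact this)
    have h2 := congrArg (TensorProduct.quotTensorEquivQuotSMul N J) h0
    rw [map_zero, show (1 : A ⧸ J) = Ideal.Quotient.mk J 1 from rfl,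
      TensorProduct.quotTensorEquivQuotSMul_mk_tmul, one_smul, Submodule.Quotient.mk_eq_zero] at h2
    refine Submodule.smul_induction_on h2 (fun t ht w _ => ?_) fun x y hx hy => by rw [hx, hy, add_zero]
    obtain ⟨r, rfl⟩ := Ideal.mem_span_singleton'.1 (hJd ht)
    rw [mul_smul, hdN, smul_zero]
  refine Module.Flat.of_linearEquiv (LinearEquiv.ofBijective N.mkQ ⟨?_, Submodule.mkQ_surjective _⟩)
  rw [← LinearMap.ker_eq_bot, Submodule.ker_mkQ, eq_bot_iff]
  intro m hm
  exact congrArg Subtype.val (hN0 ⟨m, hm⟩)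

end Domain

theorem descends_of_forall (A : Type u) [CommRing A] [IsNoetherianRing A]
    (IH : ∀ J : Ideal A, J ≠ ⊥ → Descends (A ⧸ J)) : Descends A := by
  intro S _ _ hfin hinj M _ _ hM
  rcases subsingleton_or_nontrivial A with hA | hA
  · haveI : Subsingleton M := Module.subsingleton A M
    exact flat_of_ideals fun J _ _ _ _ => Subsingleton.elim _ _
  by_cases hd : ∃ x y : A, x ≠ 0 ∧ y ≠ 0 ∧ x * y = 0
  · obtain ⟨x, y, hx, hy, hxy⟩ := hd
    exact flat_of_zero_divisor IH hinj hM x y hx hy hxy
  haveI : NoZeroDivisors A := ⟨fun {x y} h => by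
    by_contra hh; rw [not_or] at hh; exact hd ⟨x, y, hh.1, hh.2, h⟩⟩
  haveI : IsDomain A := NoZeroDivisors.to_isDomain A
  haveI : Algebra.IsIntegral A S := inferInstance
  obtain ⟨Q, -, hQ, hQA⟩ := Ideal.exists_ideal_over_prime_of_isIntegral (S := S) (⊥ : Ideal A) ⊥
    ((RingHom.injective_iff_ker_eq_bot _).1 hinj).le
  haveI : IsDomain (S ⧸ Q) := Ideal.Quotient.isDomain Q
  refine flat_of_isDomain (S := S ⧸ Q) IH (fun x y h => ?_) (flat_quotient_tensor hM Q)
  have : algebraMap A S (x - y) ∈ Q := by
    rw [← Ideal.Quotient.eq_zero_iff_mem, map_sub, map_sub, sub_eq_zero]; exact h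
  rw [← Ideal.mem_comap, hQA, Submodule.mem_bot, sub_eq_zero] at this
  exact this

theorem descends (R : Type u) [CommRing R] [IsNoetherianRing R] : Descends R := by
  suffices key : ∀ (I : Ideal R) (A : Type u) [CommRing A] (φ : R →+* A), Function.Surjective φ →
      RingHom.ker φ = I → Descends A from key _ R (RingHom.id R) Function.surjective_id rfl
  intro I
  induction I using WellFoundedGT.induction with
  | ind I ih =>
    intro A _ φ hφ hker
    haveI : IsNoetherianRing A := isNoetherianRing_of_surjective R A φ hφ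
    refine descends_of_forall A fun J hJ => ?_
    refine ih (RingHom.ker ((Ideal.Quotient.mk J).comp φ)) ?_ _ ((Ideal.Quotient.mk J).comp φ)
      (Ideal.Quotient.mk_surjective.comp hφ) rfl
    refine lt_of_le_of_ne ?_ ?_
    · rw [← hker]; intro x hx; rw [RingHom.mem_ker, RingHom.comp_apply, RingHom.mem_ker.1 hx, map_zero]
    · intro he
      obtain ⟨a, haJ, ha⟩ := (Submodule.ne_bot_iff J).1 hJ
      obtain ⟨r, rfl⟩ := hφ a
      have hr : r ∈ RingHom.ker ((Ideal.Quotient.mk J).comp φ) := Ideal.Quotient.eq_zero_iff_mem.2 haJ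
      rw [← he, ← hker] at hr
      exact ha hr

end Groth.Calg3.FiniteDescent
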