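import Mathlib
import Groth.Agent.Calg3.FiniteDescent

/-! Descent of projectivity along finite injective maps of Noetherian rings. -/

set_option autoImplicit false
universe u
open TensorProduct Groth.Calg3.FiniteDescent

namespace Groth.Calg3.FiniteDescentProj

/-- The property being proved. -/
def DescendsProj (A : Type u) [CommRing A] : Prop :=
  ∀ (S : Type u) [CommRing S] [Algebra A S], Module.Finite A S → Function.Injective (algebraMap A S) →
    ∀ (P : Type u) [AddCommGroup P] [Module A P], Module.Projective S (S ⊗[A] P) → Module.Projective A P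

variable {A : Type u} [CommRing A] {P F : Type u} [AddCommGroup P] [Module A P] [AddCommGroup F] [Module A F]

/-- A retraction modulo `J`. -/
theorem split_mod [Module.Flat A P] [Module.Projective A F] (π : F →ₗ[A] P) (hπ : Function.Surjective π)
    (J : Ideal A) (hJ : Module.Projective (A ⧸ J) ((A ⧸ J) ⊗[A] P)) :
    ∃ r : F →ₗ[A] LinearMap.ker π,
      ∀ l : LinearMap.ker π, r l.1 - l ∈ J • (⊤ : Submodule A (LinearMap.ker π)) := by
  let L := LinearMap.ker π
  let ib := L.subtype.baseChange (A ⧸ J)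
  let pb := π.baseChange (A ⧸ J)
  have hib : Function.Injective ib :=
    Groth.Misc6.flatInj (A ⧸ J) L.subtype π Subtype.val_injective (LinearMap.exact_subtype_ker_map π) hπ
  have hex : Function.Exact ib pb := lTensor_exact (A ⧸ J) (LinearMap.exact_subtype_ker_map π) hπ
  obtain ⟨σ, hσ⟩ := Module.projective_lifting_property pb LinearMap.id (LinearMap.lTensor_surjective _ hπ)
  let ρ : ((A ⧸ J) ⊗[A] F) →ₗ[A ⧸ J] (A ⧸ J) ⊗[A] L :=
    (LinearEquiv.ofInjective ib hib).symm.toLinearMap ∘ₗ
      (LinearMap.id - σ ∘ₗ pb).codRestrict (LinearMap.range ib) fun w => by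
        refine (hex _).1 ?_
        have := LinearMap.congr_fun hσ (pb w)
        simp only [LinearMap.comp_apply, LinearMap.id_apply] at this
        rw [LinearMap.sub_apply, LinearMap.id_apply, LinearMap.comp_apply, map_sub, this, sub_self]
  have hρ : ∀ w, ρ (ib w) = w := fun w => by
    show (LinearEquiv.ofInjective ib hib).symm _ = w
    rw [LinearEquiv.symm_apply_eq]
    refine Subtype.ext ?_
    show ib w - σ (pb (ib w)) = ib w
    rw [hex.apply_apply_eq_zero, map_zero, sub_zero]
  let f0 : F →ₗ[A] L ⧸ (J • ⊤ : Submodule A L) :=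
    (TensorProduct.quotTensorEquivQuotSMul L J).toLinearMap ∘ₗ (ρ.restrictScalars A) ∘ₗ
      TensorProduct.mk A (A ⧸ J) F 1
  obtain ⟨r, hr⟩ := Module.projective_lifting_property (J • ⊤ : Submodule A L).mkQ f0 (Submodule.mkQ_surjective _)
  refine ⟨r, fun l => ?_⟩
  rw [← Submodule.Quotient.mk_eq_zero, Submodule.Quotient.mk_sub, sub_eq_zero]
  refine (LinearMap.congr_fun hr l.1).trans ?_
  show TensorProduct.quotTensorEquivQuotSMul L J (ρ ((1 : A ⧸ J) ⊗ₜ[A] l.1)) = _
  rw [show (1 : A ⧸ J) ⊗ₜ[A] l.1 = ib ((1 : A ⧸ J) ⊗ₜ[A] l) from rfl, hρ,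
    show (1 : A ⧸ J) = Ideal.Quotient.mk J 1 from rfl, TensorProduct.quotTensorEquivQuotSMul_mk_tmul, one_smul]

theorem projective_of_retraction [Module.Projective A F] (π : F →ₗ[A] P) (hπ : Function.Surjective π)
    (r : F →ₗ[A] LinearMap.ker π) (hr : ∀ l : LinearMap.ker π, r l.1 = l) : Module.Projective A P := by
  let j : P →ₗ[A] F :=
    (LinearMap.ker π).liftQ (LinearMap.id - (LinearMap.ker π).subtype ∘ₗ r) (fun x hx => by
      rw [LinearMap.mem_ker, LinearMap.sub_apply, LinearMap.id_apply, LinearMap.comp_apply, sub_eq_zero]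
      exact (congrArg Subtype.val (hr ⟨x, hx⟩)).symm) ∘ₗ (π.quotKerEquivOfSurjective hπ).symm.toLinearMap
  refine Module.Projective.of_split j π (LinearMap.ext fun p => ?_)
  obtain ⟨x, rfl⟩ := hπ p
  have : (π.quotKerEquivOfSurjective hπ).symm (π x) = Submodule.Quotient.mk x :=
    (π.quotKerEquivOfSurjective hπ).injective (by simp)
  simp only [j, LinearMap.comp_apply, LinearEquiv.coe_coe, this, Submodule.liftQ_apply, LinearMap.sub_apply,
    LinearMap.id_apply, map_sub]
  rw [Submodule.subtype_apply, show π (r x).1 = 0 from (r x).2, sub_zero]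

theorem projective_of_pq [Module.Flat A P] [Module.Projective A F] (π : F →ₗ[A] P) (hπ : Function.Surjective π)
    (p q : Ideal A) (hpq : ∀ s ∈ p, ∀ t ∈ q, s * t = 0) (hMp : Module.Projective (A ⧸ p) ((A ⧸ p) ⊗[A] P))
    (hMq : Module.Projective (A ⧸ q) ((A ⧸ q) ⊗[A] P)) : Module.Projective A P := by
  obtain ⟨rq, hrq⟩ := split_mod π hπ q hMq
  obtain ⟨rp, hrp⟩ := split_mod π hπ p hMp
  let D : LinearMap.ker π →ₗ[A] LinearMap.ker π := rq ∘ₗ (LinearMap.ker π).subtype - LinearMap.id
  have hD : ∀ l ∈ p • (⊤ : Submodule A (LinearMap.ker π)), D l = 0 := by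
    intro l hl
    refine Submodule.smul_induction_on hl (fun s hs w _ => ?_) fun a b ha hb => by rw [map_add, ha, hb, add_zero]
    rw [map_smul]
    have key : ∀ z ∈ q • (⊤ : Submodule A (LinearMap.ker π)), s • z = 0 := fun z hz => by
      induction hz using Submodule.smul_induction_on' with
      | smul t ht v _ => rw [smul_smul, hpq s hs t ht, zero_smul]
      | add a _ b _ ha hb => rw [smul_add, ha, hb, add_zero]
    exact key _ (hrq w)
  refine projective_of_retraction π hπ (rq - D ∘ₗ rp) fun l => ?_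
  have h1 : D (rp l.1) = D l := by
    rw [← sub_eq_zero, ← map_sub]
    exact hD _ (hrp l)
  show rq l.1 - D (rp l.1) = l
  rw [h1]
  show rq l.1 - (rq l.1 - l) = l
  abel

theorem projective_of_regular [Module.Flat A P] [Module.Projective A F] (π : F →ₗ[A] P) (hπ : Function.Surjective π)
    (e : A) (hreg : ∀ u v : F, e • u = e • v → u = v) (J : Ideal A) (hJe : J ≤ Ideal.span {e})
    (hMJ : Module.Projective (A ⧸ J) ((A ⧸ J) ⊗[A] P))
    (s : P →ₗ[A] F) (hs : π ∘ₗ s = e • LinearMap.id) : Module.Projective A P := by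
  let r0 : F →ₗ[A] LinearMap.ker π := (e • LinearMap.id - s ∘ₗ π).codRestrict _ fun x => by
    have h1 : π (s (π x)) = e • π x := LinearMap.congr_fun hs (π x)
    simp [h1]
  have hr0 : ∀ l : LinearMap.ker π, r0 l.1 = e • l := fun l => Subtype.ext (by
    show e • l.1 - s (π l.1) = e • l.1
    rw [show π l.1 = 0 from l.2, map_zero, sub_zero])
  obtain ⟨r1, hr1⟩ := split_mod π hπ J hMJ
  have hdiv : ∀ l : LinearMap.ker π, ∃ l' : LinearMap.ker π, e • l' = r1 l.1 - l := by
    intro l
    have h := Submodule.smul_mono_left hJe (hr1 l)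
    rw [Submodule.ideal_span_singleton_smul, Submodule.mem_smul_pointwise_iff_exists] at h
    obtain ⟨w, -, hw⟩ := h
    exact ⟨w, hw⟩
  choose D' hD' using hdiv
  have hcancel : ∀ u v : LinearMap.ker π, e • u = e • v → u = v := fun u v h =>
    Subtype.ext (hreg _ _ (congrArg Subtype.val h))
  let D : LinearMap.ker π →ₗ[A] LinearMap.ker π :=
    { toFun := D'
      map_add' := fun u v => hcancel _ _ (by
        rw [smul_add, hD', hD', hD', Submodule.coe_add, map_add]; abel)
      map_smul' := fun t u => hcancel _ _ (by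
        rw [RingHom.id_apply, smul_comm, hD', hD', Submodule.coe_smul, map_smul, smul_sub]) }
  refine projective_of_retraction π hπ (r1 - D ∘ₗ r0) fun l => ?_
  show r1 l.1 - D (r0 l.1) = l
  rw [hr0, map_smul]
  show r1 l.1 - e • D' l = l
  rw [hD']
  abel

variable {S : Type u} [CommRing S] [Algebra A S]

theorem projective_quotient_tensor (hP : Module.Projective S (S ⊗[A] P)) (a : Ideal S) :
    Module.Projective (S ⧸ a) ((S ⧸ a) ⊗[A] P) := by
  haveI := hP
  haveI : Module.Projective (S ⧸ a) ((S ⧸ a) ⊗[S] (S ⊗[A] P)) := inferInstance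
  exact Module.Projective.of_equiv (TensorProduct.AlgebraTensorModule.cancelBaseChange A S (S ⧸ a) (S ⧸ a) P)

variable (IH : ∀ J : Ideal A, J ≠ ⊥ → DescendsProj (A ⧸ J)) [Module.Finite A S]

include IH in
theorem projective_contract (hP : Module.Projective S (S ⊗[A] P)) (a : Ideal S) (J : Ideal A)
    (hJ : J = a.comap (algebraMap A S)) (hne : J ≠ ⊥) : Module.Projective (A ⧸ J) ((A ⧸ J) ⊗[A] P) := by
  letI : Algebra (A ⧸ J) (S ⧸ a) := (Ideal.quotientMap a (algebraMap A S) hJ.le).toAlgebra
  haveI : IsScalarTower A (A ⧸ J) (S ⧸ a) := IsScalarTower.of_algebraMap_eq fun _ => rfl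
  haveI : Module.Finite (A ⧸ J) (S ⧸ a) := Module.Finite.of_restrictScalars_finite A _ _
  refine IH J hne (S ⧸ a) inferInstance (Ideal.quotientMap_injective' hJ.ge) _ ?_
  haveI := projective_quotient_tensor hP a
  exact Module.Projective.of_equiv
    (TensorProduct.AlgebraTensorModule.cancelBaseChange A (A ⧸ J) (S ⧸ a) (S ⧸ a) P).symm

variable (hinj : Function.Injective (algebraMap A S))

include IH hinj in
theorem projective_of_zero_divisor [Module.Flat A P] (hP : Module.Projective S (S ⊗[A] P)) (x y : A)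
    (hx : x ≠ 0) (hy : y ≠ 0) (hxy : x * y = 0) : Module.Projective A P := by
  let ι := algebraMap A S
  let aP : Ideal S := LinearMap.ker (LinearMap.mulLeft S (ι x))
  let p : Ideal A := aP.comap ι
  let aQ : Ideal S := (p.map ι).annihilator
  let q : Ideal A := aQ.comap ι
  have hyp : y ∈ p := by
    show ι x * ι y = 0
    rw [← map_mul, hxy, map_zero]
  have hxq : x ∈ q := by
    show ι x ∈ (p.map ι).annihilator
    rw [Submodule.mem_annihilator]
    intro t ht
    exact (Ideal.map_le_iff_le_comap.2 le_rfl : p.map ι ≤ aP) ht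
  have hpq : ∀ s ∈ p, ∀ t ∈ q, s * t = 0 := fun s hs t ht => hinj (by
    rw [map_mul, map_zero, mul_comm]
    exact Submodule.mem_annihilator.1 ht _ (Ideal.mem_map_of_mem ι hs))
  have hMp := projective_contract IH hP aP p rfl (fun h => hy (by rw [h] at hyp; exact hyp))
  have hMq := projective_contract IH hP aQ q rfl (fun h => hx (by rw [h] at hxq; exact hxq))
  exact projective_of_pq (F := P →₀ A) (Finsupp.linearCombination A id)
    (Finsupp.linearCombination_id_surjective A P) p q hpq hMp hMq

section Domain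

variable [IsDomain A] [IsNoetherianRing A]

omit IH in
include hinj in
theorem exists_contract_le (c : A) (hc : c ≠ 0) :
    ∃ (a : Ideal S), a.comap (algebraMap A S) ≤ Ideal.span {c} ∧ a.comap (algebraMap A S) ≠ ⊥ := by
  let N := LinearMap.range (Algebra.linearMap A S)
  obtain ⟨k, hk⟩ := Ideal.exists_pow_inf_eq_pow_smul (Ideal.span {c}) N
  refine ⟨Ideal.span {algebraMap A S (c ^ (k + 1))}, fun a ha => ?_, fun h => ?_⟩
  · rw [Ideal.mem_comap, Ideal.mem_span_singleton'] at ha
    obtain ⟨s, hs⟩ := ha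
    have h1 : algebraMap A S a ∈ (Ideal.span {c} ^ (k + 1) • ⊤ : Submodule A S) ⊓ N := by
      refine ⟨?_, a, rfl⟩
      rw [← hs, mul_comm, ← Algebra.smul_def]
      exact Submodule.smul_mem_smul (Ideal.pow_mem_pow (Ideal.mem_span_singleton_self c) _) trivial
    rw [hk (k + 1) (Nat.le_succ k), show k + 1 - k = 1 by omega, pow_one] at h1
    have h2 := (smul_mono_right (Ideal.span {c}) (inf_le_right (b := N))) h1
    rw [Submodule.ideal_span_singleton_smul, Submodule.mem_smul_pointwise_iff_exists] at h2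
    obtain ⟨_, ⟨a', rfl⟩, ha'⟩ := h2
    rw [Ideal.mem_span_singleton']
    exact ⟨a', hinj (by rw [map_mul, ← ha', Algebra.smul_def, mul_comm]; rfl)⟩
  · have : c ^ (k + 1) ∈ (⊥ : Ideal A) := h ▸ Ideal.mem_span_singleton_self (algebraMap A S (c ^ (k + 1)))
    exact hc (pow_eq_zero_iff (by omega) |>.1 this)

omit IH [IsNoetherianRing A] in
include hinj in
theorem exists_factor_free (hP : Module.Projective S (S ⊗[A] P)) :
    ∃ (e : A) (G : Type u) (_ : AddCommGroup G) (_ : Module A G) (_ : Module.Projective A G)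
      (a : P →ₗ[A] G) (b : G →ₗ[A] P), e ≠ 0 ∧ b ∘ₗ a = e • LinearMap.id := by
  classical
  obtain ⟨m, gen, hgen⟩ := Module.Finite.exists_fin (R := A) (M := S)
  obtain ⟨I, hI, hmax⟩ := exists_maximal_linearIndepOn A gen
  have hall : ∀ i, ∃ a : A, a ≠ 0 ∧ a • gen i ∈ Submodule.span A (gen '' I) := fun i => by
    by_cases hi : i ∈ I
    · exact ⟨1, one_ne_zero, by rw [one_smul]; exact Submodule.subset_span ⟨i, hi, rfl⟩⟩
    · exact hmax i hi
  choose a ha0 ha using hall
  let e₁ := ∏ i, a i
  let Φ := Submodule.span A (gen '' I)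
  have hΦ : ∀ s : S, e₁ • s ∈ Φ := by
    intro s
    have hs : s ∈ Submodule.span A (Set.range gen) := by rw [hgen]; trivial
    induction hs using Submodule.span_induction with
    | mem x hx =>
      obtain ⟨i, rfl⟩ := hx
      rw [show e₁ = (∏ j ∈ Finset.univ.erase i, a j) * a i from (Finset.prod_erase_mul _ _ (Finset.mem_univ i)).symm,
        mul_smul]
      exact Φ.smul_mem _ (ha i)
    | zero => rw [smul_zero]; exact Φ.zero_mem
    | add x y _ _ hx hy => rw [smul_add]; exact Φ.add_mem hx hy
    | smul r x _ hx => rw [smul_comm]; exact Φ.smul_mem _ hx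
  let ψ : S →ₗ[A] Φ := (e₁ • LinearMap.id).codRestrict Φ hΦ
  haveI : Module.Free A Φ := by
    have hb := Module.Basis.span (hI : LinearIndependent A fun x : I => gen x)
    rw [show Set.range (fun x : I => gen x) = gen '' I from (Set.image_eq_range gen I).symm] at hb
    exact Module.Free.of_basis hb
  have he₁ : e₁ ≠ 0 := Finset.prod_ne_zero_iff.2 fun i _ => ha0 i
  have hψ1 : ψ 1 ≠ 0 := by
    intro h
    refine he₁ (hinj ?_)
    rw [map_zero, Algebra.algebraMap_eq_smul_one]
    exact congrArg Subtype.val h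
  obtain ⟨f, hf⟩ := Module.Projective.exists_dual_ne_zero A hψ1
  let φ : S →ₗ[A] A := f ∘ₗ ψ
  haveI := hP
  obtain ⟨i, hi⟩ := Module.projective_lifting_property (Finsupp.linearCombination S (id : S ⊗[A] P → _))
    LinearMap.id (Finsupp.linearCombination_id_surjective S _)
  refine ⟨e₁ * φ 1, (S ⊗[A] P) →₀ Φ, inferInstance, inferInstance, inferInstance,
    Finsupp.mapRange.linearMap ψ ∘ₗ (i.restrictScalars A) ∘ₗ TensorProduct.mk A S P 1,
    (TensorProduct.lid A P).toLinearMap ∘ₗ φ.rTensor P ∘ₗ
      ((Finsupp.linearCombination S (id : S ⊗[A] P → _)).restrictScalars A) ∘ₗ Finsupp.mapRange.linearMap Φ.subtype,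
    mul_ne_zero he₁ hf, LinearMap.ext fun x => ?_⟩
  have h1 : Finsupp.mapRange.linearMap Φ.subtype (Finsupp.mapRange.linearMap ψ (i ((1 : S) ⊗ₜ[A] x))) =
      e₁ • i ((1 : S) ⊗ₜ[A] x) := by
    ext k
    simp [ψ]
  simp only [LinearMap.comp_apply, LinearMap.restrictScalars_apply, TensorProduct.mk_apply, LinearMap.smul_apply,
    LinearMap.id_apply, LinearEquiv.coe_coe, h1]
  rw [LinearMap.map_smul_of_tower, show (Finsupp.linearCombination S (id : S ⊗[A] P → _)) (i ((1 : S) ⊗ₜ[A] x)) = _ from
    LinearMap.congr_fun hi _, LinearMap.id_apply, map_smul, map_smul, LinearMap.rTensor_tmul, TensorProduct.lid_tmul,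
    smul_smul]

include IH hinj in
theorem projective_of_isDomain [Module.Flat A P] (hP : Module.Projective S (S ⊗[A] P)) :
    Module.Projective A P := by
  obtain ⟨e, G, _, _, _, a, b, he, hab⟩ := exists_factor_free hinj hP
  obtain ⟨c, hc, hc0⟩ := exists_contract_le hinj e he
  obtain ⟨s', hs'⟩ := Module.projective_lifting_property (Finsupp.linearCombination A (id : P → P)) b
    (Finsupp.linearCombination_id_surjective A P)
  exact projective_of_regular (F := P →₀ A) (Finsupp.linearCombination A id)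
    (Finsupp.linearCombination_id_surjective A P) e
    (fun u v h => Finsupp.ext fun k => mul_left_cancel₀ he (DFunLike.congr_fun h k))
    _ hc (projective_contract IH hP c _ rfl hc0) (s' ∘ₗ a) (by rw [← LinearMap.comp_assoc, hs', hab])

end Domain

theorem descends_of_forall (A : Type u) [CommRing A] [IsNoetherianRing A]
    (IH : ∀ J : Ideal A, J ≠ ⊥ → DescendsProj (A ⧸ J)) : DescendsProj A := by
  intro S _ _ hfin hinj P _ _ hP
  haveI : Module.Flat A P := Groth.Calg3.FiniteDescent.descends A S hfin hinj P inferInstance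
  rcases subsingleton_or_nontrivial A with hA | hA
  · haveI : Subsingleton P := Module.subsingleton A P
    infer_instance
  by_cases hd : ∃ x y : A, x ≠ 0 ∧ y ≠ 0 ∧ x * y = 0
  · obtain ⟨x, y, hx, hy, hxy⟩ := hd
    exact projective_of_zero_divisor IH hinj hP x y hx hy hxy
  haveI : NoZeroDivisors A := ⟨fun {x y} h => by
    by_contra hh; rw [not_or] at hh; exact hd ⟨x, y, hh.1, hh.2, h⟩⟩
  haveI : IsDomain A := NoZeroDivisors.to_isDomain A
  exact projective_of_isDomain IH hinj hP

theorem descends (R : Type u) [CommRing R] [IsNoetherianRing R] : DescendsProj R := by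
  suffices key : ∀ (I : Ideal R) (A : Type u) [CommRing A] (φ : R →+* A), Function.Surjective φ →
      RingHom.ker φ = I → DescendsProj A from key _ R (RingHom.id R) Function.surjective_id rfl
  intro I
  induction I using WellFoundedGT.induction with
  | ind I ih =>
    intro A _ φ hφ hker
    haveI : IsNoetherianRing A := isNoetherianRing_of_surjective R A φ hφ
    refine descends_of_forall A fun J hJ => ?_
    refine ih (RingHom.ker ((Ideal.Quotient.mk J).comp φ)) ?_ _ ((Ideal.Quotient.mk J).comp φ)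
      (Ideal.Quotient.mk_surjective.comp hφ) rfl
    refine lt_of_le_of_ne ?_ ?_
    · rw [← hker]; intro x hx; rw [RingHom.mem_ker, RingHom.comp_apply, RingHom.mem_ker.1 hx, map_zero]
    · intro he
      obtain ⟨a, haJ, ha⟩ := (Submodule.ne_bot_iff J).1 hJ
      obtain ⟨r, rfl⟩ := hφ a
      have hr : r ∈ RingHom.ker ((Ideal.Quotient.mk J).comp φ) := Ideal.Quotient.eq_zero_iff_mem.2 haJ
      rw [← he, ← hker] at hr
      exact ha hr

end Groth.Calg3.FiniteDescentProj
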