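import Mathlib
import Groth.Agent.SGA7.QLinear
import Groth.Agent.Hensel1.Local

/-! Fixed points of Frobenius-semilinear maps over strictly henselian local rings. -/

set_option autoImplicit false

universe u v

open IsLocalRing
open scoped TensorProduct

namespace Groth.Calg3.FrobFixed

open Groth.SGA7.QLin

theorem natCard_frob_fixed (k : Type u) [Field k] (p : ℕ) [hp : Fact p.Prime] [CharP k p] :
    Nat.card {x : k // x ^ p = x} = p := by
  classical
  let f : ZMod p → {x : k // x ^ p = x} := fun a =>
    ⟨ZMod.castHom dvd_rfl k a, by rw [← map_pow, ZMod.pow_card]⟩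
  have hb : Function.Bijective f := by
    refine ⟨fun a b h => (ZMod.castHom dvd_rfl k).injective (congrArg Subtype.val h), fun ⟨x, hx⟩ => ?_⟩
    let P : Polynomial k := Polynomial.X ^ p - Polynomial.X
    have hP : P.natDegree = p := FiniteField.X_pow_card_sub_X_natDegree_eq k hp.out.one_lt
    have hP0 : P ≠ 0 := fun h => by rw [h, Polynomial.natDegree_zero] at hP; exact hp.out.pos.ne hP
    have hsub : Finset.univ.image (fun a : ZMod p => ZMod.castHom dvd_rfl k a) ⊆ P.roots.toFinset := by
      intro y hy
      obtain ⟨a, -, rfl⟩ := Finset.mem_image.mp hy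
      rw [Multiset.mem_toFinset, Polynomial.mem_roots hP0]
      rw [Polynomial.IsRoot, Polynomial.eval_sub, Polynomial.eval_pow, Polynomial.eval_X, ← map_pow, ZMod.pow_card, sub_self]
    have hcard : P.roots.toFinset.card ≤ (Finset.univ.image (fun a : ZMod p => ZMod.castHom dvd_rfl k a)).card := by
      rw [Finset.card_image_of_injective _ (ZMod.castHom dvd_rfl k).injective, Finset.card_univ, ZMod.card]
      exact (Multiset.toFinset_card_le _).trans ((Polynomial.card_roots' P).trans hP.le)
    have hx' : x ∈ P.roots.toFinset := by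
      rw [Multiset.mem_toFinset, Polynomial.mem_roots hP0]
      simp [P, hx]
    rw [← Finset.eq_of_subset_of_card_le hsub hcard] at hx'
    obtain ⟨a, -, ha⟩ := Finset.mem_image.mp hx'
    exact ⟨a, Subtype.ext ha⟩
  rw [← Nat.card_congr (Equiv.ofBijective f hb), Nat.card_zmod]

variable {k : Type u} [Field k] [IsSepClosed k] (p : ℕ) [hp : Fact p.Prime] [CharP k p]
  {V : Type v} [AddCommGroup V] [Module k V] [FiniteDimensional k V] {φ : V →+ V}

theorem natCard_fixed (hφ : IsQLin (k := k) p φ) (hss : Submodule.span k (Set.range φ) = ⊤) :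
    Nat.card {v : V // φ v = v} = p ^ Module.finrank k V := by
  classical
  obtain ⟨b, hb⟩ := exists_basis_fixed hp.out.one_lt (CharP.cast_eq_zero k p) hφ hss
  have h : ∀ v, φ v = v ↔ ∀ i, b.repr v i ^ p = b.repr v i := fun v => by
    refine ⟨fun h i => by rw [← repr_pow_eq hφ b hb, h], fun h => b.ext_elem fun i => by rw [repr_pow_eq hφ b hb, h]⟩
  rw [Nat.card_congr ((b.equivFun.toEquiv.subtypeEquiv h).trans (Equiv.subtypePiEquivPi (p := fun _ x => x ^ p = x))),
    Nat.card_pi]
  simp [natCard_frob_fixed k p]

theorem surjective_sub (hφ : IsQLin (k := k) p φ) (b : V) : ∃ v, φ v - v = b := by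
  obtain ⟨v, hv⟩ := sub_surjective hp.out.one_lt (CharP.cast_eq_zero k p) hφ (-b)
  exact ⟨v, by rw [← neg_sub, show v - φ v = -b from hv, neg_neg]⟩

section Hensel

variable {R : Type u} [CommRing R] {n : ℕ} (A : Matrix (Fin n) (Fin n) R) (b : Fin n → R)

/-- the equations of a twisted Artin-Schreier system -/
noncomputable def eqn (i : Fin n) : MvPolynomial (Fin n) R :=
  (∑ j, MvPolynomial.C (A i j) * MvPolynomial.X j ^ p) - MvPolynomial.X i - MvPolynomial.C (b i)

/-- its algebra -/
abbrev Alg : Type u := MvPolynomial (Fin n) R ⧸ Ideal.span (Set.range (eqn p A b))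

theorem eval_eqn {B : Type*} [CommRing B] [Algebra R B] (x : Fin n → B) (i : Fin n) :
    MvPolynomial.aeval x (eqn p A b i) =
      (∑ j, algebraMap R B (A i j) * x j ^ p) - x i - algebraMap R B (b i) := by
  simp [eqn]

/-- points -/
noncomputable def pointsEquiv (B : Type*) [CommRing B] [Algebra R B] :
    (Alg p A b →ₐ[R] B) ≃ {x : Fin n → B // ∀ i, (∑ j, algebraMap R B (A i j) * x j ^ p) - x i = algebraMap R B (b i)} where
  toFun f := ⟨fun i => f (Ideal.Quotient.mkₐ R _ (MvPolynomial.X i)), fun i => by
    have h : f (Ideal.Quotient.mkₐ R _ (eqn p A b i)) = 0 := by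
      rw [Ideal.Quotient.mkₐ_eq_mk, Ideal.Quotient.eq_zero_iff_mem.mpr (Ideal.subset_span (Set.mem_range_self i)), map_zero]
    rw [← AlgHom.comp_apply, MvPolynomial.aeval_unique (f.comp _), eval_eqn, sub_eq_zero] at h
    exact h⟩
  invFun x := Ideal.Quotient.liftₐ _ (MvPolynomial.aeval x.1) (fun a ha => by
    refine (Ideal.span_le (I := RingHom.ker (MvPolynomial.aeval (R := R) x.1)).mpr ?_) ha
    rintro _ ⟨i, rfl⟩
    rw [SetLike.mem_coe, RingHom.mem_ker, eval_eqn, x.2 i, sub_self])
  left_inv f := by
    refine Ideal.Quotient.algHom_ext R (MvPolynomial.algHom_ext fun i => ?_)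
    exact MvPolynomial.aeval_X _ i
  right_inv x := Subtype.ext (funext fun i => MvPolynomial.aeval_X _ i)

theorem pointsEquiv_apply (B : Type*) [CommRing B] [Algebra R B] (f : Alg p A b →ₐ[R] B) (i : Fin n) :
    (pointsEquiv p A b B f).1 i = f (Ideal.Quotient.mkₐ R _ (MvPolynomial.X i)) := rfl

variable [CharP R p]

instance etale : Algebra.Etale R (Alg p A b) := by
  have hfe : Algebra.FormallyEtale R (Alg p A b) := by
    rw [Algebra.FormallyEtale.iff_comp_bijective]
    intro B _ _ I hI
    have hpB : (p : B) = 0 := by rw [← map_natCast (algebraMap R B), CharP.cast_eq_zero, map_zero]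
    have hpow : ∀ x i : B, i ∈ I → (x + i) ^ p = x ^ p := by
      intro x i hi
      obtain ⟨r, hr⟩ := exists_add_pow_prime_eq hp.out x i
      rw [hr, hpB, zero_mul, zero_mul, zero_mul, add_zero]
      have : i ^ p ∈ I ^ 2 := Ideal.pow_le_pow_right hp.out.two_le (Ideal.pow_mem_pow hi p)
      rw [hI, Ideal.mem_bot] at this
      rw [this, add_zero]
    constructor
    · intro f g hfg
      apply (pointsEquiv p A b B).injective
      apply Subtype.ext
      funext i
      have hd : ∀ j, (pointsEquiv p A b B g).1 j - (pointsEquiv p A b B f).1 j ∈ I := fun j => by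
        rw [← Ideal.Quotient.eq]
        exact (DFunLike.congr_fun hfg _).symm
      have hp' : ∀ j, (pointsEquiv p A b B g).1 j ^ p = (pointsEquiv p A b B f).1 j ^ p := fun j => by
        have := hpow ((pointsEquiv p A b B f).1 j) _ (hd j)
        rwa [add_sub_cancel] at this
      have h1 := (pointsEquiv p A b B f).2 i
      have h2 := (pointsEquiv p A b B g).2 i
      simp only [hp'] at h2
      linear_combination h2 - h1
    · intro f
      let xb := (pointsEquiv p A b (B ⧸ I) f).1
      choose x hx using fun j => Ideal.Quotient.mk_surjective (xb j)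
      let y : Fin n → B := fun i => (∑ j, algebraMap R B (A i j) * x j ^ p) - algebraMap R B (b i)
      have hy : ∀ i, Ideal.Quotient.mk I (y i) = xb i := fun i => by
        have := (pointsEquiv p A b (B ⧸ I) f).2 i
        have hmk : ∀ r : R, Ideal.Quotient.mk I (algebraMap R B r) = algebraMap R (B ⧸ I) r := fun r => rfl
        simp only [y, map_sub, map_sum, map_mul, map_pow, hx, hmk]
        linear_combination this
      have hyp : ∀ j, y j ^ p = x j ^ p := fun j => by
        have := hpow (x j) (y j - x j) (by rw [← Ideal.Quotient.eq, hy, hx])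
        rwa [add_sub_cancel] at this
      refine ⟨(pointsEquiv p A b B).symm ⟨y, fun i => ?_⟩, ?_⟩
      · show (∑ j, algebraMap R B (A i j) * y j ^ p) - y i = algebraMap R B (b i)
        have e : (∑ j, algebraMap R B (A i j) * y j ^ p) = ∑ j, algebraMap R B (A i j) * x j ^ p :=
          Finset.sum_congr rfl fun j _ => by rw [hyp j]
        rw [e]; show _ - ((∑ j, algebraMap R B (A i j) * x j ^ p) - algebraMap R B (b i)) = _; ring
      · refine Ideal.Quotient.algHom_ext R (MvPolynomial.algHom_ext fun i => ?_)
        show Ideal.Quotient.mk I (MvPolynomial.aeval y (MvPolynomial.X i)) = _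
        rw [MvPolynomial.aeval_X, hy]
        rfl
  have : Algebra.FinitePresentation R (Alg p A b) :=
    Algebra.FinitePresentation.quotient (Submodule.fg_span (Set.finite_range _))
  exact ⟨hfe, this⟩

/-- solutions lift uniquely -/
theorem bijective_reduce [HenselianLocalRing R] :
    Function.Bijective (fun x : {x : Fin n → R // ∀ i, (∑ j, A i j * x j ^ p) - x i = b i} =>
      (⟨fun i => residue R (x.1 i), fun i => by
        have := congrArg (residue R) (x.2 i)
        simpa only [map_sub, map_sum, map_mul, map_pow] using this⟩ :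
        {y : Fin n → ResidueField R // ∀ i, (∑ j, residue R (A i j) * y j ^ p) - y i = residue R (b i)})) := by
  constructor
  · intro x x' h
    have h' : ∀ i, residue R (x.1 i) = residue R (x'.1 i) := fun i => congrFun (congrArg Subtype.val h) i
    let f := (pointsEquiv p A b R).symm ⟨x.1, x.2⟩
    let f' := (pointsEquiv p A b R).symm ⟨x'.1, x'.2⟩
    obtain ⟨g, hg, huniq⟩ := Groth.Hensel1.existsUnique_algHom_lift_residue (T := R) (R := R)
      ((Algebra.ofId R (ResidueField R)).comp f)
    have e : f' = f := (huniq f' fun a => by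
      show residue R (f' a) = residue R (f a)
      have : (Algebra.ofId R (ResidueField R)).comp f' = (Algebra.ofId R (ResidueField R)).comp f := by
        refine Ideal.Quotient.algHom_ext R (MvPolynomial.algHom_ext fun i => ?_)
        show residue R (MvPolynomial.aeval x'.1 (MvPolynomial.X i)) = residue R (MvPolynomial.aeval x.1 (MvPolynomial.X i))
        rw [MvPolynomial.aeval_X, MvPolynomial.aeval_X, h']
      exact DFunLike.congr_fun this a).trans (huniq f fun a => rfl).symm
    have := congrArg (fun f => (pointsEquiv p A b R f).1) e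
    simp only [f, f', Equiv.apply_symm_apply] at this
    exact Subtype.ext this.symm
  · intro y
    obtain ⟨g, hg, -⟩ := Groth.Hensel1.existsUnique_algHom_lift_residue (T := R) (R := R)
      ((pointsEquiv p A b (ResidueField R)).symm ⟨y.1, y.2⟩)
    refine ⟨⟨(pointsEquiv p A b R g).1, (pointsEquiv p A b R g).2⟩, Subtype.ext (funext fun i => ?_)⟩
    rw [show y.1 i = (pointsEquiv p A b (ResidueField R) ((pointsEquiv p A b (ResidueField R)).symm ⟨y.1, y.2⟩)).1 i by
      rw [Equiv.apply_symm_apply]]
    exact hg _

end Hensel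

end Groth.Calg3.FrobFixed
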