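import Mathlib
import Groth.Agent.EtaleAlgebra.GluePair
import Groth.Agent.HTopHyper.HTor.TorKer

/-! Vanishing of `Tor₁` against a glueing pair. -/

set_option autoImplicit false

universe u

open TensorProduct

namespace Groth.Calg3.GlueTor

variable {R R' : Type u} [CommRing R] [CommRing R'] [Algebra R R'] {f : R}

theorem ker_lTensor_isTors {K F : Type u} [AddCommGroup K] [Module R K] [AddCommGroup F] [Module R F]
    (ι : K →ₗ[R] F) (hι : Function.Injective ι) (hq : ∀ x : F, ∃ n : ℕ, f ^ n • x ∈ LinearMap.range ι)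
    (x : R' ⊗[R] K) (hx : ι.lTensor R' x = 0) : ∃ n : ℕ, f ^ n • x = 0 := by
  set S := Submonoid.powers f
  let gK := LocalizedModule.mkLinearMap S K
  let gF := LocalizedModule.mkLinearMap S F
  let e := IsLocalizedModule.map S gK gF ι
  have he : Function.Bijective e := by
    refine ⟨IsLocalizedModule.map_injective S gK gF ι hι, fun y => ?_⟩
    induction y using LocalizedModule.induction_on with
    | h m s =>
      obtain ⟨n, k, hk⟩ := hq m
      refine ⟨LocalizedModule.mk k (⟨f ^ n, n, rfl⟩ * s), ?_⟩
      rw [IsLocalizedModule.mk_eq_mk', IsLocalizedModule.map_mk', hk, ← IsLocalizedModule.mk_eq_mk',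
        LocalizedModule.mk_eq]
      refine ⟨1, ?_⟩
      simp only [one_smul, Submonoid.smul_def, Submonoid.coe_mul, smul_smul]
      congr 1; ring
  let g := TensorProduct.AlgebraTensorModule.rTensor R R' gK
  have : IsLocalizedModule S g := inferInstance
  let E := LinearEquiv.ofBijective e he
  have key : ∀ z : R' ⊗[R] K, TensorProduct.comm R R' (LocalizedModule S F)
      ((gF.lTensor R') (ι.lTensor R' z)) = (E.toLinearMap.rTensor R') (g (TensorProduct.comm R R' K z)) := by
    intro z
    induction z using TensorProduct.induction_on with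
    | zero => simp
    | tmul a b =>
      simp only [LinearMap.lTensor_tmul, TensorProduct.comm_tmul, g, TensorProduct.AlgebraTensorModule.rTensor_tmul,
        LinearMap.rTensor_tmul, LinearEquiv.coe_coe, E, LinearEquiv.ofBijective_apply, e, IsLocalizedModule.map_apply]
    | add a b ha hb => simp only [map_add, ha, hb]
  have h := key x
  rw [hx, map_zero, map_zero] at h
  have hinj : Function.Injective (E.toLinearMap.rTensor R') := (E.rTensor R').injective
  have h0 : g (TensorProduct.comm R R' K x) = 0 := hinj (by rw [← h, map_zero])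
  obtain ⟨⟨s, n, rfl⟩, hs⟩ := (IsLocalizedModule.eq_zero_iff S g).mp h0
  refine ⟨n, (TensorProduct.comm R R' K).injective ?_⟩
  rw [map_smul, map_zero]
  exact hs

variable (h : EtGlue.IsGlueingPair R R' f) {F : Type u} [AddCommGroup F] [Module R F]
  (hF : Groth.EtaleAlgebra.Glue.TorsInj R R' f F)

include h hF in
theorem injective_of_tors (K : Submodule R F) (hK : ∀ k : K, Groth.EtaleAlgebra.Glue.IsTors f k) :
    Function.Injective (K.subtype.lTensor R') := by
  refine (injective_iff_map_eq_zero _).mpr fun x hx => ?_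
  obtain ⟨k, hkx⟩ := (Groth.EtaleAlgebra.Glue.mk_bijective_of_tors h.1 hK).2 x
  obtain ⟨n, hn⟩ := hK k
  subst hkx
  rw [LinearMap.lTensor_tmul] at hx
  have h0 : (k : F) = 0 := hF (k : F) ⟨n, congrArg Subtype.val hn⟩ hx
  rw [show k = 0 from Subtype.ext h0]; exact TensorProduct.tmul_zero _ _

include h hF in
theorem injective_of_quot_tors (K : Submodule R F) (hK : ∀ x : F, ∃ n : ℕ, f ^ n • x ∈ K) :
    Function.Injective (K.subtype.lTensor R') := by
  refine (injective_iff_map_eq_zero _).mpr fun x hx => ?_
  obtain ⟨n, hn⟩ := ker_lTensor_isTors K.subtype Subtype.val_injective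
    (fun y => by rw [Submodule.range_subtype]; exact hK y) x hx
  obtain ⟨k, hk, hkx⟩ := Groth.EtaleAlgebra.Glue.torsSurj h K x ⟨n, hn⟩
  obtain ⟨m, hm⟩ := hk
  subst hkx
  rw [LinearMap.lTensor_tmul] at hx
  have h0 : (k : F) = 0 := hF (k : F) ⟨m, congrArg Subtype.val hm⟩ hx
  rw [show k = 0 from Subtype.ext h0, TensorProduct.tmul_zero]

theorem subsingleton_tor [Module.Projective R F] {N : Type u} [AddCommGroup N] [Module R N] (π : F →ₗ[R] N)
    (hπ : Function.Surjective π) (hinj : Function.Injective ((LinearMap.ker π).subtype.lTensor R')) :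
    Subsingleton (DRing.Tor R 1 R' N) := by
  obtain ⟨e⟩ := Groth.HTorLib.tor_one_equiv (A := R) (H := R') (N := N) (N' := ↥(LinearMap.ker π)) (P := F)
    (ι := (LinearMap.ker π).subtype) (π := π) Subtype.val_injective hπ (LinearMap.exact_subtype_ker_map π)
  have : Subsingleton (LinearMap.ker ((LinearMap.ker π).subtype.lTensor R')) := by
    rw [LinearMap.ker_eq_bot.mpr hinj]
    infer_instance
  exact e.toEquiv.subsingleton

end Groth.Calg3.GlueTor
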