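import Groth.Agent.Calg3.PcHom
import Groth.Agent.S7153

/-! Artin–Rees for `Hom_{D(A)}(K, M[p])` with `K` pseudo-coherent. -/

set_option autoImplicit false

universe u

open CategoryTheory

namespace Groth.Calg3

variable {A : Type u} [CommRing A]

theorem mem_smul_top_of_range {F M : Type u} [AddCommGroup F] [Module A F] [Module.Free A F]
    [Module.Finite A F] [AddCommGroup M] [Module A M] (J : Ideal A) (ψ : F →ₗ[A] M)
    (h : ∀ x, ψ x ∈ J • (⊤ : Submodule A M)) : ψ ∈ J • (⊤ : Submodule A (F →ₗ[A] M)) := by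
  classical
  let b := Module.Free.chooseBasis A F
  have e : ψ = ∑ i, (b.coord i).smulRight (ψ (b i)) := b.ext fun j => by
    simp [Finsupp.single_apply, ite_smul]
  rw [e]
  refine Submodule.sum_mem _ fun i _ => ?_
  have h1 := Submodule.mem_map_of_mem (f := LinearMap.smulRightₗ (b.coord i)) (h (b i))
  rw [Submodule.map_smul''] at h1
  exact Submodule.smul_mono le_rfl le_top h1

theorem apply_mem_of_mem_smul_top {F M : Type u} [AddCommGroup F] [Module A F] [AddCommGroup M]
    [Module A M] (J : Ideal A) {ψ : F →ₗ[A] M} (h : ψ ∈ J • (⊤ : Submodule A (F →ₗ[A] M))) (x : F) :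
    ψ x ∈ J • (⊤ : Submodule A M) := by
  have h1 := Submodule.mem_map_of_mem (f := LinearMap.applyₗ x) h
  rw [Submodule.map_smul''] at h1
  exact Submodule.smul_mono le_rfl le_top h1

theorem comp_mkQ_eq_zero_iff {F M : Type u} [AddCommGroup F] [Module A F] [Module.Free A F]
    [Module.Finite A F] [AddCommGroup M] [Module A M] (J : Ideal A) (ψ : F →ₗ[A] M) :
    (J • (⊤ : Submodule A M)).mkQ ∘ₗ ψ = 0 ↔ ψ ∈ J • (⊤ : Submodule A (F →ₗ[A] M)) := by
  constructor
  · intro h
    exact mem_smul_top_of_range J ψ fun x => (Submodule.Quotient.mk_eq_zero _).1 (LinearMap.congr_fun h x)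
  · intro h
    exact LinearMap.ext fun x => (Submodule.Quotient.mk_eq_zero _).2 (apply_mem_of_mem_smul_top J h x)

theorem exists_pow_smul_eq_zero {H : Type*} [AddCommGroup H] [Module A H] [Module.Finite A H]
    (I : Ideal A) (h : ∀ e : H, ∃ n : ℕ, ∀ x ∈ I ^ n, x • e = 0) :
    ∃ N : ℕ, ∀ e : H, ∀ x ∈ I ^ N, x • e = 0 := by
  classical
  obtain ⟨t, ht⟩ := (Module.Finite.fg_top : (⊤ : Submodule A H).FG)
  choose n hn using h
  refine ⟨t.sup n, fun e x hx => ?_⟩
  have he : e ∈ Submodule.span A (t : Set H) := ht ▸ Submodule.mem_top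
  induction he using Submodule.span_induction with
  | mem m hm => exact hn m x (Ideal.pow_le_pow_right (Finset.le_sup hm) hx)
  | zero => exact smul_zero _
  | add a b _ _ ha hb => rw [smul_add, ha, hb, add_zero]
  | smul a b _ hb => rw [smul_comm, hb, smul_zero]

end Groth.Calg3
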