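import Mathlib
import Groth.Agent.S7153
import Groth.Agent.Calg3.PcArtinRees

/-! `Hom(M, N) → Hom(M, N / Iⁿ N)` for finite modules over a Noetherian ring. -/

set_option autoImplicit false

universe u

namespace Groth.Calg3

variable {A : Type u} [CommRing A] [IsNoetherianRing A]

theorem hom_quot (I : Ideal A) (M N : Type u) [AddCommGroup M] [Module A M] [Module.Finite A M]
    [AddCommGroup N] [Module A N] [Module.Finite A N] :
    ∃ c : ℕ, ∀ n : ℕ,
      (∀ ψ : M →ₗ[A] N ⧸ (I ^ (n + c) • ⊤ : Submodule A N), ∃ φ : M →ₗ[A] N, ∀ x y,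
        ψ x = Submodule.Quotient.mk y → φ x - y ∈ (I ^ n • ⊤ : Submodule A N)) ∧
      (∀ φ : M →ₗ[A] N, (∀ x, φ x ∈ (I ^ n • ⊤ : Submodule A N)) → ∀ a ∈ I ^ c,
        a • φ ∈ (I ^ n • ⊤ : Submodule A (M →ₗ[A] N))) ∧
      (∀ ψ : M →ₗ[A] N ⧸ (I ^ n • ⊤ : Submodule A N), ∀ a ∈ I ^ c,
        ∃ φ : M →ₗ[A] N, (I ^ n • ⊤ : Submodule A N).mkQ ∘ₗ φ = a • ψ) := by
  classical
  obtain ⟨n₀, π, hπ⟩ := Module.Finite.exists_fin' A M
  obtain ⟨m₀, d', hd'⟩ := Module.Finite.exists_fin' A (LinearMap.ker π)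
  let d : (Fin m₀ → A) →ₗ[A] (Fin n₀ → A) := (LinearMap.ker π).subtype ∘ₗ d'
  have hπd : ∀ w, π (d w) = 0 := fun w => (d' w).2
  let β : ((Fin n₀ → A) →ₗ[A] N) →ₗ[A] ((Fin m₀ → A) →ₗ[A] N) := LinearMap.lcomp A N d
  obtain ⟨c, -, hc⟩ := Groth.Agent.S7153.result A I PUnit ((Fin n₀ → A) →ₗ[A] N)
    ((Fin m₀ → A) →ₗ[A] N) 0 β (LinearMap.comp_zero β)
  simp only [LinearMap.range_zero, bot_sup_eq] at hc
  let E : (M →ₗ[A] N) →ₗ[A] LinearMap.ker β :=
    (LinearMap.lcomp A N π).codRestrict (LinearMap.ker β) fun φ => by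
      rw [LinearMap.mem_ker]
      exact LinearMap.ext fun w => by simp [β, hπd]
  have hEi : Function.Injective E := fun φ φ' h => LinearMap.ext fun x => by
    obtain ⟨w, rfl⟩ := hπ x
    exact LinearMap.congr_fun (congrArg Subtype.val h) w
  have hker : LinearMap.ker π = LinearMap.range d := by
    rw [LinearMap.range_comp, LinearMap.range_eq_top.mpr hd', Submodule.map_subtype_top]
  have hEs : Function.Surjective E := fun z => by
    have hle : LinearMap.ker π ≤ LinearMap.ker (z : (Fin n₀ → A) →ₗ[A] N) := by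
      rw [hker]
      rintro _ ⟨w, rfl⟩
      exact LinearMap.congr_fun (LinearMap.mem_ker.mp z.2) w
    refine ⟨(LinearMap.ker π).liftQ _ hle ∘ₗ (π.quotKerEquivOfSurjective hπ).symm.toLinearMap, ?_⟩
    refine Subtype.ext (LinearMap.ext fun w => ?_)
    have : (π.quotKerEquivOfSurjective hπ).symm (π w) = Submodule.Quotient.mk w := by
      rw [LinearEquiv.symm_apply_eq]; rfl
    show (LinearMap.ker π).liftQ _ hle ((π.quotKerEquivOfSurjective hπ).symm (π w)) = _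
    rw [this]; rfl
  have lift : ∀ (J : Ideal A) (ψ : M →ₗ[A] N ⧸ (J • ⊤ : Submodule A N)),
      ∃ y : (Fin n₀ → A) →ₗ[A] N, (J • ⊤ : Submodule A N).mkQ ∘ₗ y = ψ ∘ₗ π ∧
        y ∈ (J • ⊤ : Submodule A ((Fin m₀ → A) →ₗ[A] N)).comap β := by
    intro J ψ
    obtain ⟨y, hy⟩ := Module.projective_lifting_property (J • ⊤ : Submodule A N).mkQ (ψ ∘ₗ π)
      (Submodule.mkQ_surjective _)
    refine ⟨y, hy, mem_smul_top_of_range J _ fun w => ?_⟩
    have h1 : Submodule.Quotient.mk (y (d w)) = ψ (π (d w)) := LinearMap.congr_fun hy (d w)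
    rw [hπd, map_zero, Submodule.Quotient.mk_eq_zero] at h1
    exact h1
  refine ⟨c, fun n => ⟨fun ψ => ?_, fun φ hφ a ha => ?_, fun ψ a ha => ?_⟩⟩
  · obtain ⟨y, hy, hyβ⟩ := lift _ ψ
    obtain ⟨z, hz, hyz⟩ := (hc n).1 y hyβ
    obtain ⟨φ, hφ⟩ := hEs ⟨z, hz⟩
    refine ⟨φ, fun x y' hxy => ?_⟩
    obtain ⟨w, rfl⟩ := hπ x
    have h1 : z w = φ (π w) := (LinearMap.congr_fun (congrArg Subtype.val hφ) w).symm
    have h2 := apply_mem_of_mem_smul_top _ hyz w
    rw [LinearMap.sub_apply, h1] at h2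
    have h3 : y w - y' ∈ (I ^ n • ⊤ : Submodule A N) :=
      Submodule.smul_mono_left (Ideal.pow_le_pow_right (Nat.le_add_right n c))
        ((Submodule.Quotient.eq _).mp ((LinearMap.congr_fun hy w).trans hxy))
    have := Submodule.sub_mem _ h3 h2
    simpa using this
  · have hz : (E φ : (Fin n₀ → A) →ₗ[A] N) ∈ (I ^ n • ⊤ : Submodule A ((Fin n₀ → A) →ₗ[A] N)) :=
      mem_smul_top_of_range _ _ fun w => hφ (π w)
    have h := (hc n).2.1 _ (E φ).2 hz a ha
    have h' : I ^ n • LinearMap.ker β =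
        (I ^ n • (⊤ : Submodule A (M →ₗ[A] N))).map ((LinearMap.ker β).subtype ∘ₗ E) := by
      rw [Submodule.map_smul'', Submodule.map_comp, Submodule.map_top, LinearMap.range_eq_top.mpr hEs,
        Submodule.map_subtype_top]
    rw [h'] at h
    obtain ⟨φ', hφ', he⟩ := h
    have : φ' = a • φ := hEi (Subtype.ext (by simpa using he))
    exact this ▸ hφ'
  · obtain ⟨y, hy, hyβ⟩ := lift _ ψ
    obtain ⟨z, hz, hyz⟩ := (hc n).2.2 y hyβ a ha
    obtain ⟨φ, hφ⟩ := hEs ⟨z, hz⟩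
    refine ⟨φ, LinearMap.ext fun x => ?_⟩
    obtain ⟨w, rfl⟩ := hπ x
    have h1 : z w = φ (π w) := (LinearMap.congr_fun (congrArg Subtype.val hφ) w).symm
    have h2 := apply_mem_of_mem_smul_top _ hyz w
    rw [LinearMap.sub_apply, LinearMap.smul_apply, h1] at h2
    rw [LinearMap.comp_apply, LinearMap.smul_apply, ← LinearMap.comp_apply ψ π, ← hy, LinearMap.comp_apply,
      ← map_smul, Submodule.mkQ_apply, Submodule.mkQ_apply, eq_comm, Submodule.Quotient.eq]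
    exact h2

end Groth.Calg3
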