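import Groth.Agent.Calg3.K0Proj

/-!
If `P` is finitely generated projective of constant rank `r` then `([P] - r) ^ m` kills the Grothendieck group
for some `m`, proved with tensor products of the two-periodic complexes `P ⇄ R^r` given by local trivializations.
-/

set_option autoImplicit false

universe u

open TensorProduct

namespace Groth.Calg3.K0Proj

variable {R : Type u} [CommRing R] (P : Type u) [AddCommGroup P] [Module R P] [Module.Finite R P]
  [Module.Projective R P] (r : ℕ)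

/-- `G P r l Y` is the class of `([P] - r) ^ l * [Y]`. -/
noncomputable def G : ℕ → FPMod R → K R
  | 0, Y => cl (R := R) Y
  | l + 1, Y => G l (FPMod.of R (Y ⊗[R] P)) - r • G l Y

variable (R) in
/-- A two-periodic complex of finitely generated projective modules. -/
structure Cx : Type (u + 1) where
  E : FPMod R
  O : FPMod R
  dE : E →ₗ[R] O
  dO : O →ₗ[R] E
  sqE : ∀ x, dO (dE x) = 0
  sqO : ∀ y, dE (dO y) = 0

/-- `c` is null-homotopic on the complex. -/
def Cx.Null (C : Cx R) (c : R) : Prop :=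
  ∃ (hE : C.E →ₗ[R] C.O) (hO : C.O →ₗ[R] C.E),
    (∀ x, C.dO (hE x) + hO (C.dE x) = c • x) ∧ ∀ y, C.dE (hO y) + hE (C.dO y) = c • y

/-- The scalars which are null-homotopic. -/
def Cx.nullIdeal (C : Cx R) : Ideal R where
  carrier := {c | C.Null c}
  add_mem' := by
    rintro a b ⟨hE, hO, h1, h2⟩ ⟨kE, kO, k1, k2⟩
    refine ⟨hE + kE, hO + kO, fun x => ?_, fun y => ?_⟩
    · rw [add_smul, ← h1 x, ← k1 x]; simp only [LinearMap.add_apply, map_add]; abel
    · rw [add_smul, ← h2 y, ← k2 y]; simp only [LinearMap.add_apply, map_add]; abel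
  zero_mem' := ⟨0, 0, by simp, by simp⟩
  smul_mem' := by
    rintro a b ⟨hE, hO, h1, h2⟩
    refine ⟨a • hE, a • hO, fun x => ?_, fun y => ?_⟩
    · rw [smul_eq_mul, mul_smul, ← h1 x]; simp [smul_add]
    · rw [smul_eq_mul, mul_smul, ← h2 y]; simp [smul_add]

/-- A contractible complex has isomorphic even and odd part. -/
theorem Cx.equiv_of_null_one (C : Cx R) (h : C.Null 1) : Nonempty (C.E ≃ₗ[R] C.O) := by
  obtain ⟨hE, hO, A, B⟩ := h
  simp only [one_smul] at A B
  have key : ∀ {X Y : FPMod R} (d : X →ₗ[R] Y) (e : Y →ₗ[R] X) (f : X →ₗ[R] Y) (g : Y →ₗ[R] X),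
      (∀ x, e (d x) = 0) → (∀ y, d (e y) = 0) → (∀ x, e (f x) + g (d x) = x) → (∀ y, d (g y) + f (e y) = y) →
        ∀ x, (e + g ∘ₗ d ∘ₗ g) ((d + f ∘ₗ e ∘ₗ f) x) = x := by
    intro X Y d e f g de ed A B x
    simp only [LinearMap.add_apply, LinearMap.comp_apply]
    have F1 : ∀ z, e (f (e z)) = e z := fun z => by
      have h := congrArg e (B z)
      rwa [map_add, de, zero_add] at h
    have F2 : ∀ z, d (g (d z)) = d z := fun z => by
      have h := congrArg d (A z)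
      rwa [map_add, ed, zero_add] at h
    have F3 : d (g (f (e (f x)))) = 0 := by
      have h := B (f (e (f x)))
      rw [F1] at h
      exact (add_eq_right.mp h)
    simp only [map_add, de, zero_add, F1, F2, F3, add_zero]
    exact A x
  exact ⟨LinearEquiv.ofLinearMap (C.dE + hE ∘ₗ C.dO ∘ₗ hE) (C.dO + hO ∘ₗ C.dE ∘ₗ hO)
    (LinearMap.ext fun y => key C.dO C.dE hO hE C.sqO C.sqE B A y)
    (LinearMap.ext fun x => key C.dE C.dO hE hO C.sqE C.sqO A B x)⟩

section tensor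

variable {X Y X' : Type u} [AddCommGroup X] [Module R X] [AddCommGroup Y] [Module R Y] [AddCommGroup X'] [Module R X']
  {Q : Type u} [AddCommGroup Q] [Module R Q]

theorem rTensor_rTensor_eq_zero (f : X →ₗ[R] Y) (g : Y →ₗ[R] X') (h : ∀ x, g (f x) = 0) (a : X ⊗[R] Q) :
    g.rTensor Q (f.rTensor Q a) = 0 := by
  induction a with
  | zero => simp
  | tmul x q => simp [h]
  | add a b ha hb => simp [ha, hb]

theorem rTensor_homotopy (f : Y →ₗ[R] X) (g : X →ₗ[R] Y) (f' : X' →ₗ[R] X) (g' : X →ₗ[R] X') (c : R)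
    (h : ∀ x, f (g x) + f' (g' x) = c • x) (a : X ⊗[R] Q) :
    f.rTensor Q (g.rTensor Q a) + f'.rTensor Q (g'.rTensor Q a) = c • a := by
  induction a with
  | zero => simp
  | tmul x q => simp [← TensorProduct.add_tmul, h, TensorProduct.smul_tmul']
  | add a b ha hb => rw [smul_add, ← ha, ← hb]; simp only [map_add]; abel

variable {Q' : Type u} [AddCommGroup Q'] [Module R Q']

theorem lTensor_rTensor_comm (f : X →ₗ[R] Y) (φ : Q →ₗ[R] Q') (a : X ⊗[R] Q) :
    φ.lTensor Y (f.rTensor Q a) = f.rTensor Q' (φ.lTensor X a) := by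
  induction a with
  | zero => simp
  | tmul x q => simp
  | add a b ha hb => simp [ha, hb]

theorem lTensor_smul_of_comp (φ : Q →ₗ[R] Q') (ψ : Q' →ₗ[R] Q) (f : R) (h : ∀ x, φ (ψ x) = f • x) (a : X ⊗[R] Q') :
    φ.lTensor X (ψ.lTensor X a) = f • a := by
  induction a with
  | zero => simp
  | tmul x q => simp [h]
  | add a b ha hb => simp [ha, hb, smul_add]

end tensor

variable {P r}

/-- The tensor product of a complex with the complex `P ⇄ R^r`. -/
noncomputable def Cx.step (C : Cx R) (φ : (Fin r → R) →ₗ[R] P) : Cx R where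
  E := FPMod.of R ((C.E ⊗[R] P) × (C.O ⊗[R] (Fin r → R)))
  O := FPMod.of R ((C.O ⊗[R] P) × (C.E ⊗[R] (Fin r → R)))
  dE := LinearMap.prod (C.dE.rTensor P ∘ₗ LinearMap.fst R _ _ - φ.lTensor C.O ∘ₗ LinearMap.snd R _ _)
    (C.dO.rTensor _ ∘ₗ LinearMap.snd R _ _)
  dO := LinearMap.prod (C.dO.rTensor P ∘ₗ LinearMap.fst R _ _ + φ.lTensor C.E ∘ₗ LinearMap.snd R _ _)
    (C.dE.rTensor _ ∘ₗ LinearMap.snd R _ _)
  sqE := fun x => Prod.ext
    (by simp [map_sub, rTensor_rTensor_eq_zero _ _ C.sqE, lTensor_rTensor_comm])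
    (by simp [rTensor_rTensor_eq_zero _ _ C.sqO])
  sqO := fun x => Prod.ext
    (by simp [map_add, rTensor_rTensor_eq_zero _ _ C.sqO, lTensor_rTensor_comm])
    (by simp [rTensor_rTensor_eq_zero _ _ C.sqE])

theorem Cx.step_null_old (C : Cx R) (φ : (Fin r → R) →ₗ[R] P) {c : R} (h : C.Null c) : (C.step φ).Null c := by
  obtain ⟨hE, hO, A, B⟩ := h
  refine ⟨(hE.rTensor P).prodMap (hO.rTensor _), (hO.rTensor P).prodMap (hE.rTensor _),
    fun x => Prod.ext ?_ ?_, fun y => Prod.ext ?_ ?_⟩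
  · change C.dO.rTensor P (hE.rTensor P x.1) + φ.lTensor C.E (hO.rTensor _ x.2) +
      hO.rTensor P (C.dE.rTensor P x.1 - φ.lTensor C.O x.2) = c • x.1
    rw [map_sub, lTensor_rTensor_comm, ← rTensor_homotopy _ _ _ _ c A x.1]
    abel
  · change C.dE.rTensor _ (hO.rTensor _ x.2) + hE.rTensor _ (C.dO.rTensor _ x.2) = c • x.2
    exact rTensor_homotopy _ _ _ _ c B x.2
  · change C.dE.rTensor P (hO.rTensor P y.1) - φ.lTensor C.O (hE.rTensor _ y.2) +
      hE.rTensor P (C.dO.rTensor P y.1 + φ.lTensor C.E y.2) = c • y.1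
    rw [map_add, lTensor_rTensor_comm, ← rTensor_homotopy _ _ _ _ c B y.1]
    abel
  · change C.dO.rTensor _ (hE.rTensor _ y.2) + hO.rTensor _ (C.dE.rTensor _ y.2) = c • y.2
    exact rTensor_homotopy _ _ _ _ c A y.2

theorem Cx.step_null_new (C : Cx R) (φ : (Fin r → R) →ₗ[R] P) (ψ : P →ₗ[R] (Fin r → R)) {f : R}
    (h1 : ∀ x, φ (ψ x) = f • x) (h2 : ∀ y, ψ (φ y) = f • y) : (C.step φ).Null f := by
  refine ⟨LinearMap.prod 0 (ψ.lTensor C.E ∘ₗ LinearMap.fst R _ _),
    LinearMap.prod 0 (-(ψ.lTensor C.O ∘ₗ LinearMap.fst R _ _)), fun x => Prod.ext ?_ ?_, fun y => Prod.ext ?_ ?_⟩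
  · change C.dO.rTensor P 0 + φ.lTensor C.E (ψ.lTensor C.E x.1) + 0 = f • x.1
    rw [lTensor_smul_of_comp φ ψ f h1]
    simp
  · change C.dE.rTensor _ (ψ.lTensor C.E x.1) + -(ψ.lTensor C.O (C.dE.rTensor P x.1 - φ.lTensor C.O x.2)) = f • x.2
    rw [map_sub, lTensor_smul_of_comp ψ φ f h2, lTensor_rTensor_comm]
    abel
  · change C.dE.rTensor P 0 - φ.lTensor C.O (-(ψ.lTensor C.O y.1)) + 0 = f • y.1
    rw [map_neg, lTensor_smul_of_comp φ ψ f h1]
    simp
  · change C.dO.rTensor _ (-(ψ.lTensor C.O y.1)) + ψ.lTensor C.E (C.dO.rTensor P y.1 + φ.lTensor C.E y.2) = f • y.2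
    rw [map_add, map_neg, lTensor_smul_of_comp ψ φ f h2, lTensor_rTensor_comm]
    abel

variable (P r)

theorem exists_cx (L : List R)
    (hL : ∀ f ∈ L, ∃ (φ : (Fin r → R) →ₗ[R] P) (ψ : P →ₗ[R] (Fin r → R)),
      (∀ x, φ (ψ x) = f • x) ∧ ∀ y, ψ (φ y) = f • y) :
    ∃ C : Cx R, (∀ Y : FPMod R, cl (R := R) (C.E ⊗[R] Y) - cl (R := R) (C.O ⊗[R] Y) = G P r L.length Y) ∧
      ∀ f ∈ L, C.Null f := by
  induction L with
  | nil =>
    refine ⟨⟨FPMod.of R R, FPMod.of R PUnit.{u + 1}, 0, 0, fun _ => rfl, fun _ => rfl⟩, fun Y => ?_, by simp⟩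
    rw [cl_congr (R := R) (TensorProduct.lid R Y), cl_subsingleton (M := PUnit.{u + 1} ⊗[R] Y), sub_zero]
    rfl
  | cons f L ih =>
    obtain ⟨C, hC, hn⟩ := ih fun g hg => hL g (List.mem_cons_of_mem _ hg)
    obtain ⟨φ, ψ, h1, h2⟩ := hL f List.mem_cons_self
    refine ⟨C.step φ, fun Y => ?_, ?_⟩
    · have e1 : ∀ E : FPMod R, cl (R := R) ((E ⊗[R] P) ⊗[R] Y) = cl (R := R) (E ⊗[R] (Y ⊗[R] P)) := fun E =>
        cl_congr ((TensorProduct.assoc R E P Y).trans
          (TensorProduct.congr (LinearEquiv.refl R E) (TensorProduct.comm R P Y)))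
      have e2 : ∀ E : FPMod R, cl (R := R) ((E ⊗[R] (Fin r → R)) ⊗[R] Y) = r • cl (R := R) (E ⊗[R] Y) := fun E => by
        rw [cl_congr ((TensorProduct.rightComm R E (Fin r → R) Y).trans
          (TensorProduct.piScalarRight R R (E ⊗[R] Y) (Fin r))), cl_pi]
      change cl (R := R) (((C.E ⊗[R] P) × (C.O ⊗[R] (Fin r → R))) ⊗[R] Y) -
        cl (R := R) (((C.O ⊗[R] P) × (C.E ⊗[R] (Fin r → R))) ⊗[R] Y) =
        G P r L.length (FPMod.of R (Y ⊗[R] P)) - r • G P r L.length Y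
      rw [cl_congr (TensorProduct.prodLeft R R (C.E ⊗[R] P) (C.O ⊗[R] (Fin r → R)) Y),
        cl_congr (TensorProduct.prodLeft R R (C.O ⊗[R] P) (C.E ⊗[R] (Fin r → R)) Y),
        cl_prod, cl_prod, e1, e1, e2, e2, ← hC, ← hC, smul_sub]
      abel
    · intro g hg
      rcases List.mem_cons.mp hg with rfl | hg
      · exact C.step_null_new φ ψ h1 h2
      · exact C.step_null_old φ (hn g hg)

/-- Local trivializations of a projective module of constant rank. -/
theorem exists_local_trivialization (hr : ∀ p, Module.rankAtStalk (R := R) P p = r) (p : PrimeSpectrum R) :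
    ∃ f ∉ p.asIdeal, ∃ (φ : (Fin r → R) →ₗ[R] P) (ψ : P →ₗ[R] (Fin r → R)),
      (∀ x, φ (ψ x) = f • x) ∧ ∀ y, ψ (φ y) = f • y := by
  let S := p.asIdeal.primeCompl
  let Rp := Localization.AtPrime p.asIdeal
  have : Module.Free Rp (LocalizedModule S P) := Module.free_of_flat_of_isLocalRing
  have hfin : Module.finrank Rp (LocalizedModule S P) = r := hr p
  let e : LocalizedModule S P ≃ₗ[Rp] (Fin r → Rp) :=
    (Module.finBasisOfFinrankEq Rp (LocalizedModule S P) hfin).equivFun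
  let eR : LocalizedModule S P ≃ₗ[R] (Fin r → Rp) := e.restrictScalars R
  let mk := LocalizedModule.mkLinearMap S P
  let gF : (Fin r → R) →ₗ[R] (Fin r → Rp) :=
    LinearMap.pi fun i => Algebra.linearMap R Rp ∘ₗ LinearMap.proj i
  have : IsLocalizedModule S gF := inferInstance
  have : Module.FinitePresentation R P := Module.finitePresentation_of_projective R P
  obtain ⟨ψ, s, hψ⟩ := Module.FinitePresentation.exists_lift_of_isLocalizedModule S gF (eR.toLinearMap ∘ₗ mk)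
  obtain ⟨φ, t, hφ⟩ := Module.FinitePresentation.exists_lift_of_isLocalizedModule S mk (eR.symm.toLinearMap ∘ₗ gF)
  have hψ' : ∀ x, gF (ψ x) = (s : R) • eR (mk x) := fun x => LinearMap.congr_fun hψ x
  have hφ' : ∀ y, mk (φ y) = (t : R) • eR.symm (gF y) := fun y => LinearMap.congr_fun hφ y
  obtain ⟨a, ha⟩ := Module.Finite.exists_smul_of_comp_eq_of_isLocalizedModule S mk (φ ∘ₗ ψ)
    (((t : R) * s) • LinearMap.id) (by ext x; simp [hφ', hψ', mul_smul, mk])
  obtain ⟨b, hb⟩ := Module.Finite.exists_smul_of_comp_eq_of_isLocalizedModule S gF (ψ ∘ₗ φ)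
    (((t : R) * s) • LinearMap.id)
    (LinearMap.ext fun y => by
      change gF (ψ (φ y)) = gF (((t : R) * s) • y)
      rw [hψ', hφ', map_smul, map_smul, LinearEquiv.apply_symm_apply, smul_smul, mul_comm])
  have ha' : ∀ x, (a : R) • φ (ψ x) = (a : R) • ((t : R) * s) • x := fun x => LinearMap.congr_fun ha x
  have hb' : ∀ y, (b : R) • ψ (φ y) = (b : R) • ((t : R) * s) • y := fun y => LinearMap.congr_fun hb y
  refine ⟨a * b * t * s, (a * b * t * s : S).2, φ, ((a : R) * b) • ψ, fun x => ?_, fun y => ?_⟩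
  · rw [LinearMap.smul_apply, map_smul, mul_comm (a : R), mul_smul, ha', smul_smul, smul_smul]
    ring_nf
  · rw [LinearMap.smul_apply, mul_smul, hb', smul_smul, smul_smul]
    ring_nf

/-- The element `[P] - r` is nilpotent. -/
theorem exists_G_eq_zero (hr : ∀ p, Module.rankAtStalk (R := R) P p = r) :
    ∃ m, ∀ Y : FPMod R, G P r m Y = 0 := by
  classical
  let S : Set R := {f | ∃ (φ : (Fin r → R) →ₗ[R] P) (ψ : P →ₗ[R] (Fin r → R)),
      (∀ x, φ (ψ x) = f • x) ∧ ∀ y, ψ (φ y) = f • y}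
  have hS : (1 : R) ∈ Ideal.span S := by
    rw [← Ideal.eq_top_iff_one]
    by_contra h
    obtain ⟨M, hM, hle⟩ := Ideal.exists_le_maximal _ h
    obtain ⟨f, hf, hf'⟩ := exists_local_trivialization P r hr ⟨M, hM.isPrime⟩
    exact hf (hle (Ideal.subset_span hf'))
  obtain ⟨T, hT, h1⟩ := Submodule.mem_span_finite_of_mem_span hS
  obtain ⟨C, hC, hn⟩ := exists_cx P r T.toList fun f hf => hT (Finset.mem_toList.mp hf)
  have hle : Ideal.span (T : Set R) ≤ C.nullIdeal :=
    Ideal.span_le.mpr fun f hf => hn f (Finset.mem_toList.mpr hf)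
  obtain ⟨e⟩ := C.equiv_of_null_one (hle h1)
  exact ⟨T.toList.length, fun Y => by
    rw [← hC, cl_congr (TensorProduct.congr e (LinearEquiv.refl R Y)), sub_self]⟩

end Groth.Calg3.K0Proj
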