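import Mathlib

/-!
The Grothendieck group of finitely generated projective modules (split version), and stable isomorphism.
-/

set_option autoImplicit false

universe u

open TensorProduct

namespace Groth.Calg3.K0Proj

variable (R : Type u) [CommRing R]

/-- A finitely generated projective module. -/
structure FPMod : Type (u + 1) where
  carrier : Type u
  [grp : AddCommGroup carrier]
  [mod : Module R carrier]
  [fin : Module.Finite R carrier]
  [proj : Module.Projective R carrier]

attribute [instance] FPMod.grp FPMod.mod FPMod.fin FPMod.proj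

instance : CoeSort (FPMod R) (Type u) := ⟨FPMod.carrier⟩

/-- The bundled module. -/
abbrev FPMod.of (M : Type u) [AddCommGroup M] [Module R M] [Module.Finite R M] [Module.Projective R M] :
    FPMod R := { carrier := M }

/-- Isomorphism of bundled modules. -/
def isoSetoid : Setoid (FPMod R) where
  r X Y := Nonempty (X ≃ₗ[R] Y)
  iseqv := ⟨fun X => ⟨LinearEquiv.refl R X⟩, fun ⟨e⟩ => ⟨e.symm⟩, fun ⟨e⟩ ⟨e'⟩ => ⟨e.trans e'⟩⟩

/-- Isomorphism classes of finitely generated projective modules. -/
def IsoClass : Type (u + 1) := Quotient (isoSetoid R)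

variable {R}

instance : Zero (IsoClass R) := ⟨Quotient.mk _ (FPMod.of R PUnit.{u + 1})⟩

instance : Add (IsoClass R) :=
  ⟨Quotient.map₂ (fun X Y => FPMod.of R (X × Y)) fun _ _ ⟨e⟩ _ _ ⟨e'⟩ => ⟨e.prodCongr e'⟩⟩

/-- The isomorphism class of a bundled module. -/
def IsoClass.mk (X : FPMod R) : IsoClass R := Quotient.mk _ X

theorem IsoClass.mk_add_mk (X Y : FPMod R) :
    IsoClass.mk X + IsoClass.mk Y = IsoClass.mk (FPMod.of R (X × Y)) := rfl

instance projective_pi_finite {ι : Type*} [Finite ι] {M : Type*} [AddCommGroup M] [Module R M]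
    [Module.Projective R M] : Module.Projective R (ι → M) := by
  cases nonempty_fintype ι
  classical
  exact Module.Projective.of_equiv' (DFinsupp.linearEquivFunOnFintype (R := R) (M := fun _ : ι => M))

instance : AddCommMonoid (IsoClass R) where
  add_assoc a b c := Quotient.inductionOn₃ a b c fun X Y Z =>
    Quotient.sound ⟨LinearEquiv.prodAssoc R X Y Z⟩
  zero_add a := Quotient.inductionOn a fun X => Quotient.sound ⟨LinearEquiv.uniqueProd⟩
  add_zero a := Quotient.inductionOn a fun X => Quotient.sound ⟨LinearEquiv.prodUnique⟩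
  add_comm a b := Quotient.inductionOn₂ a b fun X Y => Quotient.sound ⟨LinearEquiv.prodComm R X Y⟩
  nsmul := nsmulRec

variable (R)

/-- The Grothendieck group. -/
abbrev K : Type (u + 1) := Algebra.GrothendieckAddGroup (IsoClass R)

variable {R}

/-- The class of a finitely generated projective module. -/
noncomputable def cl (M : Type u) [AddCommGroup M] [Module R M] [Module.Finite R M] [Module.Projective R M] : K R :=
  Algebra.GrothendieckAddGroup.of (IsoClass.mk (FPMod.of R M))

variable {M N : Type u} [AddCommGroup M] [Module R M] [Module.Finite R M] [Module.Projective R M]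
  [AddCommGroup N] [Module R N] [Module.Finite R N] [Module.Projective R N]

theorem cl_congr (e : M ≃ₗ[R] N) : cl (R := R) M = cl N :=
  congrArg (Algebra.GrothendieckAddGroup.of (M := IsoClass R))
    (Quotient.sound (s := isoSetoid R) (a := FPMod.of R M) (b := FPMod.of R N) ⟨e⟩)

theorem cl_prod : cl (R := R) (M × N) = cl M + cl N := by
  rw [cl, cl, cl, ← map_add, IsoClass.mk_add_mk]

theorem cl_subsingleton [Subsingleton M] : cl (R := R) M = 0 := by
  have h := cl_prod (R := R) (M := M) (N := M)
  rw [cl_congr (R := R) (M := M × M) (N := M) (LinearEquiv.ofSubsingleton _ _), left_eq_add] at h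
  exact h

theorem cl_pi (k : ℕ) : cl (R := R) (Fin k → M) = k • cl (R := R) M := by
  induction k with
  | zero => rw [cl_subsingleton, zero_smul]
  | succ k ih =>
    rw [← cl_congr (R := R) (M := M × (Fin k → M)) (Fin.consLinearEquiv R (fun _ : Fin (k + 1) => M)),
      cl_prod, ih, succ_nsmul']

/-- Modules with the same class are stably isomorphic. -/
theorem exists_stable_equiv (h : cl (R := R) M = cl (R := R) N) :
    ∃ s : ℕ, Nonempty ((M × (Fin s → R)) ≃ₗ[R] (N × (Fin s → R))) := by
  obtain ⟨c, hc⟩ := (AddLocalization.addMonoidOf (⊤ : AddSubmonoid (IsoClass R))).eq_iff_exists.mp h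
  obtain ⟨C, hC⟩ := Quotient.exists_rep c.1
  rw [← hC, ← IsoClass.mk, IsoClass.mk_add_mk, IsoClass.mk_add_mk] at hc
  obtain ⟨e⟩ := Quotient.exact hc
  obtain ⟨s, f, hf⟩ := Module.Finite.exists_fin' R C
  obtain ⟨g, hg⟩ := Module.projective_lifting_property f LinearMap.id hf
  -- `C ⊕ ker f` is free
  let j : (C × LinearMap.ker f) →ₗ[R] (Fin s → R) := g.coprod (LinearMap.ker f).subtype
  have hg' : ∀ x, f (g x) = x := fun x => LinearMap.congr_fun hg x
  have hj : Function.Bijective j := by
    refine ⟨(injective_iff_map_eq_zero j).mpr fun ⟨a, b⟩ hab => ?_, fun z => ?_⟩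
    · have h0 : g a + (b : Fin s → R) = 0 := hab
      have ha : a = 0 := by
        have h1 := congrArg f h0
        simpa [map_add, hg', LinearMap.mem_ker.mp b.2] using h1
      subst ha
      refine Prod.ext rfl (Subtype.ext ?_)
      simpa using h0
    · exact ⟨(f z, ⟨z - g (f z), by simp [hg']⟩), by simp [j]⟩
  let u : (C × LinearMap.ker f) ≃ₗ[R] (Fin s → R) := LinearEquiv.ofBijective j hj
  let sh : ∀ (X : Type u) [AddCommGroup X] [Module R X],
      ((C × X) × LinearMap.ker f) ≃ₗ[R] (X × (Fin s → R)) := fun X _ _ =>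
    (((LinearEquiv.prodComm R C X).prodCongr (LinearEquiv.refl R _)).trans
      (LinearEquiv.prodAssoc R X C _)).trans ((LinearEquiv.refl R X).prodCongr u)
  exact ⟨s, ⟨((sh M).symm.trans (e.prodCongr (LinearEquiv.refl R _))).trans (sh N)⟩⟩

end Groth.Calg3.K0Proj
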