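import Groth.Prelude.Def_Wider
import Groth.Prelude.Def_DRing2
import Mathlib

/-!
Morphisms in `D(A)` from a bounded above complex of projectives to a shifted module,
described by cocycles.
-/

set_option autoImplicit false

universe u

open CategoryTheory CategoryTheory.Limits HomologicalComplex

attribute [local instance] HasDerivedCategory.standard

namespace Groth.Calg3

variable {A : Type u} [CommRing A] (E : DRing.Cx A)

/-- Precomposition with a differential. -/
noncomputable abbrev predif (M : Type u) [AddCommGroup M] [Module A M] (i j : ℤ) :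
    (E.X j →ₗ[A] M) →ₗ[A] (E.X i →ₗ[A] M) :=
  (E.d i j).hom.lcomp A M

/-- Degree `q` cocycles of `Hom(E, M)`. -/
noncomputable abbrev Zc (M : Type u) [AddCommGroup M] [Module A M] (q : ℤ) :
    Submodule A (E.X q →ₗ[A] M) :=
  LinearMap.ker (predif E M (q - 1) q)

theorem predif_comp_predif (M : Type u) [AddCommGroup M] [Module A M] (i j k : ℤ) :
    predif E M i j ∘ₗ predif E M j k = 0 := by
  refine LinearMap.ext fun φ => LinearMap.ext fun x => ?_
  have h := ConcreteCategory.congr_hom (E.d_comp_d i j k) x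
  simp only [ModuleCat.hom_comp, LinearMap.comp_apply] at h
  simp [predif, h]

/-- A linear map out of a term, as a morphism of `ModuleCat`. -/
abbrev mh {M : Type u} [AddCommGroup M] [Module A M] {i : ℤ} (φ : E.X i →ₗ[A] M) :
    E.X i ⟶ ModuleCat.of A M := ModuleCat.ofHom φ

theorem mh_add {M : Type u} [AddCommGroup M] [Module A M] {i : ℤ} (φ ψ : E.X i →ₗ[A] M) :
    mh E (φ + ψ) = mh E φ + mh E ψ := rfl

theorem mh_smul {M : Type u} [AddCommGroup M] [Module A M] {i : ℤ} (r : A) (φ : E.X i →ₗ[A] M) :
    mh E (r • φ) = r • mh E φ := rfl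

theorem mh_predif {M : Type u} [AddCommGroup M] [Module A M] {i j : ℤ} (φ : E.X j →ₗ[A] M) :
    mh E (predif E M i j φ) = E.d i j ≫ mh E φ := rfl

theorem mh_comp {M N : Type u} [AddCommGroup M] [Module A M] [AddCommGroup N] [Module A N] {i : ℤ}
    (g : M →ₗ[A] N) (φ : E.X i →ₗ[A] M) : mh E (g ∘ₗ φ) = mh E φ ≫ ModuleCat.ofHom g := rfl

/-- The chain map to a one-term complex given by a cocycle. -/
noncomputable def cocycleMap {M : Type u} [AddCommGroup M] [Module A M] {q : ℤ} (φ : Zc E M q) :
    E ⟶ (HomologicalComplex.single (ModuleCat.{u} A) (ComplexShape.up ℤ) q).obj (ModuleCat.of A M) :=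
  mkHomToSingle (mh E φ.1) (fun i hi => by
    have hi' : i = q - 1 := by have h : i + 1 = q := hi; omega
    subst hi'
    exact ModuleCat.hom_ext (LinearMap.mem_ker.1 φ.2))

theorem cocycleMap_f {M : Type u} [AddCommGroup M] [Module A M] {q : ℤ} (φ : Zc E M q) :
    (cocycleMap E φ).f q =
      mh E φ.1 ≫ (singleObjXSelf (ComplexShape.up ℤ) q (ModuleCat.of A M)).inv :=
  mkHomToSingle_f _ _

variable {E} {K : Dual.D A} (eK : DRing.toD E ≅ K) {M : Type u} [AddCommGroup M] [Module A M]
  {p q : ℤ} (hpq : p + q = 0)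

/-- The comparison isomorphism `M[-q] ≅ (M[0])⟦p⟧`. -/
noncomputable def singleShift (N : ModuleCat.{u} A) :
    DerivedCategory.Q.obj ((HomologicalComplex.single (ModuleCat.{u} A) (ComplexShape.up ℤ) q).obj N) ≅
      ((DerivedCategory.singleFunctor (ModuleCat.{u} A) 0).obj N)⟦p⟧ :=
  (DerivedCategory.singleFunctorIsoCompQ (ModuleCat.{u} A) q).symm.app N ≪≫
    ((DerivedCategory.singleFunctors (ModuleCat.{u} A)).shiftIso p q 0 hpq).symm.app N

theorem singleShift_naturality {N N' : ModuleCat.{u} A} (g : N ⟶ N') :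
    DerivedCategory.Q.map ((HomologicalComplex.single (ModuleCat.{u} A) (ComplexShape.up ℤ) q).map g) ≫
        (singleShift hpq N').hom =
      (singleShift hpq N).hom ≫ ((DerivedCategory.singleFunctor (ModuleCat.{u} A) 0).map g)⟦p⟧' :=
  ((DerivedCategory.singleFunctorIsoCompQ (ModuleCat.{u} A) q).symm ≪≫
    ((DerivedCategory.singleFunctors (ModuleCat.{u} A)).shiftIso p q 0 hpq).symm).hom.naturality g

/-- The class of a cocycle. -/
noncomputable def classMap : Zc E M q →ₗ[A] (K ⟶ (Dual.inD A M)⟦p⟧) where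
  toFun φ := eK.inv ≫ DerivedCategory.Q.map (cocycleMap E φ) ≫ (singleShift hpq _).hom
  map_add' φ ψ := by
    have h : cocycleMap E (φ + ψ) = cocycleMap E φ + cocycleMap E ψ := by
      refine to_single_hom_ext ?_
      rw [add_f_apply, cocycleMap_f, cocycleMap_f, cocycleMap_f, ← Preadditive.add_comp, ← mh_add, Submodule.coe_add]
    rw [h, Functor.map_add, Preadditive.add_comp, Preadditive.comp_add]
  map_smul' r φ := by
    have h : cocycleMap E (r • φ) = r • cocycleMap E φ := by
      refine to_single_hom_ext ?_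
      rw [HomologicalComplex.smul_f_apply, cocycleMap_f, cocycleMap_f, ← Linear.smul_comp, ← mh_smul, Submodule.coe_smul]
    rw [h, Functor.map_smul, Linear.smul_comp, Linear.comp_smul, RingHom.id_apply]

theorem classMap_naturality {N : Type u} [AddCommGroup N] [Module A N] (g : M →ₗ[A] N)
    (φ : Zc E M q) (ψ : Zc E N q) (h : ψ.1 = g ∘ₗ φ.1) :
    classMap eK hpq φ ≫ ((DerivedCategory.singleFunctor (ModuleCat.{u} A) 0).map (ModuleCat.ofHom g))⟦p⟧' =
      classMap eK hpq ψ := by
  show (eK.inv ≫ _ ≫ (singleShift hpq _).hom) ≫ _ = eK.inv ≫ _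
  simp only [Category.assoc]
  congr 1
  rw [← singleShift_naturality hpq (ModuleCat.ofHom g), ← Category.assoc, ← Functor.map_comp]
  congr 2
  refine to_single_hom_ext ?_
  rw [comp_f, cocycleMap_f, cocycleMap_f]
  simp only [single_map_f_self, Category.assoc, Iso.inv_hom_id_assoc]
  rw [h, mh_comp, Category.assoc]

theorem classMap_predif (ψ : E.X (q + 1) →ₗ[A] M) (φ : Zc E M q)
    (h : φ.1 = predif E M q (q + 1) ψ) : classMap eK hpq φ = 0 := by
  let hh : ∀ i j, (ComplexShape.up ℤ).Rel j i → (E.X i ⟶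
      ((HomologicalComplex.single (ModuleCat.{u} A) (ComplexShape.up ℤ) q).obj (ModuleCat.of A M)).X j) :=
    fun i j _ => if hij : j = q ∧ i = q + 1 then
      (E.XIsoOfEq hij.2).hom ≫ mh E ψ ≫
        (singleObjXIsoOfEq (ComplexShape.up ℤ) q (ModuleCat.of A M) j hij.1).inv
      else 0
  have key : cocycleMap E φ = Homotopy.nullHomotopicMap' hh := by
    refine to_single_hom_ext ?_
    rw [Homotopy.nullHomotopicMap'_f (k₂ := q - 1) (k₁ := q) (k₀ := q + 1) (by simp) (by simp),
      cocycleMap_f]
    have h2 : hh q (q - 1) (by simp) = 0 := dif_neg (by omega)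
    have h1 : hh (q + 1) q rfl = mh E ψ ≫
        (singleObjXSelf (ComplexShape.up ℤ) q (ModuleCat.of A M)).inv := by
      simp [hh, singleObjXSelf]
    rw [h1, h2, zero_comp, add_zero, h, mh_predif, Category.assoc]
  have h0 : DerivedCategory.Q.map (cocycleMap E φ) = 0 := by
    have hz : (HomotopyCategory.quotient _ _).map (cocycleMap E φ) = 0 :=
      (HomotopyCategory.quotient_map_eq_zero_iff _).2
        ⟨(Homotopy.ofEq key).trans (Homotopy.nullHomotopy' hh)⟩
    have hn := (DerivedCategory.quotientCompQhIso (ModuleCat.{u} A)).hom.naturality (cocycleMap E φ)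
    rw [Functor.comp_map, hz, Functor.map_zero, zero_comp] at hn
    rw [← cancel_epi ((DerivedCategory.quotientCompQhIso (ModuleCat.{u} A)).hom.app E), ← hn, comp_zero]
  show eK.inv ≫ DerivedCategory.Q.map (cocycleMap E φ) ≫ _ = 0
  rw [h0, zero_comp, comp_zero]

variable {b : ℤ} (hb : DRing.VanishesAbove E b) (hproj : ∀ i, Module.Projective A (E.X i))

include hb hproj in
theorem isKProjective : CochainComplex.IsKProjective E := by
  haveI : CochainComplex.IsStrictlyLE E b := (CochainComplex.isStrictlyLE_iff E b).2 hb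
  haveI : ∀ i, Projective (E.X i) := fun i =>
    haveI := hproj i
    (IsProjective.iff_projective _).1 inferInstance
  exact CochainComplex.isKProjective_of_projective E b

include hb hproj in
theorem classMap_surjective : Function.Surjective (classMap eK hpq (M := M)) := by
  intro e
  haveI := isKProjective hb hproj
  let S := (HomologicalComplex.single (ModuleCat.{u} A) (ComplexShape.up ℤ) q).obj (ModuleCat.of A M)
  let α : DerivedCategory.Q.obj E ⟶ DerivedCategory.Q.obj S :=
    eK.hom ≫ e ≫ (singleShift hpq _).inv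
  obtain ⟨f, hf⟩ := (CochainComplex.IsKProjective.Qh_map_bijective E
    ((HomotopyCategory.quotient _ (ComplexShape.up ℤ)).obj S)).surjective
      ((DerivedCategory.quotientCompQhIso (ModuleCat.{u} A)).hom.app E ≫ α ≫
        (DerivedCategory.quotientCompQhIso (ModuleCat.{u} A)).inv.app S)
  obtain ⟨g, rfl⟩ := (HomotopyCategory.quotient _ (ComplexShape.up ℤ)).map_surjective f
  have hg : DerivedCategory.Q.map g = α := by
    have hn := (DerivedCategory.quotientCompQhIso (ModuleCat.{u} A)).hom.naturality g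
    rw [Functor.comp_map, hf, Category.assoc, Category.assoc, Iso.inv_hom_id_app, Category.comp_id,
      cancel_epi] at hn
    exact hn.symm
  let sx := singleObjXSelf (ComplexShape.up ℤ) q (ModuleCat.of A M)
  have hz : (g.f q ≫ sx.hom).hom ∈ Zc E M q := by
    rw [LinearMap.mem_ker]
    have hc : E.d (q - 1) q ≫ g.f q = 0 := by
      rw [← g.comm]; simp [S]
    have := congrArg (fun t => (t ≫ sx.hom).hom) hc
    simp only [ModuleCat.hom_comp, zero_comp, ModuleCat.hom_zero] at this
    exact this
  refine ⟨⟨_, hz⟩, ?_⟩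
  have hgm : cocycleMap E ⟨_, hz⟩ = g := by
    refine to_single_hom_ext ?_
    rw [cocycleMap_f, show mh E ((g.f q ≫ sx.hom).hom) = g.f q ≫ sx.hom from rfl, Category.assoc,
      Iso.hom_inv_id, Category.comp_id]
  show eK.inv ≫ DerivedCategory.Q.map _ ≫ _ = e
  rw [hgm, hg]
  change eK.inv ≫ (eK.hom ≫ e ≫ (singleShift hpq (ModuleCat.of A M)).inv) ≫ (singleShift hpq (ModuleCat.of A M)).hom = e
  erw [Category.assoc, Category.assoc, Iso.inv_hom_id_assoc, Iso.inv_hom_id]
  exact Category.comp_id _

include hb hproj in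
theorem classMap_eq_zero (φ : Zc E M q) (h : classMap eK hpq φ = 0) :
    ∃ ψ : E.X (q + 1) →ₗ[A] M, φ.1 = predif E M q (q + 1) ψ := by
  haveI := isKProjective hb hproj
  have h' : DerivedCategory.Q.map (cocycleMap E φ) = 0 := by
    have h2 : eK.inv ≫ DerivedCategory.Q.map (cocycleMap E φ) ≫ (singleShift hpq _).hom = 0 := h
    exact (cancel_mono _).1 (((cancel_epi eK.inv).1 (h2.trans comp_zero.symm)).trans zero_comp.symm)
  have h'' : (HomotopyCategory.quotient _ _).map (cocycleMap E φ) = 0 := by
    apply (CochainComplex.IsKProjective.Qh_map_bijective E _).injective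
    have hn := (DerivedCategory.quotientCompQhIso (ModuleCat.{u} A)).hom.naturality (cocycleMap E φ)
    rw [Functor.comp_map, h', comp_zero] at hn
    rw [Functor.map_zero]
    exact (cancel_mono ((DerivedCategory.quotientCompQhIso (ModuleCat.{u} A)).hom.app _)).1
      (hn.trans zero_comp.symm)
  obtain ⟨H⟩ := (HomotopyCategory.quotient_map_eq_zero_iff _).1 h''
  let sx := singleObjXSelf (ComplexShape.up ℤ) q (ModuleCat.of A M)
  refine ⟨(H.hom (q + 1) q ≫ sx.hom).hom, ?_⟩
  have hc := H.comm q
  rw [dNext_eq _ (show (ComplexShape.up ℤ).Rel q (q + 1) from rfl),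
    prevD_eq _ (show (ComplexShape.up ℤ).Rel (q - 1) q by simp), HomologicalComplex.zero_f, add_zero,
    cocycleMap_f] at hc
  have hd : ((HomologicalComplex.single (ModuleCat.{u} A) (ComplexShape.up ℤ) q).obj (ModuleCat.of A M)).d (q - 1) q = 0 := by
    simp
  rw [hd, comp_zero, add_zero] at hc
  have h3 : mh E φ.1 = E.d q (q + 1) ≫ H.hom (q + 1) q ≫ sx.hom := by
    rw [← Category.assoc, ← hc, Category.assoc, Iso.inv_hom_id, Category.comp_id]
  exact congrArg ModuleCat.Hom.hom h3

end Groth.Calg3
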