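import Mathlib

/-! Quasi-inverses of maps of finite projective modules and projectivity of cokernels. -/

set_option autoImplicit false
universe u v w
open TensorProduct

namespace Groth.Calg3.QuasiInv

variable {B : Type u} [CommRing B] {K : Type v} {K' : Type w} [AddCommGroup K] [Module B K] [AddCommGroup K'] [Module B K']

theorem exists_det_of_le_finrank [Module.Projective B K'] [Module.Finite B K'] [Module.Finite B K]
    (φ : K →ₗ[B] K') (y : PrimeSpectrum B) {r : ℕ}
    (h : r ≤ Module.finrank y.asIdeal.ResidueField (LinearMap.range (φ.baseChange y.asIdeal.ResidueField))) :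
    ∃ (x : Fin r → K) (f : Fin r → Module.Dual B K'), (Matrix.of fun i j => f i (φ (x j))).det ∉ y.asIdeal := by
  classical
  let κ := y.asIdeal.ResidueField
  obtain ⟨n, p, q, -, -, hpq⟩ := Module.Finite.exists_comp_eq_id_of_projective B K'
  let c : (κ ⊗[B] K') →ₗ[κ] (Fin n → κ) :=
    (TensorProduct.piScalarRight B κ κ (Fin n)).toLinearMap ∘ₗ q.baseChange κ
  have hc : Function.Injective c := by
    refine (TensorProduct.piScalarRight B κ κ (Fin n)).injective.comp ?_
    refine Function.LeftInverse.injective (g := p.baseChange κ) fun x => ?_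
    rw [← LinearMap.comp_apply, ← LinearMap.baseChange_comp, hpq, LinearMap.baseChange_id, LinearMap.id_apply]
  let W := LinearMap.range (φ.baseChange κ)
  have hW : Submodule.span κ (Set.range fun x : K => φ.baseChange κ ((1 : κ) ⊗ₜ[B] x)) = W := by
    refine le_antisymm (Submodule.span_le.2 (by rintro _ ⟨x, rfl⟩; exact ⟨_, rfl⟩)) ?_
    rintro _ ⟨z, rfl⟩
    induction z using TensorProduct.induction_on with
    | zero => simp
    | tmul a x =>
      rw [show a ⊗ₜ[B] x = a • ((1 : κ) ⊗ₜ[B] x) by rw [TensorProduct.smul_tmul', smul_eq_mul, mul_one], map_smul]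
      exact Submodule.smul_mem _ _ (Submodule.subset_span ⟨x, rfl⟩)
    | add a b ha hb => rw [map_add]; exact add_mem ha hb
  obtain ⟨b, hb, hspan, hli⟩ := exists_linearIndependent κ (Set.range fun x : K => φ.baseChange κ ((1 : κ) ⊗ₜ[B] x))
  haveI : Finite b := hli.finite
  cases nonempty_fintype b
  have hcard : r ≤ Fintype.card b := by
    refine h.trans (le_of_eq ?_)
    show Module.finrank κ W = _
    have h1 := finrank_span_eq_card hli
    rw [Subtype.range_coe] at h1
    rw [← hW, ← hspan, h1]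
  obtain ⟨ι⟩ := Function.Embedding.nonempty_of_card_le (α := Fin r) (β := b) (by simpa using hcard)
  choose x hx using fun j => hb (ι j).2
  let v : Fin r → (Fin n → κ) := fun j => c (φ.baseChange κ ((1 : κ) ⊗ₜ[B] x j))
  have hv : LinearIndependent κ v := by
    have h1 : LinearIndependent κ (fun j => φ.baseChange κ ((1 : κ) ⊗ₜ[B] x j)) := by
      have : (fun j => φ.baseChange κ ((1 : κ) ⊗ₜ[B] x j)) = fun j => ((ι j : b) : κ ⊗[B] K') := funext hx
      rw [this]
      exact hli.comp _ ι.injective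
    exact h1.map' c (LinearMap.ker_eq_bot.2 hc)
  let L : (Fin r → κ) →ₗ[κ] (Fin n → κ) := Fintype.linearCombination κ v
  have hL : Function.Injective L := hv.fintypeLinearCombination_injective
  obtain ⟨G, hG⟩ := L.exists_leftInverse_of_injective (LinearMap.ker_eq_bot.2 hL)
  let g : Fin r → Fin n → κ := fun i a => LinearMap.toMatrix' G i a
  obtain ⟨t, ht⟩ := IsLocalization.exist_integer_multiples_of_finset (nonZeroDivisors (B ⧸ y.asIdeal))
    (Finset.univ.image fun ia : Fin r × Fin n => g ia.1 ia.2)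
  have ht' : ∀ i a, ∃ h : B, algebraMap B κ h = algebraMap (B ⧸ y.asIdeal) κ t * g i a := by
    intro i a
    obtain ⟨z, hz⟩ := ht (g i a) (Finset.mem_image.2 ⟨(i, a), Finset.mem_univ _, rfl⟩)
    obtain ⟨z', rfl⟩ := Ideal.Quotient.mk_surjective z
    refine ⟨z', ?_⟩
    rw [Algebra.smul_def] at hz
    rw [← hz, ← Ideal.Quotient.algebraMap_eq, ← IsScalarTower.algebraMap_apply]
  choose hh hhh using ht'
  refine ⟨x, fun i => ∑ a, hh i a • (LinearMap.proj a ∘ₗ q), fun hdet => ?_⟩
  set T : κ := algebraMap (B ⧸ y.asIdeal) κ t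
  have hT : T ≠ 0 := fun h0 => nonZeroDivisors.ne_zero t.2 (IsFractionRing.injective (B ⧸ y.asIdeal) κ (by rw [map_zero]; exact h0))
  have key : (algebraMap B κ).mapMatrix (Matrix.of fun i j => (∑ a, hh i a • (LinearMap.proj a ∘ₗ q)) (φ (x j))) =
      T • (1 : Matrix (Fin r) (Fin r) κ) := by
    ext i j
    have e1 : v j = fun a => algebraMap B κ (q (φ (x j)) a) := by
      funext a
      simp [v, c, Algebra.smul_def]
    have e2 : G (v j) i = (1 : Matrix (Fin r) (Fin r) κ) i j := by
      have := LinearMap.congr_fun hG (Pi.single j 1)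
      simp only [LinearMap.comp_apply, L, Fintype.linearCombination_apply_single, one_smul, LinearMap.id_apply] at this
      rw [this]
      simp [Pi.single_apply, Matrix.one_apply]
    rw [Matrix.smul_apply, ← e2, ← Matrix.toLin'_toMatrix' G, Matrix.toLin'_apply, Matrix.mulVec, dotProduct]
    simp only [RingHom.mapMatrix_apply, Matrix.map_apply, Matrix.of_apply, LinearMap.sum_apply, LinearMap.smul_apply,
      LinearMap.comp_apply, LinearMap.proj_apply, smul_eq_mul, map_sum, map_mul, hhh, Finset.mul_sum, e1, mul_assoc]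
    rfl
  have h0 := (Ideal.algebraMap_residueField_eq_zero).2 hdet
  rw [RingHom.map_det, key, Matrix.det_smul, Matrix.det_one, mul_one] at h0
  exact pow_ne_zero _ hT h0

theorem exists_quasiInverse [Module.Projective B K'] [Module.Finite B K'] [Module.Finite B K]
    (d : K →ₗ[B] K') (p : PrimeSpectrum B)
    (hc : LinearMap.ker (d.baseChange p.asIdeal.ResidueField) ≤
      LinearMap.range ((LinearMap.ker d).subtype.baseChange p.asIdeal.ResidueField)) :
    ∃ (g : B) (h : K' →ₗ[B] K), g ∉ p.asIdeal ∧ d ∘ₗ h ∘ₗ d = g • d := by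
  classical
  let κ := p.asIdeal.ResidueField
  set r := Module.finrank κ (LinearMap.range (d.baseChange κ)) with hr
  obtain ⟨x, f, hdet⟩ := exists_det_of_le_finrank d p (r := r) le_rfl
  set A : Matrix (Fin r) (Fin r) B := Matrix.of fun i j => f i (d (x j))
  let F : K' →ₗ[B] (Fin r → B) := LinearMap.pi f
  let X : (Fin r → B) →ₗ[B] K := Fintype.linearCombination B x
  let h : K' →ₗ[B] K := X ∘ₗ Matrix.toLin' A.adjugate ∘ₗ F
  have hX : ∀ c, h (d (X c)) = A.det • X c := by
    intro c
    have h1 : F (d (X c)) = A.mulVec c := by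
      funext i
      simp [F, X, A, Fintype.linearCombination_apply, Matrix.mulVec, dotProduct, map_sum, mul_comm]
    show X (Matrix.toLin' A.adjugate (F (d (X c)))) = _
    rw [Matrix.toLin'_apply, h1, Matrix.mulVec_mulVec, Matrix.adjugate_mul, Matrix.smul_mulVec,
      Matrix.one_mulVec, map_smul]
  let w : Fin r → LinearMap.range (d.baseChange κ) := fun j => ⟨d.baseChange κ ((1 : κ) ⊗ₜ[B] x j), _, rfl⟩
  have hw : LinearIndependent κ w := by
    let G : (κ ⊗[B] K') →ₗ[κ] (Fin r → κ) :=
      LinearMap.pi fun i => (TensorProduct.AlgebraTensorModule.rid B κ κ).toLinearMap ∘ₗ LinearMap.baseChange κ (f i)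
    refine LinearIndependent.of_comp (G ∘ₗ (LinearMap.range (d.baseChange κ)).subtype) ?_
    have : (G ∘ₗ (LinearMap.range (d.baseChange κ)).subtype) ∘ w = ((algebraMap B κ).mapMatrix A).col := by
      funext j i
      simp [G, w, A, Matrix.col, Algebra.smul_def]
    rw [this, Matrix.linearIndependent_cols_iff_isUnit, Matrix.isUnit_iff_isUnit_det, ← RingHom.map_det,
      isUnit_iff_ne_zero]
    exact fun h0 => hdet (Ideal.algebraMap_residueField_eq_zero.1 h0)
  have hspan : Submodule.span κ (Set.range w) = ⊤ :=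
    LinearIndependent.span_eq_top_of_card_eq_finrank' (b := w) hw (by rw [Fintype.card_fin, hr])
  set K0 := LinearMap.ker d ⊔ LinearMap.range X
  have htop : ∀ z : κ ⊗[B] K, z ∈ LinearMap.range (K0.subtype.baseChange κ) := by
    intro z
    have hz : (⟨d.baseChange κ z, z, rfl⟩ : LinearMap.range (d.baseChange κ)) ∈ Submodule.span κ (Set.range w) := by
      rw [hspan]; trivial
    obtain ⟨c, hc'⟩ := Submodule.mem_span_range_iff_exists_fun κ |>.1 hz
    let z' : κ ⊗[B] K := ∑ j, c j • ((1 : κ) ⊗ₜ[B] x j)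
    have hk : z - z' ∈ LinearMap.ker (d.baseChange κ) := by
      have := congrArg Subtype.val hc'
      simp only [AddSubmonoidClass.coe_finsetSum, SetLike.val_smul, w] at this
      rw [LinearMap.mem_ker, map_sub, sub_eq_zero, ← this]
      simp [z', map_sum, map_smul]
    have h2 : z' ∈ LinearMap.range (K0.subtype.baseChange κ) :=
      sum_mem fun j _ => Submodule.smul_mem _ _ ⟨(1 : κ) ⊗ₜ[B] (⟨x j, Submodule.mem_sup_right
        ⟨Pi.single j 1, by simp [X]⟩⟩ : K0), rfl⟩
    obtain ⟨t, ht⟩ := hc hk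
    have h3 : z - z' ∈ LinearMap.range (K0.subtype.baseChange κ) :=
      ⟨(Submodule.inclusion (le_sup_left : LinearMap.ker d ≤ K0)).baseChange κ t, by
        rw [← LinearMap.comp_apply, ← LinearMap.baseChange_comp]; exact ht⟩
    simpa using add_mem h3 h2
  have hsup : p ∉ Module.support B (K ⧸ K0) := by
    rw [Module.mem_support_iff_nontrivial_residueField_tensorProduct, not_nontrivial_iff_subsingleton]
    refine subsingleton_of_forall_eq 0 fun q => ?_
    obtain ⟨z, rfl⟩ := LinearMap.baseChange_surjective (R := B) (g := K0.mkQ) κ (Submodule.mkQ_surjective _) q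
    obtain ⟨t, rfl⟩ := htop z
    rw [← LinearMap.comp_apply, ← LinearMap.baseChange_comp, LinearMap.exact_subtype_mkQ K0 |>.linearMap_comp_eq_zero]
    simp
  rw [Module.support_eq_zeroLocus, PrimeSpectrum.mem_zeroLocus, SetLike.coe_subset_coe, SetLike.not_le_iff_exists] at hsup
  obtain ⟨g, hg, hgp⟩ := hsup
  refine ⟨g * A.det, g • h, fun hm => (p.isPrime.mem_or_mem hm).elim hgp hdet, LinearMap.ext fun m => ?_⟩
  have hgm : g • m ∈ K0 := by
    rw [← Submodule.Quotient.mk_eq_zero, Submodule.Quotient.mk_smul]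
    exact Module.mem_annihilator.1 hg _
  obtain ⟨k, hk, _, ⟨c, rfl⟩, hkc⟩ := Submodule.mem_sup.1 hgm
  have hd : d (g • m) = d (X c) := by rw [← hkc, map_add, LinearMap.mem_ker.1 hk, zero_add]
  show d (g • h (d m)) = (g * A.det) • d m
  rw [← map_smul h, ← map_smul d g m, hd, hX, map_smul, ← hd, map_smul, smul_smul, mul_comm]

theorem ker_baseChange_le_of_quasiInverse (d : K →ₗ[B] K') (p : PrimeSpectrum B) {g : B} (hg : g ∉ p.asIdeal)
    (h : K' →ₗ[B] K) (hd : d ∘ₗ h ∘ₗ d = g • d) :
    LinearMap.ker (d.baseChange p.asIdeal.ResidueField) ≤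
      LinearMap.range ((LinearMap.ker d).subtype.baseChange p.asIdeal.ResidueField) := by
  intro z hz
  let κ := p.asIdeal.ResidueField
  let e : K →ₗ[B] LinearMap.ker d := (g • LinearMap.id - h ∘ₗ d).codRestrict _ fun m => by
    have := LinearMap.congr_fun hd m
    simp only [LinearMap.comp_apply, LinearMap.smul_apply] at this
    simp [this]
  have hg' : algebraMap B κ g ≠ 0 := fun h0 => hg (Ideal.algebraMap_residueField_eq_zero.1 h0)
  refine ⟨(algebraMap B κ g)⁻¹ • e.baseChange κ z, ?_⟩
  rw [map_smul, ← LinearMap.comp_apply, ← LinearMap.baseChange_comp]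
  have : (LinearMap.ker d).subtype ∘ₗ e = g • LinearMap.id - h ∘ₗ d := rfl
  rw [this, LinearMap.baseChange_sub, LinearMap.baseChange_smul, LinearMap.baseChange_id, LinearMap.baseChange_comp,
    LinearMap.sub_apply, LinearMap.comp_apply, LinearMap.mem_ker.1 hz, map_zero, sub_zero, LinearMap.smul_apply,
    LinearMap.id_apply, ← algebraMap_smul κ g z, inv_smul_smul₀ hg']

/-- The ideal of multipliers admitting a quasi-inverse. -/
def qiIdeal (d : K →ₗ[B] K') : Ideal B where
  carrier := {g | ∃ h : K' →ₗ[B] K, d ∘ₗ h ∘ₗ d = g • d}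
  zero_mem' := ⟨0, by simp⟩
  add_mem' := by
    rintro a b ⟨h1, e1⟩ ⟨h2, e2⟩
    exact ⟨h1 + h2, by rw [LinearMap.add_comp, LinearMap.comp_add, e1, e2, add_smul]⟩
  smul_mem' := by
    rintro c a ⟨h1, e1⟩
    exact ⟨c • h1, by rw [LinearMap.smul_comp, LinearMap.comp_smul, e1, smul_smul, smul_eq_mul]⟩

theorem qiIdeal_eq_top [Module.Projective B K'] [Module.Finite B K'] [Module.Finite B K] (d : K →ₗ[B] K')
    (hc : ∀ p : PrimeSpectrum B, LinearMap.ker (d.baseChange p.asIdeal.ResidueField) ≤
      LinearMap.range ((LinearMap.ker d).subtype.baseChange p.asIdeal.ResidueField)) :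
    qiIdeal d = ⊤ := by
  by_contra hne
  obtain ⟨m, hm, hle⟩ := Ideal.exists_le_maximal _ hne
  obtain ⟨g, h, hg, hh⟩ := exists_quasiInverse d ⟨m, hm.isPrime⟩ (hc _)
  exact hg (hle ⟨h, hh⟩)

theorem exists_lift_of_quasiInverse (d : K →ₗ[B] K') {g : B} (h : K' →ₗ[B] K) (hd : d ∘ₗ h ∘ₗ d = g • d) :
    ∃ ψ : (K' ⧸ LinearMap.range d) →ₗ[B] K', (LinearMap.range d).mkQ ∘ₗ ψ = g • LinearMap.id := by
  refine ⟨(LinearMap.range d).liftQ (g • (LinearMap.id : K' →ₗ[B] K') - d ∘ₗ h) ?_, Submodule.linearMap_qext _ (LinearMap.ext fun y => ?_)⟩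
  · rintro _ ⟨m, rfl⟩
    have := LinearMap.congr_fun hd m
    simp only [LinearMap.comp_apply, LinearMap.smul_apply] at this
    simp [this]
  · show (Submodule.Quotient.mk (g • y - d (h y)) : K' ⧸ LinearMap.range d) = g • (Submodule.Quotient.mk y : K' ⧸ LinearMap.range d)
    rw [Submodule.Quotient.mk_sub, Submodule.Quotient.mk_smul,
      (Submodule.Quotient.mk_eq_zero _).2 (LinearMap.mem_range_self d _), sub_zero]

theorem exists_quasiInverse_of_lift [Module.Projective B K'] (d : K →ₗ[B] K') {g : B}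
    (ψ : (K' ⧸ LinearMap.range d) →ₗ[B] K') (hψ : (LinearMap.range d).mkQ ∘ₗ ψ = g • LinearMap.id) :
    ∃ h : K' →ₗ[B] K, d ∘ₗ h ∘ₗ d = g • d := by
  let e : K' →ₗ[B] LinearMap.range d := (g • LinearMap.id - ψ ∘ₗ (LinearMap.range d).mkQ).codRestrict _ fun y => by
    rw [← Submodule.Quotient.mk_eq_zero]
    have := LinearMap.congr_fun hψ (Submodule.Quotient.mk y)
    simp only [LinearMap.comp_apply, Submodule.mkQ_apply, LinearMap.smul_apply, LinearMap.id_apply] at this
    simp [this]
  obtain ⟨h, hh⟩ := Module.projective_lifting_property d.rangeRestrict e d.surjective_rangeRestrict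
  refine ⟨h, LinearMap.ext fun m => ?_⟩
  have := congrArg Subtype.val (LinearMap.congr_fun hh (d m))
  simp only [LinearMap.comp_apply, LinearMap.codRestrict_apply] at this
  show d (h (d m)) = g • d m
  rw [this]
  simp [e, (Submodule.Quotient.mk_eq_zero _).2 (LinearMap.mem_range_self d m)]

end Groth.Calg3.QuasiInv
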