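import Mathlib

/-! Exactness of tensor products with a complex of flat modules, tested on residue fields. -/

set_option autoImplicit false

universe u

open TensorProduct

namespace Groth.Calg3.ResidueAcyclic

variable {A : Type u} [CommRing A] (X : ℕ → ModuleCat.{u} A) (d : ∀ j, X (j + 1) →ₗ[A] X j)

/-- Cycles of `N ⊗ X`. -/
def Cyc (N : Type u) [AddCommGroup N] [Module A N] : ∀ j, N ⊗[A] X j → Prop
  | 0, _ => True
  | j + 1, x => (d j).lTensor N x = 0

/-- `N ⊗ X` is exact in degrees `≥ m`. -/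
def Acyc (m : ℕ) (N : Type u) [AddCommGroup N] [Module A N] : Prop :=
  ∀ j, m ≤ j → ∀ x : N ⊗[A] X j, Cyc X d N j x → ∃ w, (d j).lTensor N w = x

variable {X d}

theorem lTensor_comm {N N' : Type u} [AddCommGroup N] [Module A N] [AddCommGroup N'] [Module A N']
    (g : N →ₗ[A] N') {Y Y' : Type u} [AddCommGroup Y] [Module A Y] [AddCommGroup Y'] [Module A Y']
    (f : Y →ₗ[A] Y') (x : N ⊗[A] Y) :
    f.lTensor N' (g.rTensor Y x) = g.rTensor Y' (f.lTensor N x) := by
  rw [← LinearMap.comp_apply, ← LinearMap.comp_apply, LinearMap.lTensor_comp_rTensor,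
    LinearMap.rTensor_comp_lTensor]

theorem cyc_map {N N' : Type u} [AddCommGroup N] [Module A N] [AddCommGroup N'] [Module A N']
    (g : N →ₗ[A] N') {j : ℕ} {x : N ⊗[A] X j} (h : Cyc X d N j x) : Cyc X d N' j (g.rTensor (X j) x) := by
  cases j with
  | zero => trivial
  | succ j =>
    show (d j).lTensor N' (g.rTensor _ x) = 0
    rw [lTensor_comm, show (d j).lTensor N x = 0 from h, map_zero]

theorem cyc_of_map (hflat : ∀ j, Module.Flat A (X j)) {N N' : Type u} [AddCommGroup N] [Module A N]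
    [AddCommGroup N'] [Module A N'] {g : N →ₗ[A] N'} (hg : Function.Injective g) {j : ℕ} {x : N ⊗[A] X j}
    (h : Cyc X d N' j (g.rTensor (X j) x)) : Cyc X d N j x := by
  cases j with
  | zero => trivial
  | succ j =>
    haveI := hflat j
    have h' : (d j).lTensor N' (g.rTensor _ x) = 0 := h
    rw [lTensor_comm] at h'
    exact Module.Flat.rTensor_preserves_injective_linearMap g hg (h'.trans (map_zero _).symm)

variable (hd : ∀ j (x : X (j + 1 + 1)), d j (d (j + 1) x) = 0)

include hd in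
theorem cyc_d (N : Type u) [AddCommGroup N] [Module A N] (j : ℕ) (w : N ⊗[A] X (j + 1)) :
    Cyc X d N j ((d j).lTensor N w) := by
  cases j with
  | zero => trivial
  | succ j =>
    show (d j).lTensor N ((d (j + 1)).lTensor N w) = 0
    rw [← LinearMap.comp_apply, ← LinearMap.lTensor_comp,
      show d j ∘ₗ d (j + 1) = 0 from LinearMap.ext (hd j), LinearMap.lTensor_zero, LinearMap.zero_apply]

variable (hflat : ∀ j, Module.Flat A (X j))

theorem acyc_of_subsingleton (m : ℕ) (N : Type u) [AddCommGroup N] [Module A N] [Subsingleton N] :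
    Acyc X d m N := fun j _ x _ => ⟨0, Subsingleton.elim _ _⟩

theorem acyc_of_equiv {m : ℕ} {N N' : Type u} [AddCommGroup N] [Module A N] [AddCommGroup N'] [Module A N']
    (e : N ≃ₗ[A] N') (h : Acyc X d m N) : Acyc X d m N' := fun j hj x hx => by
  obtain ⟨w, hw⟩ := h j hj _ (cyc_map e.symm.toLinearMap hx)
  refine ⟨e.toLinearMap.rTensor _ w, ?_⟩
  rw [lTensor_comm, hw, ← LinearMap.comp_apply, ← LinearMap.rTensor_comp]
  simp

include hflat in
theorem acyc_ext {m : ℕ} {N₁ N₂ N₃ : Type u} [AddCommGroup N₁] [Module A N₁] [AddCommGroup N₂] [Module A N₂]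
    [AddCommGroup N₃] [Module A N₃] (f : N₁ →ₗ[A] N₂) (g : N₂ →ₗ[A] N₃) (hf : Function.Injective f)
    (hg : Function.Surjective g) (hfg : Function.Exact f g) (h₁ : Acyc X d m N₁) (h₃ : Acyc X d m N₃)
    (hd : ∀ j (x : X (j + 1 + 1)), d j (d (j + 1) x) = 0) : Acyc X d m N₂ := by
  intro j hj x hx
  obtain ⟨w, hw⟩ := h₃ j hj _ (cyc_map g hx)
  obtain ⟨w', rfl⟩ := LinearMap.rTensor_surjective (X (j + 1)) hg w
  rw [lTensor_comm] at hw
  have h0 : g.rTensor (X j) (x - (d j).lTensor N₂ w') = 0 := by rw [map_sub, hw, sub_self]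
  obtain ⟨y, hy⟩ := (rTensor_exact (X j) hfg hg _).mp h0
  have hc : Cyc X d N₂ j (x - (d j).lTensor N₂ w') := by
    cases j with
    | zero => trivial
    | succ j =>
      show (d j).lTensor N₂ _ = 0
      rw [map_sub, show (d j).lTensor N₂ x = 0 from hx, zero_sub, neg_eq_zero]
      exact cyc_d hd N₂ (j + 1) w'
  rw [← hy] at hc
  obtain ⟨v, hv⟩ := h₁ j hj y (cyc_of_map hflat hf hc)
  refine ⟨f.rTensor _ v + w', ?_⟩
  rw [map_add, lTensor_comm, hv, hy, sub_add_cancel]

include hd hflat in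
theorem acyc_quotient_prime {m : ℕ} (p : Ideal A) [p.IsPrime] (hk : Acyc X d m p.ResidueField)
    (hQ : ∀ a ∉ p, Acyc X d m (A ⧸ (p ⊔ Ideal.span {a}))) : Acyc X d m (A ⧸ p) := by
  intro j hj x hx
  let g : (A ⧸ p) →ₗ[A] p.ResidueField := (IsScalarTower.toAlgHom A (A ⧸ p) p.ResidueField).toLinearMap
  have hg : Function.Injective g := IsFractionRing.injective (A ⧸ p) p.ResidueField
  obtain ⟨w, hw⟩ := hk j hj _ (cyc_map g hx)
  have hlift : ∀ z : p.ResidueField ⊗[A] X (j + 1), ∃ s, s ∉ p ∧ ∃ z', g.rTensor _ z' = s • z := by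
    intro z
    induction z with
    | zero => exact ⟨1, fun h => ‹p.IsPrime›.ne_top ((Ideal.eq_top_iff_one p).mpr h), 0, by simp⟩
    | tmul c y =>
      obtain ⟨⟨b, ⟨s', hs'⟩⟩, hb⟩ := IsLocalization.surj (nonZeroDivisors (A ⧸ p)) c
      obtain ⟨s, rfl⟩ := Ideal.Quotient.mk_surjective s'
      refine ⟨s, fun h => nonZeroDivisors.ne_zero hs' (Ideal.Quotient.eq_zero_iff_mem.mpr h), b ⊗ₜ y, ?_⟩
      rw [LinearMap.rTensor_tmul, TensorProduct.smul_tmul']
      congr 1
      change algebraMap (A ⧸ p) p.ResidueField b = s • c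
      rw [← hb, Algebra.smul_def, mul_comm, IsScalarTower.algebraMap_apply A (A ⧸ p) p.ResidueField]
      rfl
    | add z z' hz hz' =>
      obtain ⟨s, hs, a, ha⟩ := hz
      obtain ⟨t, ht, b, hb⟩ := hz'
      refine ⟨s * t, ‹p.IsPrime›.mul_notMem hs ht, t • a + s • b, ?_⟩
      rw [map_add, map_smul, map_smul, ha, hb, smul_add, smul_smul, smul_smul, mul_comm t s]
  obtain ⟨s, hs, w₀, hw₀⟩ := hlift w
  haveI := hflat j
  have hsx : (d j).lTensor (A ⧸ p) w₀ = s • x := by
    apply Module.Flat.rTensor_preserves_injective_linearMap (M := X j) g hg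
    rw [map_smul, ← lTensor_comm, hw₀, map_smul, hw]
  let μ : (A ⧸ p) →ₗ[A] (A ⧸ p) := s • LinearMap.id
  have hμ : Function.Injective μ := by
    rw [← LinearMap.ker_eq_bot, LinearMap.ker_eq_bot']
    intro z hz
    obtain ⟨z, rfl⟩ := Ideal.Quotient.mk_surjective z
    have : Ideal.Quotient.mk p (s * z) = 0 := hz
    rw [Ideal.Quotient.eq_zero_iff_mem] at this ⊢
    exact (‹p.IsPrime›.mem_or_mem this).resolve_left hs
  let q : (A ⧸ p) →ₗ[A] A ⧸ (p ⊔ Ideal.span {s}) := (Ideal.Quotient.factorₐ A le_sup_left).toLinearMap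
  have hq : Function.Surjective q := Ideal.Quotient.factor_surjective le_sup_left
  have hμq : Function.Exact μ q := by
    intro z
    obtain ⟨z, rfl⟩ := Ideal.Quotient.mk_surjective z
    change Ideal.Quotient.mk (p ⊔ Ideal.span {s}) z = 0 ↔ _
    rw [Ideal.Quotient.eq_zero_iff_mem, Submodule.mem_sup]
    constructor
    · rintro ⟨u, hu, v, hv, rfl⟩
      obtain ⟨c, rfl⟩ := Ideal.mem_span_singleton'.mp hv
      refine ⟨Ideal.Quotient.mk p c, ?_⟩
      show Ideal.Quotient.mk p (s * c) = _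
      rw [map_add, Ideal.Quotient.eq_zero_iff_mem.mpr hu, zero_add, mul_comm]
    · rintro ⟨c, hc⟩
      obtain ⟨c, rfl⟩ := Ideal.Quotient.mk_surjective c
      have h : Ideal.Quotient.mk p (s * c) = Ideal.Quotient.mk p z := hc
      exact ⟨z - s * c, (Ideal.Quotient.eq).mp h.symm, s * c,
        Ideal.mem_span_singleton'.mpr ⟨c, mul_comm _ _⟩, sub_add_cancel _ _⟩
  have hsmul : ∀ {i : ℕ} (z : (A ⧸ p) ⊗[A] X i), μ.rTensor (X i) z = s • z := fun z => by
    simp [μ, LinearMap.rTensor_smul]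
  have hq0 : ∀ {i : ℕ} (z : (A ⧸ p) ⊗[A] X i), q.rTensor (X i) (s • z) = 0 := fun z => by
    rw [← hsmul, ← LinearMap.comp_apply, ← LinearMap.rTensor_comp, hμq.linearMap_comp_eq_zero,
      LinearMap.rTensor_zero, LinearMap.zero_apply]
  obtain ⟨v, hv⟩ := hQ s hs (j + 1) (Nat.le_succ_of_le hj) (q.rTensor _ w₀) (by
    show (d j).lTensor _ _ = 0
    rw [lTensor_comm, hsx, hq0])
  obtain ⟨v', rfl⟩ := LinearMap.rTensor_surjective (X (j + 1 + 1)) hq v
  rw [lTensor_comm] at hv
  have h0 : q.rTensor (X (j + 1)) (w₀ - (d (j + 1)).lTensor (A ⧸ p) v') = 0 := by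
    rw [map_sub, hv, sub_self]
  obtain ⟨w', hw'⟩ := (rTensor_exact (X (j + 1)) hμq hq _).mp h0
  refine ⟨w', ?_⟩
  apply Module.Flat.rTensor_preserves_injective_linearMap (M := X j) μ hμ
  rw [hsmul x, ← lTensor_comm, hw', map_sub, hsx,
    show (d j).lTensor (A ⧸ p) ((d (j + 1)).lTensor (A ⧸ p) v') = 0 from cyc_d hd _ (j + 1) v', sub_zero]

include hd hflat in
theorem acyc_of_residueField [IsNoetherianRing A] {m : ℕ}
    (hk : ∀ (p : Ideal A) [p.IsPrime], Acyc X d m p.ResidueField) :
    ∀ (N : Type u) [AddCommGroup N] [Module A N], Module.Finite A N → Acyc X d m N := by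
  have key : ∀ (N : Type u) [AddCommGroup N] [Module A N], Module.Finite A N →
      (∀ (p : PrimeSpectrum A), Module.annihilator A N ≤ p.asIdeal → Acyc X d m (A ⧸ p.asIdeal)) →
      Acyc X d m N := by
    intro N _ _ hN
    induction hN using IsNoetherianRing.induction_on_isQuotientEquivQuotientPrime A with
    | subsingleton N => exact fun _ => acyc_of_subsingleton m N
    | quotient N p e =>
      intro h
      refine acyc_of_equiv e.symm (h p ?_)
      intro a ha
      have h1 := Module.mem_annihilator.mp ha (e.symm (Ideal.Quotient.mk _ 1))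
      rw [← map_smul, map_eq_zero_iff _ e.symm.injective, Algebra.smul_def, Ideal.Quotient.algebraMap_eq,
        ← map_mul, mul_one, Ideal.Quotient.eq_zero_iff_mem] at h1
      exact h1
    | exact N₁ N₂ N₃ f g hf hg hfg h₁ h₃ =>
      intro h
      exact acyc_ext hflat f g hf hg hfg (h₁ fun p hp => h p ((f.annihilator_le_of_injective hf).trans hp))
        (h₃ fun p hp => h p ((g.annihilator_le_of_surjective hg).trans hp)) hd
  have prime : ∀ I : Ideal A, I.IsPrime → Acyc X d m (A ⧸ I) := by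
    intro I
    induction I using WellFoundedGT.induction with
    | _ I ih =>
      intro hI
      refine acyc_quotient_prime hd hflat I (hk I) fun a ha => ?_
      refine key _ inferInstance fun q hq => ih q.asIdeal ?_ q.2
      rw [Ideal.annihilator_quotient] at hq
      exact lt_of_le_of_ne (le_sup_left.trans hq) fun h =>
        ha (h ▸ hq (Ideal.mem_sup_right (Ideal.mem_span_singleton_self a)))
  intro N _ _ hN
  exact key N hN fun p _ => prime p.asIdeal p.2

include hd hflat in
theorem acyc_all [IsNoetherianRing A] {m : ℕ} (hk : ∀ (p : Ideal A) [p.IsPrime], Acyc X d m p.ResidueField)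
    (N : Type u) [AddCommGroup N] [Module A N] : Acyc X d m N := by
  intro j hj x hx
  obtain ⟨N', hN', hxN⟩ := TensorProduct.exists_finite_submodule_left_of_setFinite {x} (Set.finite_singleton x)
  obtain ⟨x', rfl⟩ := hxN (Set.mem_singleton x)
  haveI : Module.Finite A N' := hN'
  obtain ⟨w, hw⟩ := acyc_of_residueField hd hflat hk N' inferInstance j hj x'
    (cyc_of_map hflat N'.injective_subtype hx)
  exact ⟨N'.subtype.rTensor _ w, by rw [lTensor_comm, hw]⟩

end Groth.Calg3.ResidueAcyclic
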