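import Mathlib

/-! Serre's splitting: general position of sections of a finitely generated module. -/

open TopologicalSpace Module

namespace Groth.Calg3

universe u v w

section

variable {R : Type u} [CommRing R] {M : Type v} [AddCommGroup M] [Module R M]

variable (M) in
/-- Elements on which every linear form takes values in `x`. -/
def formKer (x : Ideal R) : Submodule R M where
  carrier := {m | ∀ φ : M →ₗ[R] R, φ m ∈ x}
  add_mem' := fun ha hb φ => by rw [map_add]; exact x.add_mem (ha φ) (hb φ)
  zero_mem' := fun φ => by simp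
  smul_mem' := fun r m hm φ => by rw [map_smul]; exact x.mul_mem_left r (hm φ)

theorem mem_formKer {x : Ideal R} {m : M} : m ∈ formKer M x ↔ ∀ φ : M →ₗ[R] R, φ m ∈ x := Iff.rfl

theorem smul_top_le_formKer (x : Ideal R) : x • (⊤ : Submodule R M) ≤ formKer M x :=
  Submodule.smul_le.2 fun r hr m _ φ => by rw [map_smul]; exact x.mul_mem_right _ hr

/-- The sections are independent at `x`: some minor of the values of linear forms avoids `x`. -/
def Indep (x : Ideal R) {ι : Type w} [Fintype ι] [DecidableEq ι] (s : ι → M) : Prop :=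
  ∃ φ : ι → (M →ₗ[R] R), (Matrix.of fun i j => φ i (s j)).det ∉ x

theorem linearIndependent_iff_indep (x : Ideal R) [x.IsMaximal] {V : Type*} [AddCommGroup V]
    [Module R V] [Module (R ⧸ x) V] [IsScalarTower R (R ⧸ x) V] (π : M →ₗ[R] V)
    (hker : LinearMap.ker π = formKer M x) {ι : Type w} [Fintype ι] [DecidableEq ι] (s : ι → M) :
    LinearIndependent (R ⧸ x) (fun i => π (s i)) ↔ Indep x s := by
  let K := Ideal.Quotient.field x
  constructor
  · intro hli
    let Φ : (M →ₗ[R] R) →ₗ[R] (ι → R ⧸ x) :=
      { toFun := fun φ i => Ideal.Quotient.mk x (φ (s i))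
        map_add' := fun a b => by ext; simp
        map_smul' := fun a b => by ext; simp [Algebra.smul_def, Ideal.Quotient.algebraMap_eq] }
    let W : Submodule (R ⧸ x) (ι → R ⧸ x) :=
      { carrier := Set.range Φ
        add_mem' := by rintro _ _ ⟨a, rfl⟩ ⟨b, rfl⟩; exact ⟨a + b, map_add _ _ _⟩
        zero_mem' := ⟨0, map_zero _⟩
        smul_mem' := by
          rintro c _ ⟨a, rfl⟩
          obtain ⟨r, rfl⟩ := Ideal.Quotient.mk_surjective c
          exact ⟨r • a, by rw [map_smul]; ext; simp [Algebra.smul_def, Ideal.Quotient.algebraMap_eq]⟩ }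
    have hW : W = ⊤ := by
      by_contra hne
      obtain ⟨f, hf, hfW⟩ := Submodule.exists_le_ker_of_lt_top W (lt_top_iff_ne_top.mpr hne)
      choose r hr using fun i => Ideal.Quotient.mk_surjective (f (Pi.single i 1))
      have hmem : ∑ i, r i • s i ∈ formKer M x := by
        intro φ
        have h0 : f (Φ φ) = 0 := hfW ⟨φ, rfl⟩
        rw [pi_eq_sum_univ' (Φ φ), map_sum] at h0
        rw [← Ideal.Quotient.eq_zero_iff_mem, map_sum, map_sum, ← h0]
        refine Finset.sum_congr rfl fun i _ => ?_
        rw [map_smul f, ← hr, map_smul, smul_eq_mul, map_mul, smul_eq_mul, mul_comm]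
        rfl
      rw [← hker, LinearMap.mem_ker, map_sum] at hmem
      have h1 := Fintype.linearIndependent_iff.1 hli (fun i => Ideal.Quotient.mk x (r i)) (by
        simpa [← Ideal.Quotient.algebraMap_eq, algebraMap_smul] using hmem)
      apply hf
      refine (Pi.basisFun (R ⧸ x) ι).ext fun i => ?_
      simp [← hr, h1]
    choose φ hφ using fun i => (hW ▸ Submodule.mem_top : (Pi.single i 1 : ι → R ⧸ x) ∈ W)
    refine ⟨φ, fun hdet => ?_⟩
    rw [← Ideal.Quotient.eq_zero_iff_mem, RingHom.map_det] at hdet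
    have h1 : (Ideal.Quotient.mk x).mapMatrix (Matrix.of fun i j => φ i (s j)) = 1 := by
      ext i j
      simp only [RingHom.mapMatrix_apply, Matrix.map_apply, Matrix.of_apply, Matrix.one_apply]
      rw [show Ideal.Quotient.mk x (φ i (s j)) = Φ (φ i) j from rfl, hφ, Pi.single_apply]
      simp [eq_comm]
    rw [h1, Matrix.det_one] at hdet
    exact one_ne_zero hdet
  · rintro ⟨φ, hφ⟩
    rw [Fintype.linearIndependent_iff]
    intro c hc
    choose r hr using fun i => Ideal.Quotient.mk_surjective (c i)
    have hmem : ∑ i, r i • s i ∈ LinearMap.ker π := by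
      simp only [← hr, ← Ideal.Quotient.algebraMap_eq, algebraMap_smul] at hc
      simpa [LinearMap.mem_ker, map_sum] using hc
    rw [hker] at hmem
    set A := (Ideal.Quotient.mk x).mapMatrix (Matrix.of fun i j => φ i (s j))
    have hA : A.mulVec c = 0 := by
      ext i
      have := hmem (φ i)
      rw [← Ideal.Quotient.eq_zero_iff_mem, map_sum, map_sum] at this
      simpa [A, Matrix.mulVec, dotProduct, ← hr, mul_comm] using this
    have hd : A.det ≠ 0 := by
      rw [← RingHom.map_det, Ne, Ideal.Quotient.eq_zero_iff_mem]; exact hφ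
    exact congrFun (Matrix.eq_zero_of_mulVec_eq_zero hd hA)

noncomputable instance formKerQuotModule (x : Ideal R) : Module (R ⧸ x) (M ⧸ formKer M x) :=
  Module.IsTorsionBySet.module fun m r => by
    obtain ⟨m, rfl⟩ := Submodule.mkQ_surjective _ m
    rw [← map_smul, Submodule.mkQ_apply, Submodule.Quotient.mk_eq_zero]
    exact smul_top_le_formKer x (Submodule.smul_mem_smul r.2 Submodule.mem_top)

instance formKerQuot_tower (x : Ideal R) : IsScalarTower R (R ⧸ x) (M ⧸ formKer M x) :=
  Module.IsTorsionBySet.isScalarTower _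

theorem indep_iff_mkQ (x : Ideal R) [x.IsMaximal] {ι : Type w} [Fintype ι] [DecidableEq ι] (s : ι → M) :
    LinearIndependent (R ⧸ x) (fun i => (formKer M x).mkQ (s i)) ↔ Indep x s :=
  linearIndependent_iff_indep x _ (Submodule.ker_mkQ _) s

theorem Indep.congr {x : Ideal R} {ι : Type w} [Fintype ι] [DecidableEq ι] {s t : ι → M}
    (h : Indep x s) (hst : ∀ i, s i - t i ∈ formKer M x) : Indep x t := by
  obtain ⟨φ, hφ⟩ := h
  refine ⟨φ, fun h' => hφ ?_⟩
  have e : (Ideal.Quotient.mk x).mapMatrix (Matrix.of fun i j => φ i (s j)) =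
      (Ideal.Quotient.mk x).mapMatrix (Matrix.of fun i j => φ i (t j)) := by
    ext i j
    simp only [RingHom.mapMatrix_apply, Matrix.map_apply, Matrix.of_apply, Ideal.Quotient.eq, ← map_sub]
    exact hst j (φ i)
  rw [← Ideal.Quotient.eq_zero_iff_mem, RingHom.map_det] at h' ⊢
  rwa [e]

theorem Indep.init {x : Ideal R} [x.IsMaximal] {h : ℕ} {s : Fin h → M} {a : M}
    (hi : Indep x (Fin.snoc s a)) : Indep x s := by
  rw [← indep_iff_mkQ] at hi ⊢
  simpa [Function.comp_def] using hi.comp Fin.castSucc (Fin.castSucc_injective _)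

theorem exists_indep_snoc {x : Ideal R} [x.IsMaximal] {h : ℕ} {s : Fin h → M} (hs : Indep x s)
    {w : Fin (h + 1) → M} (hw : Indep x w) : ∃ m, Indep x (Fin.snoc s m) := by
  letI := Ideal.Quotient.field x
  rw [← indep_iff_mkQ] at hs hw
  by_contra hno
  push Not at hno
  let S := Submodule.span (R ⧸ x) (Set.range fun i => (formKer M x).mkQ (s i))
  have hall : ∀ m, (formKer M x).mkQ m ∈ S := by
    intro m
    by_contra hm
    apply hno m
    rw [← indep_iff_mkQ]
    have e : (fun i => (formKer M x).mkQ ((Fin.snoc s m : Fin (h + 1) → M) i)) =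
        Fin.snoc (fun i => (formKer M x).mkQ (s i)) ((formKer M x).mkQ m) := by
      funext i; induction i using Fin.lastCases <;> simp
    rw [e]
    exact hs.finSnoc hm
  haveI : Fintype (Set.range fun i => (formKer M x).mkQ (s i)) := Fintype.ofFinite _
  have h1 := linearIndependent_le_span _ hw
    (Set.range fun i => (formKer M x).mkQ (s i)) (by
      rw [eq_top_iff]; intro m _; obtain ⟨m, rfl⟩ := Submodule.mkQ_surjective _ m; exact hall m)
  simp only [Cardinal.mk_fin, Nat.cast_le] at h1
  have := h1.trans (Fintype.card_range_le _)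
  simp at this

theorem isClosed_setOf_not_indep {ι : Type w} [Fintype ι] [DecidableEq ι] (s : ι → M) :
    IsClosed {x : MaximalSpectrum R | ¬ Indep x.asIdeal s} := by
  rw [← isOpen_compl_iff, isOpen_iff_forall_mem_open]
  intro x hx
  simp only [Set.mem_compl_iff, Set.mem_setOf_eq, not_not] at hx
  obtain ⟨φ, hφ⟩ := hx
  exact ⟨MaximalSpectrum.toPrimeSpectrum ⁻¹' (PrimeSpectrum.basicOpen (Matrix.of fun i j => φ i (s j)).det),
    fun y hy => by
      simp only [Set.mem_compl_iff, Set.mem_setOf_eq, not_not]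
      exact ⟨φ, hy⟩,
    (PrimeSpectrum.basicOpen _).isOpen.preimage MaximalSpectrum.toPrimeSpectrum_continuous, hφ⟩

variable [TopologicalSpace.NoetherianSpace (MaximalSpectrum R)]

/-- Maximal spectrum: prescribe finitely many residues. -/
theorem exists_residues (T : Finset (MaximalSpectrum R)) (r : MaximalSpectrum R → R) :
    ∃ c : R, ∀ x ∈ T, c - r x ∈ x.asIdeal := by
  obtain ⟨c, hc⟩ := Ideal.exists_forall_sub_mem_ideal (I := fun x : T => x.1.asIdeal) (fun a b hab => by
    exact Ideal.isCoprime_iff_sup_eq.2 (a.1.isMaximal.coprime_of_ne b.1.isMaximal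
      fun h => hab (Subtype.ext (MaximalSpectrum.ext h)))) (fun x => r x.1)
  exact ⟨c, fun x hx => hc ⟨x, hx⟩⟩

/-- Prescribe finitely many values of a section. -/
theorem exists_values (T : Finset (MaximalSpectrum R)) (v : MaximalSpectrum R → M) :
    ∃ m : M, ∀ x ∈ T, m - v x ∈ formKer M x.asIdeal := by
  classical
  choose e he using fun y => exists_residues T (fun x => if x = y then 1 else 0)
  refine ⟨∑ y ∈ T, e y • v y, fun x hx φ => ?_⟩
  rw [map_sub, map_sum, ← Ideal.Quotient.eq_zero_iff_mem, map_sub, map_sum, Finset.sum_eq_single_of_mem x hx, sub_eq_zero]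
  · have := Ideal.Quotient.eq.2 (he x x hx)
    simp [map_smul, this]
  · intro y _ hy
    have := Ideal.Quotient.eq.2 (he y x hx)
    simp [map_smul, this, Ne.symm hy]

theorem coheight_mono_of_le {α : Type*} [PartialOrder α] {a b : α} {k : ℕ} (hab : a ≤ b)
    (h : (k : ℕ∞) ≤ Order.coheight b) : (k : ℕ∞) ≤ Order.coheight a :=
  h.trans (Order.coheight_anti hab)

/-- Finitely many closed irreducible pieces covering a closed set outside `F`, not inside `F`. -/
theorem exists_pieces {Z : Set (MaximalSpectrum R)} (hZ : IsClosed Z) (F : Set (MaximalSpectrum R)) :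
    ∃ S : Set (IrreducibleCloseds (MaximalSpectrum R)), S.Finite ∧
      (∀ W ∈ S, (W : Set (MaximalSpectrum R)) ⊆ Z ∧ ¬ (W : Set (MaximalSpectrum R)) ⊆ F) ∧
      Z ⊆ F ∪ ⋃ W ∈ S, (W : Set (MaximalSpectrum R)) := by
  obtain ⟨S, hSf, hSc, hSi, rfl⟩ := NoetherianSpace.exists_finite_set_isClosed_irreducible hZ
  refine ⟨{W | (W : Set (MaximalSpectrum R)) ∈ S ∧ ¬ (W : Set (MaximalSpectrum R)) ⊆ F}, ?_, ?_, ?_⟩
  · refine (hSf.preimage (f := fun W : IrreducibleCloseds (MaximalSpectrum R) => (W : Set (MaximalSpectrum R)))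
      (Set.injOn_of_injective SetLike.coe_injective)).subset fun W hW => hW.1
  · exact fun W hW => ⟨Set.subset_sUnion_of_mem hW.1, hW.2⟩
  · rintro y ⟨t, ht, hy⟩
    by_cases htF : t ⊆ F
    · exact Or.inl (htF hy)
    · exact Or.inr (Set.mem_biUnion (x := (⟨t, hSi t ht, hSc t ht⟩ : IrreducibleCloseds _)) ⟨ht, htF⟩ hy)

theorem isClosed_pieces {S : Set (IrreducibleCloseds (MaximalSpectrum R))} (hS : S.Finite) :
    IsClosed (⋃ W ∈ S, (W : Set (MaximalSpectrum R))) :=
  hS.isClosed_biUnion fun W _ => W.isClosed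

theorem subset_piece {S : Set (IrreducibleCloseds (MaximalSpectrum R))} (hS : S.Finite)
    {Z : Set (MaximalSpectrum R)} (hZ : IsIrreducible Z) (h : Z ⊆ ⋃ W ∈ S, (W : Set (MaximalSpectrum R))) :
    ∃ W ∈ S, Z ⊆ (W : Set (MaximalSpectrum R)) := by
  classical
  obtain ⟨t, ht, hZt⟩ := isIrreducible_iff_sUnion_isClosed.1 hZ (hS.toFinset.image fun W : IrreducibleCloseds (MaximalSpectrum R) => (W : Set (MaximalSpectrum R)))
    (by intro t ht; obtain ⟨W, -, rfl⟩ := Finset.mem_image.1 ht; exact W.isClosed)
    (by simpa [Set.sUnion_image] using h)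
  obtain ⟨W, hW, rfl⟩ := Finset.mem_image.1 ht
  exact ⟨W, hS.mem_toFinset.1 hW, hZt⟩

/-- Serre's general position lemma. -/
theorem exists_general_position (k : ℕ) : ∀ {h : ℕ} (s : Fin h → M) (F : Set (MaximalSpectrum R)),
    IsClosed F → (∀ x, ¬ Indep x.asIdeal s → x ∈ F) →
    (∀ x : MaximalSpectrum R, ∃ w : Fin (h + k) → M, Indep x.asIdeal w) →
    ∀ (T : Finset (MaximalSpectrum R)), (∀ x ∈ T, x ∈ F) → ∀ v : MaximalSpectrum R → M,
    ∃ (t : M) (F' : Set (MaximalSpectrum R)), IsClosed F' ∧
      (∀ x ∈ T, t - v x ∈ formKer M x.asIdeal) ∧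
      (∀ x, ¬ Indep x.asIdeal (Fin.snoc s t) → x ∈ F ∪ F') ∧
      ∀ Z : IrreducibleCloseds (MaximalSpectrum R), (Z : Set (MaximalSpectrum R)) ⊆ F' →
        (k : ℕ∞) ≤ Order.coheight Z := by
  classical
  induction k with
  | zero =>
    intro h s F _ _ _ T _ v
    obtain ⟨t, ht⟩ := exists_values T v
    exact ⟨t, Set.univ, isClosed_univ, ht, fun x _ => Or.inr trivial, fun Z _ => zero_le⟩
  | succ k ih =>
    intro h s F hF hsF hdim T hT v
    have hdimk : ∀ x : MaximalSpectrum R, ∃ w : Fin (h + k) → M, Indep x.asIdeal w := fun x => by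
      obtain ⟨w, hw⟩ := hdim x
      exact ⟨_, Indep.init (s := Fin.init w) (a := w (Fin.last _)) (by rwa [Fin.snoc_init_self])⟩
    have hdim1 : ∀ x : MaximalSpectrum R, ∃ w : Fin (h + 1 + k) → M, Indep x.asIdeal w := fun x => by
      rw [show h + 1 + k = h + (k + 1) by omega]; exact hdim x
    have hgrow : ∀ x : MaximalSpectrum R, Indep x.asIdeal s → ∃ m, Indep x.asIdeal (Fin.snoc s m) := by
      intro x hx
      obtain ⟨w, hw⟩ := hdim x
      have hsub : Indep x.asIdeal (fun i : Fin (h + 1) => w (Fin.castLE (by omega) i)) := by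
        rw [← indep_iff_mkQ] at hw ⊢
        exact hw.comp _ (Fin.castLE_injective _)
      exact exists_indep_snoc hx hsub
    obtain ⟨a, F₁, hF₁, haT, haF, hF₁k⟩ := ih s F hF hsF hdimk T hT v
    obtain ⟨S₁, hS₁f, hS₁, hS₁c⟩ := exists_pieces hF₁ F
    choose z hzW hzF using fun W : S₁ => Set.not_subset.1 (hS₁ W W.2).2
    have hz_ind : ∀ W, Indep (z W).asIdeal s := fun W => not_not.1 fun hn => hzF W (hsF _ hn)
    let Tz : Finset (MaximalSpectrum R) :=
      haveI := hS₁f.fintype
      Finset.univ.image z
    have hTz : ∀ x, x ∈ Tz ↔ ∃ W, z W = x := fun x => by simp [Tz]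
    have hTzF : ∀ x ∈ Tz, x ∉ F ∧ Indep x.asIdeal s ∧ x ∈ F₁ := by
      intro x hx
      obtain ⟨W, rfl⟩ := (hTz x).1 hx
      exact ⟨hzF W, hz_ind W, (hS₁ W W.2).1 (hzW W)⟩
    let mz : MaximalSpectrum R → M := fun x => if hx : x ∈ Tz then (hgrow x (hTzF x hx).2.1).choose else 0
    let vb : MaximalSpectrum R → M := fun x =>
      if x ∈ Tz then (if Indep x.asIdeal (Fin.snoc s a) then 0 else mz x) else 0
    obtain ⟨b, F₂, hF₂, hbT, hbF, hF₂k⟩ := ih (Fin.snoc s a) (F ∪ F₁) (hF.union hF₁) haF hdim1
      (T ∪ Tz) (fun x hx => (Finset.mem_union.1 hx).elim (fun hh => Or.inl (hT x hh))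
        (fun hh => Or.inr (hTzF x hh).2.2)) vb
    obtain ⟨S₂, hS₂f, hS₂, hS₂c⟩ := exists_pieces hF₂ (F ∪ F₁)
    choose w hwW hwF using fun W : S₂ => Set.not_subset.1 (hS₂ W W.2).2
    let Tw : Finset (MaximalSpectrum R) :=
      haveI := hS₂f.fintype
      Finset.univ.image w
    have hTwF : ∀ x ∈ Tw, x ∉ F ∪ F₁ := by
      intro x hx
      obtain ⟨W, rfl⟩ : ∃ W, w W = x := by simpa [Tw] using hx
      exact hwF W
    obtain ⟨c, hc⟩ := exists_residues (T ∪ Tz ∪ Tw) (fun x => if x ∈ Tz then 1 else 0)
    refine ⟨a + c • b, ?_⟩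
    have hsame : ∀ x : MaximalSpectrum R, c ∈ x.asIdeal → a - (a + c • b) ∈ formKer M x.asIdeal := by
      intro x hx φ
      simpa using x.asIdeal.mul_mem_right (φ b) hx
    have hgood_w : ∀ W, Indep (w W).asIdeal (Fin.snoc s (a + c • b)) := by
      intro W
      have hWm : w W ∈ Tw := by simp [Tw]
      have hnz : w W ∉ Tz := fun hh => hwF W (Or.inr (hTzF _ hh).2.2)
      have hc' : c ∈ (w W).asIdeal := by simpa [hnz] using hc (w W) (Finset.mem_union_right _ hWm)
      have hia : Indep (w W).asIdeal (Fin.snoc s a) := not_not.1 fun hn => hwF W (haF _ hn)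
      refine hia.congr fun i => ?_
      induction i using Fin.lastCases with
      | last => simpa using hsame _ hc'
      | cast i => simp
    have hgood_z : ∀ W, Indep (z W).asIdeal (Fin.snoc s (a + c • b)) := by
      intro W
      set x := z W
      have hm : x ∈ Tz := (hTz _).2 ⟨W, rfl⟩
      have hc1 : c - 1 ∈ x.asIdeal := by simpa [hm] using hc x (Finset.mem_union_left _ (Finset.mem_union_right _ hm))
      have hb := hbT x (Finset.mem_union_right _ hm)
      simp only [vb, hm, if_true] at hb
      by_cases hia : Indep x.asIdeal (Fin.snoc s a)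
      · simp only [hia, if_true, sub_zero] at hb
        refine hia.congr fun i => ?_
        induction i using Fin.lastCases with
        | last => simpa using (formKer M x.asIdeal).neg_mem ((formKer M x.asIdeal).smul_mem c hb)
        | cast i => simp
      · simp only [hia, if_false] at hb
        set m := mz x with hmz
        have hms : Indep x.asIdeal (Fin.snoc s m) := by
          simp only [hmz, mz, dif_pos hm]; exact (hgrow x (hTzF x hm).2.1).choose_spec
        letI := Ideal.Quotient.field x.asIdeal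
        have key : ∀ y, Indep x.asIdeal (Fin.snoc s y) ↔
            (formKer M x.asIdeal).mkQ y ∉ Submodule.span (R ⧸ x.asIdeal) (Set.range fun i => (formKer M x.asIdeal).mkQ (s i)) := by
          intro y
          have hs' := (indep_iff_mkQ x.asIdeal s).2 (hz_ind W)
          rw [← indep_iff_mkQ]
          have e : (fun i => (formKer M x.asIdeal).mkQ ((Fin.snoc s y : Fin (h + 1) → M) i)) =
              Fin.snoc (fun i => (formKer M x.asIdeal).mkQ (s i)) ((formKer M x.asIdeal).mkQ y) := by
            funext i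
            induction i using Fin.lastCases <;> simp
          rw [e, linearIndependent_finSnoc]
          exact and_iff_right hs'
        rw [key] at hia hms ⊢
        rw [not_not] at hia
        intro hcon
        apply hms
        have e1 : (formKer M x.asIdeal).mkQ b = (formKer M x.asIdeal).mkQ m :=
          (Submodule.Quotient.eq _).2 hb
        have e2 : c • (formKer M x.asIdeal).mkQ b = (formKer M x.asIdeal).mkQ b := by
          rw [← sub_eq_zero]
          nth_rewrite 2 [← one_smul R ((formKer M x.asIdeal).mkQ b)]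
          rw [← sub_smul, ← map_smul, Submodule.mkQ_apply, Submodule.Quotient.mk_eq_zero]
          exact smul_top_le_formKer _ (Submodule.smul_mem_smul hc1 Submodule.mem_top)
        rw [map_add, map_smul, e2, e1] at hcon
        simpa using Submodule.sub_mem _ hcon hia
    have hbad : ∀ x, ¬ Indep x.asIdeal (Fin.snoc s (a + c • b)) → x ∈ F ∪ F₁ ∪ F₂ := by
      intro x hx
      refine hbF x fun hi => hx ?_
      have h2 := (indep_iff_mkQ x.asIdeal _).2 hi
      letI := Ideal.Quotient.field x.asIdeal
      have e : (fun i => (formKer M x.asIdeal).mkQ ((Fin.snoc (Fin.snoc s a : Fin (h + 1) → M) b : Fin (h + 2) → M) i)) =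
          Fin.snoc (Fin.snoc (fun i => (formKer M x.asIdeal).mkQ (s i)) ((formKer M x.asIdeal).mkQ a))
            ((formKer M x.asIdeal).mkQ b) := by
        funext i
        induction i using Fin.lastCases with
        | last => simp
        | cast i => induction i using Fin.lastCases <;> simp
      rw [e, linearIndependent_finSnoc, linearIndependent_finSnoc] at h2
      obtain ⟨⟨h3, h4⟩, h5⟩ := h2
      rw [← indep_iff_mkQ]
      have e' : (fun i => (formKer M x.asIdeal).mkQ ((Fin.snoc s (a + c • b) : Fin (h + 1) → M) i)) =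
          Fin.snoc (fun i => (formKer M x.asIdeal).mkQ (s i)) ((formKer M x.asIdeal).mkQ (a + c • b)) := by
        funext i
        induction i using Fin.lastCases <;> simp
      rw [e', linearIndependent_finSnoc]
      refine ⟨h3, fun hcon => ?_⟩
      rw [map_add, map_smul] at hcon
      by_cases hc0 : c ∈ x.asIdeal
      · apply h4
        have : c • (formKer M x.asIdeal).mkQ b = 0 := by
          rw [← map_smul, Submodule.mkQ_apply, Submodule.Quotient.mk_eq_zero]
          exact smul_top_le_formKer _ (Submodule.smul_mem_smul hc0 Submodule.mem_top)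
        rwa [this, add_zero] at hcon
      · apply h5
        have hne : Ideal.Quotient.mk x.asIdeal c ≠ 0 := by rwa [Ne, Ideal.Quotient.eq_zero_iff_mem]
        have hb' : Ideal.Quotient.mk x.asIdeal c • (formKer M x.asIdeal).mkQ b ∈
            Submodule.span (R ⧸ x.asIdeal) (Set.range (Fin.snoc (fun i => (formKer M x.asIdeal).mkQ (s i))
              ((formKer M x.asIdeal).mkQ a) : Fin (h + 1) → _)) := by
          have hle : Submodule.span (R ⧸ x.asIdeal) (Set.range fun i => (formKer M x.asIdeal).mkQ (s i)) ≤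
              Submodule.span (R ⧸ x.asIdeal) (Set.range (Fin.snoc (fun i => (formKer M x.asIdeal).mkQ (s i))
              ((formKer M x.asIdeal).mkQ a) : Fin (h + 1) → _)) :=
            Submodule.span_mono (by rintro _ ⟨i, rfl⟩; exact ⟨i.castSucc, by simp⟩)
          have ha : (formKer M x.asIdeal).mkQ a ∈ Submodule.span (R ⧸ x.asIdeal)
              (Set.range (Fin.snoc (fun i => (formKer M x.asIdeal).mkQ (s i))
              ((formKer M x.asIdeal).mkQ a) : Fin (h + 1) → _)) :=
            Submodule.subset_span ⟨Fin.last h, by simp⟩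
          exact (Submodule.add_mem_iff_right _ ha).1 (hle hcon)
        exact (Submodule.smul_mem_iff _ hne).1 hb'
    obtain ⟨S', hS'f, hS', hS'c⟩ := exists_pieces (isClosed_setOf_not_indep (Fin.snoc s (a + c • b))) F
    refine ⟨⋃ W ∈ S', (W : Set (MaximalSpectrum R)), isClosed_pieces hS'f, fun x hx => ?_, fun x hx => hS'c hx, ?_⟩
    · have hnz : x ∉ Tz := fun hh => (hTzF x hh).1 (hT x hx)
      have hc0 : c ∈ x.asIdeal := by simpa [hnz] using hc x (Finset.mem_union_left _ (Finset.mem_union_left _ hx))
      have := (formKer M x.asIdeal).sub_mem (haT x hx) (hsame x hc0)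
      convert this using 1
      abel
    · intro Z hZ
      obtain ⟨W, hW, hZW⟩ := subset_piece hS'f Z.isIrreducible hZ
      have hZW' : Z ≤ W := hZW
      refine le_trans ?_ (Order.coheight_anti hZW')
      obtain ⟨hWbad, hWF⟩ := hS' W hW
      have hWu : (W : Set (MaximalSpectrum R)) ⊆ F ∪ ((⋃ V ∈ S₁ ∪ S₂, (V : Set (MaximalSpectrum R)))) := by
        intro y hy
        rcases hbad y (hWbad hy) with (hh | hh) | hh
        · exact Or.inl hh
        · rcases hS₁c hh with h' | h'
          · exact Or.inl h'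
          · exact Or.inr (Set.biUnion_subset_biUnion_left Set.subset_union_left h')
        · rcases hS₂c hh with (h' | h') | h'
          · exact Or.inl h'
          · rcases hS₁c h' with h'' | h''
            · exact Or.inl h''
            · exact Or.inr (Set.biUnion_subset_biUnion_left Set.subset_union_left h'')
          · exact Or.inr (Set.biUnion_subset_biUnion_left Set.subset_union_right h')
      have hWu' : (W : Set (MaximalSpectrum R)) ⊆ ⋃ V ∈ S₁ ∪ S₂, (V : Set (MaximalSpectrum R)) := by
        rcases isPreirreducible_iff_isClosed_union_isClosed.1 W.isIrreducible.2 _ _ hF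
          (isClosed_pieces (hS₁f.union hS₂f)) hWu with h' | h'
        · exact absurd h' hWF
        · exact h'
      obtain ⟨V, hV, hWV⟩ := subset_piece (hS₁f.union hS₂f) W.isIrreducible hWu'
      have hlt : W < V := by
        refine lt_of_le_of_ne hWV ?_
        rintro rfl
        rcases hV with hV | hV
        · exact hWbad (hzW ⟨W, hV⟩) (hgood_z ⟨W, hV⟩)
        · exact hWbad (hwW ⟨W, hV⟩) (hgood_w ⟨W, hV⟩)
      have hk : (k : ℕ∞) ≤ Order.coheight V := by
        rcases hV with hV | hV
        · exact hF₁k V (hS₁ V hV).1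
        · exact hF₂k V (hS₂ V hV).1
      push_cast
      exact le_trans (by gcongr) (Order.coheight_add_one_le hlt)

end

end Groth.Calg3
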