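import Mathlib
import Groth.Agent.SGA7.TorSeq

/-! `Tor(Iⁿ M, N) → Tor(M, N)` vanishes for `n ≫ 0` uniformly in the degree when `I N = 0`. -/

set_option autoImplicit false

universe u

open CategoryTheory MonoidalCategory

namespace Groth.Calg3.TorPow

open Groth.SGA7.TorSeq

variable {A : Type u} [CommRing A] {N : ModuleCat.{u} A} (P : ProjectiveResolution N)

section

variable {X Y W V : Type u} [AddCommGroup X] [Module A X] [AddCommGroup Y] [Module A Y]
  [AddCommGroup W] [Module A W] [AddCommGroup V] [Module A V]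

/-- `g ⊗ P`. -/
noncomputable def tmap (g : X →ₗ[A] W) : tc (ModuleCat.of A X) P ⟶ tc (ModuleCat.of A W) P :=
  (NatTrans.mapHomologicalComplex ((tensoringLeft (ModuleCat.{u} A)).map (ModuleCat.ofHom g)) _).app P.complex

/-- `g` induces zero on all `Tor(-, N)`. -/
def Z (g : X →ₗ[A] W) : Prop := ∀ p, HomologicalComplex.homologyMap (tmap P g) p = 0

theorem tmap_comp (f : X →ₗ[A] Y) (g : Y →ₗ[A] W) : tmap P (g ∘ₗ f) = tmap P f ≫ tmap P g := by
  ext k : 1
  exact comp_whiskerRight (ModuleCat.ofHom f) (ModuleCat.ofHom g) (P.complex.X k)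

theorem Z.comp_left {f : X →ₗ[A] Y} (h : Z P f) (g : Y →ₗ[A] W) : Z P (g ∘ₗ f) := fun p => by
  rw [tmap_comp, HomologicalComplex.homologyMap_comp, h p, Limits.zero_comp]

theorem Z.comp_right (f : X →ₗ[A] Y) {g : Y →ₗ[A] W} (h : Z P g) : Z P (g ∘ₗ f) := fun p => by
  rw [tmap_comp, HomologicalComplex.homologyMap_comp, h p, Limits.comp_zero]

theorem Z_zero : Z P (0 : X →ₗ[A] W) := fun p => by
  have : tmap P (0 : X →ₗ[A] W) = 0 := by
    ext k : 1
    exact MonoidalPreadditive.zero_whiskerRight
  rw [this, HomologicalComplex.homologyMap_zero]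

theorem Z_smul (a : A) (ha : ∀ y : N, a • y = 0) (g : X →ₗ[A] W) : Z P (a • g) := fun p => by
  let F : ModuleCat.{u} A ⥤ ModuleCat.{u} A := (tensoringLeft (ModuleCat.{u} A)).obj (ModuleCat.of A W)
  have h1 : tmap P (a • g) = tmap P g ≫ (F.mapHomologicalComplex _).map (a • 𝟙 P.complex) := by
    ext k : 1
    change (a • ModuleCat.ofHom g) ▷ P.complex.X k =
      (ModuleCat.ofHom g ▷ P.complex.X k) ≫ (ModuleCat.of A W ◁ (a • 𝟙 (P.complex.X k)))
    rw [MonoidalLinear.whiskerLeft_smul, whiskerLeft_id, Linear.comp_smul, Category.comp_id,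
      MonoidalLinear.smul_whiskerRight]
  have h2 : (a • 𝟙 P.complex) ≫ P.π = 0 := by
    refine HomologicalComplex.to_single_hom_ext (ModuleCat.hom_ext (LinearMap.ext fun x => ?_))
    change P.π.f 0 (a • x) = 0
    rw [map_smul]
    exact ha _
  have h3 := (F.mapHomotopy (ProjectiveResolution.liftHomotopyZero (a • 𝟙 P.complex) h2)).homologyMap_eq p
  rw [h1, HomologicalComplex.homologyMap_comp, h3, Functor.map_zero, HomologicalComplex.homologyMap_zero,
    Limits.comp_zero]

theorem Z_of_subquotient (g : X →ₗ[A] Y) (h : Y →ₗ[A] W) (Y' : Submodule A Y)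
    (hQ : Z P (Y'.mkQ ∘ₗ g)) (hY : Z P (h ∘ₗ Y'.subtype)) : Z P (h ∘ₗ g) := by
  intro p
  let S : ShortComplex (ModuleCat.{u} A) := ShortComplex.mk (ModuleCat.ofHom Y'.subtype)
    (ModuleCat.ofHom Y'.mkQ) (ModuleCat.hom_ext (LinearMap.ext fun y =>
      (Submodule.Quotient.mk_eq_zero Y').mpr y.2))
  have hS : S.ShortExact :=
    { exact := (ShortComplex.moduleCat_exact_iff S).mpr fun y hy =>
        ⟨⟨y, (Submodule.Quotient.mk_eq_zero Y').mp hy⟩, rfl⟩
      mono_f := (ModuleCat.mono_iff_injective _).mpr Y'.injective_subtype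
      epi_g := (ModuleCat.epi_iff_surjective _).mpr Y'.mkQ_surjective }
  have he := ((shortExact_tsc hS P).homology_exact₂ p)
  rw [ShortComplex.moduleCat_exact_iff] at he
  rw [tmap_comp, HomologicalComplex.homologyMap_comp]
  refine ModuleCat.hom_ext (LinearMap.ext fun x => ?_)
  have h1 := hQ p
  rw [tmap_comp, HomologicalComplex.homologyMap_comp] at h1
  obtain ⟨y, hy⟩ := he (HomologicalComplex.homologyMap (tmap P g) p x)
    (LinearMap.congr_fun (congrArg ModuleCat.Hom.hom h1) x)
  have h2 := hY p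
  rw [tmap_comp, HomologicalComplex.homologyMap_comp] at h2
  refine Eq.trans ?_ (LinearMap.congr_fun (congrArg ModuleCat.Hom.hom h2) y)
  exact congrArg (fun z => HomologicalComplex.homologyMap (tmap P h) p z) hy.symm

end

/-- `Tor(Jⁿ M, N) → Tor(M, N)` is eventually zero. -/
def Eventually (J : Ideal A) (M : Type u) [AddCommGroup M] [Module A M] : Prop :=
  ∃ n : ℕ, Z P (J ^ n • ⊤ : Submodule A M).subtype

variable [IsNoetherianRing A]

theorem eventually_of_sub (J : Ideal A) (M : Type u) [AddCommGroup M] [Module A M] [Module.Finite A M]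
    (M' : Submodule A M) (b : A) (hb : ∀ x : M, b • x ∈ M')
    (hQ : ∀ (Q : Type u) [AddCommGroup Q] [Module A Q], Module.Finite A Q → (∀ q : Q, b • q = 0) → Eventually P J Q)
    (hM' : ∃ n, ∀ (Y' : Submodule A M) (hY : Y' ≤ M'), Y' ≤ J ^ n • ⊤ → Z P (M'.subtype ∘ₗ Submodule.inclusion hY)) :
    Eventually P J M := by
  obtain ⟨n, hn⟩ := hM'
  set Y : Submodule A M := J ^ n • ⊤
  haveI : IsNoetherian A M := isNoetherian_of_isNoetherianRing_of_finite A M
  let Y' : Submodule A Y := M'.comap Y.subtype
  obtain ⟨m, hm⟩ := hQ (Y ⧸ Y') inferInstance (fun q => by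
    obtain ⟨q, rfl⟩ := Submodule.Quotient.mk_surjective _ q
    rw [← Submodule.Quotient.mk_smul, Submodule.Quotient.mk_eq_zero]
    exact hb q)
  refine ⟨m + n, ?_⟩
  have hle : (J ^ (m + n) • ⊤ : Submodule A M) ≤ Y :=
    Submodule.smul_mono_left (Ideal.pow_le_pow_right (Nat.le_add_left n m))
  have h : Z P (Y.subtype ∘ₗ Submodule.inclusion hle) := by
    refine Z_of_subquotient P _ _ Y' ?_ ?_
    · have hmem : ∀ x, (Y'.mkQ ∘ₗ Submodule.inclusion hle) x ∈ (J ^ m • ⊤ : Submodule A (Y ⧸ Y')) := by
        intro x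
        have hx : (Submodule.inclusion hle x) ∈ (J ^ m • ⊤ : Submodule A Y) := by
          have : (x : M) ∈ (J ^ m • ⊤ : Submodule A Y).map Y.subtype := by
            rw [Submodule.map_smul'', Submodule.map_subtype_top, ← Submodule.mul_smul, ← pow_add]
            exact x.2
          obtain ⟨y, hy, hye⟩ := this
          rwa [show Submodule.inclusion hle x = y from Subtype.ext hye.symm]
        have := Submodule.mem_map_of_mem (f := Y'.mkQ) hx
        rw [Submodule.map_smul''] at this
        exact Submodule.smul_mono le_rfl le_top this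
      have := Z.comp_right P ((Y'.mkQ ∘ₗ Submodule.inclusion hle).codRestrict _ hmem) hm
      rwa [LinearMap.subtype_comp_codRestrict] at this
    · have hY' : Y'.map Y.subtype ≤ M' := Submodule.map_comap_le _ _
      have := Z.comp_right P (Y.subtype.submoduleMap Y') (hn _ hY' (Submodule.map_subtype_le _ _))
      exact this
  exact h

theorem eventually_of_killed (J : Ideal A) (a : A) (_ha : ∀ y : N, a • y = 0)
    (h1 : ∀ (Q : Type u) [AddCommGroup Q] [Module A Q], Module.Finite A Q → (∀ q : Q, a • q = 0) → Eventually P J Q) :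
    ∀ (k : ℕ) (M : Type u) [AddCommGroup M] [Module A M], Module.Finite A M → (∀ x : M, a ^ k • x = 0) →
      Eventually P J M := by
  intro k
  induction k with
  | zero =>
    intro M _ _ hM h
    exact h1 M hM fun x => by have := h x; rw [pow_zero, one_smul] at this; rw [this, smul_zero]
  | succ k ih =>
    intro M _ _ _ h
    haveI : IsNoetherian A M := isNoetherian_of_isNoetherianRing_of_finite A M
    let M' : Submodule A M := LinearMap.range (a • LinearMap.id : M →ₗ[A] M)
    refine eventually_of_sub P J M M' a (fun x => ⟨x, rfl⟩) h1 ?_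
    obtain ⟨n₀, hn₀⟩ := ih M' inferInstance (by
      rintro ⟨_, x, rfl⟩
      refine Subtype.ext ?_
      show a ^ k • (a • x) = 0
      rw [← mul_smul, ← pow_succ]
      exact h x)
    obtain ⟨c, hc⟩ := J.exists_pow_inf_eq_pow_smul M'
    refine ⟨n₀ + c, fun Y' hY hY2 => ?_⟩
    have hmem : ∀ y, Submodule.inclusion hY y ∈ (J ^ n₀ • ⊤ : Submodule A M') := fun y => by
      have : (y : M) ∈ J ^ (n₀ + c) • ⊤ ⊓ M' := ⟨hY2 y.2, hY y.2⟩
      rw [hc _ (Nat.le_add_left c n₀), Nat.add_sub_cancel] at this
      have h2 : (y : M) ∈ (J ^ n₀ • ⊤ : Submodule A M').map M'.subtype := by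
        rw [Submodule.map_smul'', Submodule.map_subtype_top]
        exact Submodule.smul_mono le_rfl inf_le_right this
      obtain ⟨z, hz, hze⟩ := h2
      rwa [show Submodule.inclusion hY y = z from Subtype.ext hze.symm]
    have := Z.comp_right P ((Submodule.inclusion hY).codRestrict _ hmem) hn₀
    rw [LinearMap.subtype_comp_codRestrict] at this
    exact this.comp_left P M'.subtype

theorem eventually (s : Finset A) (hs : ∀ a ∈ s, ∀ y : N, a • y = 0) :
    ∀ (M : Type u) [AddCommGroup M] [Module A M], Module.Finite A M →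
      Eventually P (Ideal.span (s : Set A)) M := by
  classical
  induction s using Finset.induction_on with
  | empty =>
    intro M _ _ _
    refine ⟨1, ?_⟩
    have h0 : (Ideal.span (((∅ : Finset A)) : Set A) ^ 1 • ⊤ : Submodule A M).subtype = 0 := by
      refine LinearMap.ext fun x => ?_
      have h := x.2
      simp only [Finset.coe_empty, Ideal.span_empty, pow_one, Submodule.bot_smul, Submodule.mem_bot] at h
      exact h
    rw [h0]
    exact Z_zero P
  | insert a s _ ih =>
    set J := Ideal.span ((insert a s : Finset A) : Set A) with hJ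
    have haJ : a ∈ J := Ideal.subset_span (Finset.mem_coe.mpr (Finset.mem_insert_self a s))
    have hanN := hs a (Finset.mem_insert_self a s)
    have hkill : ∀ (Q : Type u) [AddCommGroup Q] [Module A Q], Module.Finite A Q → (∀ q : Q, a • q = 0) →
        Eventually P J Q := by
      intro Q _ _ hQ hq
      obtain ⟨n, hn⟩ := ih (fun b hb => hs b (Finset.mem_insert_of_mem hb)) Q hQ
      refine ⟨n, ?_⟩
      have hJs : ∀ Y : Submodule A Q, J • Y = Ideal.span (s : Set A) • Y := fun Y => by
        rw [hJ, Finset.coe_insert, Ideal.span_insert, Submodule.sup_smul]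
        have : Ideal.span {a} • Y = ⊥ := by
          rw [eq_bot_iff, Submodule.smul_le]
          intro r hr y _
          obtain ⟨c, rfl⟩ := Ideal.mem_span_singleton'.mp hr
          rw [Submodule.mem_bot, mul_smul, hq, smul_zero]
        rw [this, bot_sup_eq]
      have : ∀ m : ℕ, (J ^ m • ⊤ : Submodule A Q) = Ideal.span (s : Set A) ^ m • ⊤ := by
        intro m
        induction m with
        | zero => simp
        | succ m ihm => rw [pow_succ', pow_succ', Submodule.mul_smul, Submodule.mul_smul, ihm, hJs]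
      rw [this n]
      exact hn
    intro M _ _ _
    haveI : IsNoetherian A M := isNoetherian_of_isNoetherianRing_of_finite A M
    let f : ℕ →o Submodule A M := ⟨fun i => LinearMap.ker (a ^ i • LinearMap.id : M →ₗ[A] M), by
      intro i j hij x hx
      obtain ⟨d, rfl⟩ := Nat.exists_eq_add_of_le hij
      simp only [LinearMap.mem_ker, LinearMap.smul_apply, LinearMap.id_apply] at hx ⊢
      rw [pow_add, mul_comm, mul_smul, hx, smul_zero]⟩
    obtain ⟨c, hc⟩ := monotone_stabilizes_iff_noetherian.mpr inferInstance f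
    let μ : M →ₗ[A] M := a ^ (c + 1) • LinearMap.id
    let M' : Submodule A M := LinearMap.range μ
    refine eventually_of_sub P J M M' (a ^ (c + 1)) (fun x => ⟨x, rfl⟩)
      (fun Q _ _ hQ hq => eventually_of_killed P J a hanN hkill (c + 1) Q hQ hq) ?_
    refine ⟨0, fun Y' hY _ => Z.comp_right P _ ?_⟩
    have hle : LinearMap.ker μ ≤ LinearMap.ker (a ^ c • LinearMap.id : M →ₗ[A] M) :=
      (hc (c + 1) (Nat.le_succ c)).ge
    let ψ : M' →ₗ[A] M :=
      (LinearMap.ker μ).liftQ _ hle ∘ₗ μ.quotKerEquivRange.symm.toLinearMap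
    have hψ : M'.subtype = a • ψ := by
      refine LinearMap.ext fun y => ?_
      obtain ⟨x, hx⟩ := y.2
      have hy : y = ⟨μ x, LinearMap.mem_range_self μ x⟩ := Subtype.ext hx.symm
      subst hy
      have : μ.quotKerEquivRange.symm ⟨μ x, LinearMap.mem_range_self μ x⟩ = Submodule.Quotient.mk x := by
        rw [LinearEquiv.symm_apply_eq]; rfl
      show μ x = a • (LinearMap.ker μ).liftQ _ hle (μ.quotKerEquivRange.symm ⟨μ x, _⟩)
      rw [this, Submodule.liftQ_apply]
      simp [μ, pow_succ', mul_smul]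
    rw [hψ]
    exact Z_smul P a hanN ψ

end Groth.Calg3.TorPow
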