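import Groth.Agent.Calg3.FibreAssTorsion
import Groth.Agent.S1191
import Groth.Agent.FlatMorOne.UnivInj
import Groth.Agent.FlatMorOne.FlatLocusModelFlat
import Mathlib

/-!
Weakly associated primes of `N ⊗ M` for a flat finitely presented `N` over a finitely presented algebra.
-/

set_option autoImplicit false

universe u

open TensorProduct

attribute [local instance] Algebra.TensorProduct.rightAlgebra

namespace Groth.Calg3.WeakAssTensor

/-- Near a minimal prime over an ideal, the prime is the radical of the ideal. -/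
theorem exists_notMem_mul_pow_mem {A : Type*} [CommRing A] {I q : Ideal A} (h : q ∈ I.minimalPrimes) {t : A}
    (ht : t ∈ q) : ∃ u ∉ q, ∃ k : ℕ, u * t ^ k ∈ I := by
  by_contra hno
  push Not at hno
  have := h.1.1
  have hdisj : Disjoint (I : Set A) (q.primeCompl ⊔ Submonoid.powers t : Submonoid A) := by
    rw [Set.disjoint_left]
    intro x hxI hx
    obtain ⟨u, hu, _, ⟨k, rfl⟩, rfl⟩ := Submonoid.mem_sup.mp hx
    exact hno u hu k hxI
  obtain ⟨P, hP, hIP, hPd⟩ := Ideal.exists_le_prime_disjoint I _ hdisj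
  have hPq : P ≤ q := fun x hx => by
    by_contra hxq
    exact Set.disjoint_left.mp hPd hx (Submonoid.mem_sup_left (T := Submonoid.powers t) hxq)
  exact Set.disjoint_left.mp hPd (h.2 ⟨hP, hIP⟩ hPq ht) (Submonoid.mem_sup_right (Submonoid.mem_powers t))

variable {R S : Type u} [CommRing R] [CommRing S] [Algebra R S] [Algebra.FinitePresentation R S]
  (N : Type u) [AddCommGroup N] [Module S N] [Module R N] [IsScalarTower R S N] [Module.FinitePresentation S N]
  (M : Type u) [AddCommGroup M] [Module R M]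
  (p : Ideal R) [p.IsPrime] (q : Ideal S) [q.IsPrime] [q.LiesOver p]

omit [Algebra.FinitePresentation R S] in
/-- The fibre ideal of `q` contracts to `q`. -/
theorem comap_fiberIdeal : (FlatCA.fiberIdeal p q).comap (algebraMap S (p.Fiber S)) = q := by
  let F := p.Fiber S
  obtain ⟨Q, hQ⟩ : ∃ Q : PrimeSpectrum F, Q.asIdeal.comap (algebraMap S F) = q :=
    ⟨PrimeSpectrum.preimageEquivFiber R S ⟨p, inferInstance⟩ ⟨⟨q, inferInstance⟩,
        PrimeSpectrum.ext (Ideal.LiesOver.over (p := p) (P := q)).symm⟩,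
      congrArg (fun z => z.1.asIdeal) ((PrimeSpectrum.preimageEquivFiber R S ⟨p, inferInstance⟩).symm_apply_apply _)⟩
  conv_lhs => rw [← hQ, Groth.RaynaudGruson.fiberIdeal_comap]
  exact hQ

variable [Module.Flat R N]

/-- A weakly associated prime of `N ⊗ M` is an associated point of its fibre. -/
theorem fiberIdeal_mem_associatedPrimes (hq : q ∈ FlatCA.weakAss S (N ⊗[R] M)) :
    FlatCA.fiberIdeal p q ∈ associatedPrimes (p.Fiber S) (FlatCA.fiberMod p S N) := by
  obtain ⟨z, hz⟩ := hq
  by_contra hno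
  let F := p.Fiber S
  have : Module.Finite F (FlatCA.fiberMod p S N) := inferInstanceAs (Module.Finite F (F ⊗[S] N))
  let A : Set (Ideal F) :=
    {P | P ∈ associatedPrimes F (FlatCA.fiberMod p S N) ∧ P.comap (algebraMap S F) ≤ q}
  obtain ⟨t, htq, ht⟩ : ∃ t ∈ q, ∀ P ∈ A, t ∉ P.comap (algebraMap S F) := by
    by_contra hno'
    push Not at hno'
    have hcover : (q : Set S) ⊆ ⋃ P ∈ A, ((P.comap (algebraMap S F) : Ideal S) : Set S) := fun i hi => by
      obtain ⟨P, hP, hiP⟩ := hno' i hi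
      exact Set.mem_biUnion hP hiP
    obtain ⟨P, hP, hle⟩ := (q.subset_union_prime_finite
      ((associatedPrimes.finite F (FlatCA.fiberMod p S N)).subset fun P hP => hP.1 : A.Finite)
      (f := fun P => P.comap (algebraMap S F)) ⊥ ⊥ fun P hP _ _ => hP.1.isPrime.comap _).1 hcover
    refine hno ?_
    rw [← le_antisymm hP.2 hle, Groth.RaynaudGruson.fiberIdeal_comap]
    exact hP.1
  obtain ⟨u, hu, k, hk⟩ := exists_notMem_mul_pow_mem hz htq
  rw [Submodule.mem_annihilator_span_singleton, mul_comm, mul_smul] at hk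
  obtain ⟨u', hu', hk'⟩ := Groth.Calg3.FibreAssTorsion.exists_notMem_smul_eq_zero N p q (t ^ k)
    (fun P hP hPq hm => ht P ⟨hP, hPq⟩ ((hP.isPrime.comap _).mem_of_pow_mem k hm)) M (u • z) hk
  rw [← mul_smul] at hk'
  exact (Ideal.IsPrime.mem_or_mem ‹q.IsPrime›
    (hz.1.2 ((Submodule.mem_annihilator_span_singleton _ _).mpr hk'))).elim hu' hu

/-- The converse: an associated point of the fibre over a weakly associated prime of `M`. -/
theorem mem_weakAss_tensor (hp : p ∈ FlatCA.weakAss R M)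
    (hQ : FlatCA.fiberIdeal p q ∈ associatedPrimes (p.Fiber S) (FlatCA.fiberMod p S N)) :
    q ∈ FlatCA.weakAss S (N ⊗[R] M) := by
  classical
  let F := p.Fiber S
  let fm := FlatCA.fiberMod p S N
  let Q := FlatCA.fiberIdeal p q
  -- an element of `N` whose image in the fibre has annihilator `Q`
  obtain ⟨-, x, hx⟩ := Groth.Calg5.mem_ass_iff.mp (Groth.RaynaudGruson.mem_ass_of_mem_associatedPrimes hQ)
  obtain ⟨d, hd, y, hy⟩ : ∃ d : R, d ∉ p ∧ ∃ y : N, algebraMap R S d • x = FlatCA.toFiberMod p S N y := by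
    suffices ∀ x : F ⊗[S] N, ∃ d : R, d ∉ p ∧ ∃ y : N, algebraMap R S d • x = (1 : F) ⊗ₜ[S] y from this x
    intro x
    induction x with
    | zero => exact ⟨1, fun h => ‹p.IsPrime›.ne_top ((Ideal.eq_top_iff_one p).mpr h), 0, by simp⟩
    | tmul a n =>
      obtain ⟨d, hd, s, hs⟩ := Groth.Calg5.exists_smul_eq_algebraMap p a
      refine ⟨d, hd, s • n, ?_⟩
      rw [TensorProduct.smul_tmul', hs, TensorProduct.tmul_smul, TensorProduct.smul_tmul', Algebra.smul_def, mul_one]
    | add a b ha hb =>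
      obtain ⟨d, hd, y, hy⟩ := ha
      obtain ⟨d', hd', y', hy'⟩ := hb
      refine ⟨d * d', ‹p.IsPrime›.mul_notMem hd hd', algebraMap R S d' • y + algebraMap R S d • y', ?_⟩
      rw [map_mul, smul_add, mul_comm (algebraMap R S d), mul_smul, hy, mul_comm (algebraMap R S d'), mul_smul, hy',
        TensorProduct.tmul_add, TensorProduct.tmul_smul, TensorProduct.tmul_smul]
  have hdu : IsUnit (algebraMap S F (algebraMap R S d)) := Groth.Calg5.isUnit_algebraMap_fiber (S := S) p hd
  have hann : ∀ s : S, s • FlatCA.toFiberMod p S N y = 0 ↔ s ∈ q := by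
    intro s
    have h1 : s • FlatCA.toFiberMod p S N y = (algebraMap S F (s * algebraMap R S d)) • x := by
      rw [← hy, ← mul_smul, algebraMap_smul]
    rw [h1, ← hx, map_mul, Ideal.mul_unit_mem_iff_mem _ hdu, ← Ideal.mem_comap, comap_fiberIdeal p q]
  -- generators of `Q` and the coefficient ideal
  have hpq : ∀ r ∈ p, algebraMap R S r ∈ q := fun r hr => (Ideal.LiesOver.over (p := p) (P := q)).le hr
  have hqp : ∀ r : R, algebraMap R S r ∈ q → r ∈ p := fun r hr => (Ideal.LiesOver.over (p := p) (P := q)).ge hr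
  obtain ⟨G, hG⟩ : Q.FG := IsNoetherian.noetherian _
  choose dg hdg sg hsg using fun g : F => Groth.Calg5.exists_smul_eq_algebraMap (S := S) p g
  have hsgq : ∀ g ∈ G, sg g ∈ q := fun g hg => by
    rw [← comap_fiberIdeal p q, Ideal.mem_comap, ← hsg g]
    exact Submodule.smul_of_tower_mem _ _ (hG.le (Ideal.subset_span hg))
  have hmem : ∀ g ∈ G, ∃ c : R, c ∉ p ∧ c • sg g • y ∈ p • (⊤ : Submodule R N) := fun g hg =>
    Groth.Calg3.FibreAssTorsion.exists_smul_mem_of_toFiberMod_eq_zero N p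
      (((FlatCA.toFiberMod p S N).map_smul (sg g) y).trans ((hann _).mpr (hsgq g hg)))
  choose! c hc hcy using hmem
  have hfin : ∀ g ∈ G, ∃ J : Ideal R, J.FG ∧ J ≤ p ∧ c g • sg g • y ∈ J • (⊤ : Submodule R N) := fun g hg => by
    refine Submodule.smul_induction_on (hcy g hg) (fun r hr n _ => ?_) fun a b ⟨J, hJ, hJp, ha⟩ ⟨J', hJ', hJp', hb⟩ => ?_
    · exact ⟨Ideal.span {r}, ⟨{r}, by simp⟩, (Ideal.span_singleton_le_iff_mem p).mpr hr,
        Submodule.smul_mem_smul (Ideal.mem_span_singleton_self r) trivial⟩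
    · exact ⟨J ⊔ J', Submodule.FG.sup hJ hJ', sup_le hJp hJp', add_mem (Submodule.smul_mono_left le_sup_left ha)
        (Submodule.smul_mono_left le_sup_right hb)⟩
  choose! J hJfg hJp hJy using hfin
  let JJ : Ideal R := G.sup J
  have hJJfg : JJ.FG := Submodule.fg_finset_sup G J hJfg
  have hJJp : JJ ≤ p := Finset.sup_le hJp
  -- an element of `M` killed by the coefficient ideal
  obtain ⟨m, hm⟩ := hp
  let I0 := (Submodule.span R {m}).annihilator
  have hnil : ∃ k : ℕ, ∃ c₀ : R, c₀ ∉ p ∧ ∀ r ∈ JJ ^ k, c₀ • r • m = 0 := by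
    obtain ⟨T, hT⟩ := hJJfg
    have hr : ∀ r ∈ T, ∃ u ∉ p, ∃ k : ℕ, u * r ^ k ∈ I0 := fun r hr =>
      exists_notMem_mul_pow_mem hm (hJJp (hT ▸ Submodule.subset_span hr))
    choose! v hv e he using hr
    let K : Ideal R := {
      carrier := {r | (∏ r' ∈ T, v r') * r ∈ I0}
      add_mem' := fun {a b} ha hb => by
        change (∏ r' ∈ T, v r') * (a + b) ∈ I0
        rw [mul_add]; exact add_mem ha hb
      zero_mem' := by simp
      smul_mem' := fun a b hb => by
        change (∏ r' ∈ T, v r') * (a * b) ∈ I0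
        rw [mul_left_comm]; exact Ideal.mul_mem_left _ _ hb }
    have hle : JJ ≤ K.radical := by
      rw [← hT]
      refine Submodule.span_le.mpr fun r hr => ⟨e r, ?_⟩
      change (∏ r' ∈ T, v r') * r ^ e r ∈ I0
      rw [← Finset.prod_erase_mul T v hr, mul_assoc]
      exact Ideal.mul_mem_left _ _ (he r hr)
    obtain ⟨k, hk⟩ := Ideal.exists_pow_le_of_le_radical_of_fg hle ⟨T, hT⟩
    refine ⟨k, ∏ r' ∈ T, v r', fun h' => ?_, fun r hr => ?_⟩
    · obtain ⟨r', hr', hv'⟩ := Ideal.IsPrime.prod_mem_iff.mp h'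
      exact hv r' hr' hv'
    · rw [← mul_smul]
      exact (Submodule.mem_annihilator_span_singleton _ _).mp (hk hr)
  obtain ⟨c₀, hc₀, hk0⟩ := Nat.find_spec hnil
  have hk1 : Nat.find hnil ≠ 0 := fun h0 => by
    rw [h0, pow_zero, Ideal.one_eq_top] at hk0
    have h1 : c₀ ∈ I0 := (Submodule.mem_annihilator_span_singleton _ _).mpr (by simpa using hk0 1 trivial)
    exact hc₀ (hm.1.2 h1)
  obtain ⟨k', hk'⟩ : ∃ k', Nat.find hnil = k' + 1 := ⟨Nat.find hnil - 1, by omega⟩
  obtain ⟨a, haJ, ha⟩ : ∃ a ∈ JJ ^ k', ∀ c' : R, c' ∉ p → c' • a • m ≠ 0 := by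
    by_contra hno
    push Not at hno
    obtain ⟨T, hT⟩ : (JJ ^ k').FG := hJJfg.pow
    choose! v hv hv0 using fun a (ha : a ∈ T) => hno a (hT ▸ Submodule.subset_span ha)
    refine Nat.find_min hnil (show k' < Nat.find hnil by omega) ⟨∏ r' ∈ T, v r', fun h' => ?_, fun r hr => ?_⟩
    · obtain ⟨r', hr', hv'⟩ := Ideal.IsPrime.prod_mem_iff.mp h'
      exact hv r' hr' hv'
    · rw [← hT] at hr
      induction hr using Submodule.span_induction with
      | mem r hr => rw [← Finset.prod_erase_mul T v hr, mul_smul, hv0 r hr, smul_zero]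
      | zero => simp
      | add a b _ _ ha hb => rw [add_smul, smul_add, ha, hb, add_zero]
      | smul a b _ hb => rw [smul_eq_mul, mul_smul, smul_comm, hb, smul_zero]
  let m' := c₀ • a • m
  have hm' : ∀ c' : R, c' • m' = 0 → c' ∈ p := fun c' hc' => by
    by_contra hn
    refine ha (c' * c₀) (‹p.IsPrime›.mul_notMem hn hc₀) ?_
    rw [mul_smul]; exact hc'
  have hkill : ∀ b ∈ JJ, b • m' = 0 := fun b hb => by
    change b • c₀ • a • m = 0
    rw [smul_comm, ← mul_smul b a]
    refine hk0 _ ?_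
    rw [hk', pow_succ, mul_comm b a]
    exact Ideal.mul_mem_mul haJ hb
  let z : N ⊗[R] M := y ⊗ₜ[R] m'
  have hzero : ∀ (K : Ideal R), (∀ b ∈ K, b • m' = 0) → ∀ n ∈ K • (⊤ : Submodule R N), n ⊗ₜ[R] m' = (0 : N ⊗[R] M) := by
    intro K hK n hn
    refine Submodule.smul_induction_on hn (fun r hr n' _ => ?_) fun u w hu hw => by rw [add_tmul, hu, hw, add_zero]
    rw [TensorProduct.smul_tmul, hK r hr, TensorProduct.tmul_zero]
  refine ⟨z, ⟨inferInstance, fun s hs => ?_⟩, fun q' hq' hle => ?_⟩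
  · -- the annihilator is inside `q`
    rw [Submodule.mem_annihilator_span_singleton] at hs
    let I' : Ideal R := LinearMap.ker (LinearMap.toSpanSingleton R M m')
    let g : (R ⧸ I') →ₗ[R] M := Submodule.liftQ I' (LinearMap.toSpanSingleton R M m') le_rfl
    have hg : Function.Injective g := LinearMap.ker_eq_bot.mp (Submodule.ker_liftQ_eq_bot _ _ _ le_rfl)
    have h1 : (s • y) ⊗ₜ[R] (Ideal.Quotient.mk I' 1) = (0 : N ⊗[R] (R ⧸ I')) := by
      refine Module.Flat.lTensor_preserves_injective_linearMap (M := N) g hg ?_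
      rw [LinearMap.lTensor_tmul, map_zero]
      change (s • y) ⊗ₜ[R] ((1 : R) • m') = 0
      rw [one_smul, ← TensorProduct.smul_tmul']
      exact hs
    have h2 := congrArg (TensorProduct.tensorQuotEquivQuotSMul N I') h1
    rw [map_zero, TensorProduct.tensorQuotEquivQuotSMul_tmul_mk, one_smul, Submodule.Quotient.mk_eq_zero] at h2
    have h3 := Groth.Calg3.FibreAssTorsion.toFiberMod_eq_zero_of_mem (S := S) N p
      (Submodule.smul_mono_left (show I' ≤ p from fun b hb => hm' b hb) h2)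
    rw [map_smul] at h3
    exact (hann s).mp h3
  · -- minimality
    obtain ⟨hq'p, hq'z⟩ := hq'
    have hR : ∀ r ∈ p, algebraMap R S r ∈ q' := fun r hr => by
      obtain ⟨u, hu, k, hk⟩ := exists_notMem_mul_pow_mem hm hr
      rw [Submodule.mem_annihilator_span_singleton] at hk
      have h1 : algebraMap R S u * algebraMap R S r ^ k ∈ q' := by
        refine hq'z ((Submodule.mem_annihilator_span_singleton _ _).mpr ?_)
        rw [← map_pow, ← map_mul, algebraMap_smul]
        change (u * r ^ k) • (y ⊗ₜ[R] m') = 0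
        rw [← TensorProduct.tmul_smul, show (u * r ^ k) • m' = c₀ • a • ((u * r ^ k) • m) by
          change (u * r ^ k) • c₀ • a • m = _
          rw [smul_comm _ c₀, smul_comm _ a], hk, smul_zero, smul_zero, TensorProduct.tmul_zero]
      exact (hq'p.mem_or_mem h1).elim (fun h' => absurd (hqp u (hle h')) hu) fun h' => hq'p.mem_of_pow_mem k h'
    have hS : ∀ g ∈ G, sg g ∈ q' := fun g hg => by
      have h1 : algebraMap R S (c g) * sg g ∈ q' := by
        refine hq'z ((Submodule.mem_annihilator_span_singleton _ _).mpr ?_)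
        rw [mul_smul, algebraMap_smul]
        change c g • sg g • (y ⊗ₜ[R] m') = 0
        rw [TensorProduct.smul_tmul', TensorProduct.smul_tmul']
        exact hzero JJ hkill _ (Submodule.smul_mono_left (Finset.le_sup hg) (hJy g hg))
      exact (hq'p.mem_or_mem h1).elim (fun h' => absurd (hqp _ (hle h')) (hc g hg)) id
    intro s hs
    have hQ' : Q ≤ q'.map (algebraMap S F) := by
      rw [← hG]
      refine Ideal.span_le.mpr fun g hg => ?_
      have hu := Groth.Calg5.isUnit_algebraMap_fiber (S := S) p (hdg g)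
      have h2 : algebraMap S F (algebraMap R S (dg g)) * g ∈ q'.map (algebraMap S F) := by
        rw [← Algebra.smul_def, hsg g]
        exact Ideal.mem_map_of_mem _ (hS g hg)
      exact (Ideal.unit_mul_mem_iff_mem _ hu).mp h2
    have : q'.LiesOver p := ⟨le_antisymm hR fun r hr => hqp r (hle hr)⟩
    rw [← comap_fiberIdeal p q']
    exact hQ' (Ideal.mem_map_of_mem _ hs)

end Groth.Calg3.WeakAssTensor
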