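import Groth.Agent.Calg3.WeakAssTensor

/-!
A weakly associated prime of `N ⊗ M` lies over a weakly associated prime of `M`.
-/

set_option autoImplicit false

universe u

open TensorProduct

attribute [local instance] Algebra.TensorProduct.rightAlgebra

namespace Groth.Calg3.WeakAssTensor

open Groth.FlatMorOne

/-- Flatness: a tensor killed by finitely many scalars comes from the submodule they kill. -/
theorem mem_range_lTensor_of_smul_eq_zero {P : Type*} [CommRing P] (Q : Type*) [AddCommGroup Q] [Module P Q]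
    [Module.Flat P Q] {M' : Type*} [AddCommGroup M'] [Module P M'] {G : Type*} [Fintype G] [DecidableEq G]
    (c : G → P) (x : Q ⊗[P] M') (hx : ∀ a, c a • x = 0) :
    x ∈ LinearMap.range
      ((LinearMap.ker (LinearMap.pi fun a => c a • (LinearMap.id : M' →ₗ[P] M'))).subtype.lTensor Q) := by
  let π : M' →ₗ[P] (G → M') := LinearMap.pi fun a => c a • LinearMap.id
  refine ((Module.Flat.lTensor_exact Q (LinearMap.exact_subtype_ker_map π)) x).mp ?_
  apply (TensorProduct.piRight P P Q fun _ : G => M').injective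
  rw [map_zero]
  funext a
  have h1 : ∀ w : Q ⊗[P] M', TensorProduct.piRight P P Q (fun _ : G => M') (π.lTensor Q w) a = c a • w := by
    intro w
    induction w with
    | zero => simp
    | tmul x m => simp [π, TensorProduct.tmul_smul]
    | add u v hu hv => rw [map_add, map_add, Pi.add_apply, hu, hv, smul_add]
  rw [h1, hx a]
  rfl

variable {R S : Type u} [CommRing R] [CommRing S] [Algebra R S] [Algebra.FinitePresentation R S]
  (N : Type u) [AddCommGroup N] [Module S N] [Module R N] [IsScalarTower R S N] [Module.FinitePresentation S N]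
  [Module.Flat R N] (M : Type u) [AddCommGroup M] [Module R M]
  (p : Ideal R) [p.IsPrime] (q : Ideal S) [q.IsPrime] [q.LiesOver p]

omit [Algebra.FinitePresentation R S] [Module.FinitePresentation S N] [Module.Flat R N] in
/-- The natural identification of the fibre module with `N ⊗ κ(p)` is `S`-linear. -/
theorem exists_fiberMod_equiv :
    ∃ ρ : FlatCA.fiberMod p S N ≃+ N ⊗[R] p.ResidueField, ∀ (s : S) (x : FlatCA.fiberMod p S N),
      ρ (s • x) = s • ρ x := by
  let κ := p.ResidueField
  let F := p.Fiber S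
  let ρ : (F ⊗[S] N) ≃ₗ[κ] κ ⊗[R] N := Algebra.IsPushout.cancelBaseChange R κ S F N
  let ρ' : (F ⊗[S] N) ≃+ N ⊗[R] κ := ρ.toAddEquiv.trans (TensorProduct.comm R κ N).toAddEquiv
  refine ⟨ρ', fun s x => ?_⟩
  change F ⊗[S] N at x
  change ρ' (s • x) = s • ρ' x
  induction x using TensorProduct.induction_on with
  | zero => rw [smul_zero, map_zero, smul_zero]
  | tmul a n =>
    induction a using TensorProduct.induction_on with
    | zero => rw [TensorProduct.zero_tmul, smul_zero, map_zero, smul_zero]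
    | tmul c b =>
      have hcb : (c ⊗ₜ[R] b : F) = c • (b • (1 : F)) := by
        rw [Algebra.smul_def, Algebra.smul_def, mul_one, Algebra.TensorProduct.algebraMap_apply,
          Algebra.TensorProduct.right_algebraMap_apply, Algebra.TensorProduct.tmul_mul_tmul]
        simp
      have h1 : ∀ n' : N, ρ' ((c • (1 : F)) ⊗ₜ[S] n') = n' ⊗ₜ[R] c := fun n' => by
        change TensorProduct.comm R κ N (ρ ((c • (1 : F)) ⊗ₜ[S] n')) = _
        rw [← TensorProduct.smul_tmul', map_smul, Algebra.IsPushout.cancelBaseChange_tmul,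
          TensorProduct.smul_tmul', smul_eq_mul, mul_one, TensorProduct.comm_tmul]
      have h2 : ∀ n' : N, ((c ⊗ₜ[R] b : F) ⊗ₜ[S] n') = (c • (1 : F)) ⊗ₜ[S] (b • n') := fun n' => by
        rw [hcb, TensorProduct.tmul_smul, TensorProduct.smul_tmul', smul_comm]
      rw [← TensorProduct.tmul_smul, h2, h2, h1, h1, TensorProduct.smul_tmul', smul_comm]
    | add x y hx hy => rw [TensorProduct.add_tmul, smul_add, map_add, hx, hy, map_add, smul_add]
  | add x y hx hy => rw [smul_add, map_add, hx, hy, map_add, smul_add]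

omit [Module.Flat R N] in
/-- If `u ∉ q` kills an element of the fibre, some element of a stage containing `g` outside the prime does. -/
theorem exists_stage_kill {S1 : Type u} [CommRing S1] (g : S) (hgq : g ∉ q)
    (hg : ∀ P ∈ associatedPrimes (p.Fiber S) (FlatCA.fiberMod p S N), ¬ P ≤ FlatCA.fiberIdeal p q →
      algebraMap S (p.Fiber S) g ∈ P)
    (σ : S1 →+* S) (y : S1) (hy : σ y = g) (z : N ⊗[R] p.ResidueField) (u : S) (huq : u ∉ q) (hu : u • z = 0) :
    ∃ s' : S1, s' ∉ q.comap σ ∧ σ s' • z = 0 := by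
  classical
  by_contra hno
  push Not at hno
  let F := p.Fiber S
  let fm := FlatCA.fiberMod p S N
  have : IsScalarTower S F fm := inferInstanceAs (IsScalarTower S F (F ⊗[S] N))
  have : Module.Finite F fm := inferInstanceAs (Module.Finite F (F ⊗[S] N))
  obtain ⟨ρ', hρ'⟩ := exists_fiberMod_equiv (S := S) N p
  let yF : fm := ρ'.symm z
  have hyF : ∀ s : S, s • yF = 0 ↔ s • z = 0 := fun s => by
    rw [← ρ'.map_eq_zero_iff, hρ', AddEquiv.apply_symm_apply]
  let K : Ideal F := LinearMap.ker (LinearMap.toSpanSingleton F fm yF)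
  let T : Submonoid F := (q.comap σ).primeCompl.map ((algebraMap S F).comp σ)
  have hdisj : Disjoint (K : Set F) T := by
    rw [Set.disjoint_left]
    rintro _ hK ⟨s', hs', rfl⟩
    refine hno s' hs' ((hyF _).mp ?_)
    have h1 : algebraMap S F (σ s') • yF = 0 := hK
    rwa [algebraMap_smul] at h1
  obtain ⟨P', hP', hKP, hPd⟩ := Ideal.exists_le_prime_disjoint K _ hdisj
  obtain ⟨P, hP, hPP⟩ := Ideal.exists_minimalPrimes_le hKP
  have hPass : P ∈ associatedPrimes F fm := by
    let Y : Submodule F fm := Submodule.span F {yF}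
    refine associatedPrimes.subset_of_injective (f := Y.subtype) Y.injective_subtype ?_
    refine Module.associatedPrimes.minimalPrimes_annihilator_subset_associatedPrimes F Y ?_
    have hY : Module.annihilator F Y = K := by
      ext a
      rw [← Submodule.annihilator, Submodule.mem_annihilator_span_singleton]
      rfl
    rw [hY]
    exact hP
  have hPQ : P ≤ FlatCA.fiberIdeal p q := by
    by_contra hc
    refine Set.disjoint_left.mp hPd (hPP (hg P hPass hc)) ⟨y, ?_, ?_⟩
    · change σ y ∉ q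
      rw [hy]; exact hgq
    · change algebraMap S F (σ y) = _
      rw [hy]
  refine huq ?_
  rw [← comap_fiberIdeal p q]
  refine hPQ (hP.1.2 ?_)
  change algebraMap S F u • yF = 0
  rw [algebraMap_smul]
  exact (hyF u).mpr hu

set_option synthInstance.maxHeartbeats 200000 in
omit [Module.Flat R N] in
/-- A localized stage maps injectively after tensoring with the residue field. -/
theorem stage_injective {A S1 N1 : Type u} [CommRing A] [Algebra A R] [CommRing S1] [Algebra A S1]
    [AddCommGroup N1] [Module A N1] [Module S1 N1] [IsScalarTower A S1 N1] [Module A N] [IsScalarTower A R N]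
    (g : S) (hgq : g ∉ q)
    (hg : ∀ P ∈ associatedPrimes (p.Fiber S) (FlatCA.fiberMod p S N), ¬ P ≤ FlatCA.fiberIdeal p q →
      algebraMap S (p.Fiber S) g ∈ P)
    (β : N1 →ₗ[A] N) (hβ : IsBaseChange R β) (σ : S1 →+* S) (hβs : ∀ (s : S1) (n : N1), β (s • n) = σ s • β n)
    (y : S1) (hy : σ y = g)
    (ψ : LocalizedModule (q.comap σ).primeCompl N1 →+ LocalizedModule q.primeCompl N)
    (hψA : ∀ (a : A) (l), ψ (a • l) = algebraMap A R a • ψ l) (hψs : ∀ (s : S1) (l), ψ (s • l) = σ s • ψ l)
    (hψ : ∀ n, ψ (LocalizedModule.mkLinearMap _ N1 n) = LocalizedModule.mkLinearMap q.primeCompl N (β n))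
    (w : LocalizedModule (q.comap σ).primeCompl N1 ⊗[A] p.ResidueField)
    (hw : ∀ (Ψ : LocalizedModule (q.comap σ).primeCompl N1 ⊗[A] p.ResidueField →+
        LocalizedModule q.primeCompl N ⊗[R] p.ResidueField), (∀ l c, Ψ (l ⊗ₜ c) = ψ l ⊗ₜ c) → Ψ w = 0) :
    w = 0 := by
  classical
  let κ := p.ResidueField
  let q1 : Ideal S1 := q.comap σ
  let L := LocalizedModule q1.primeCompl N1
  let Nq := LocalizedModule q.primeCompl N
  let Ψ : L ⊗[A] κ →+ Nq ⊗[R] κ := TensorProduct.liftAddHom
    { toFun := fun l =>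
        { toFun := fun c => ψ l ⊗ₜ[R] c
          map_zero' := TensorProduct.tmul_zero _ _
          map_add' := fun _ _ => TensorProduct.tmul_add _ _ _ }
      map_zero' := by
        ext c
        change ψ 0 ⊗ₜ[R] c = 0
        rw [map_zero, zero_tmul]
      map_add' := fun l l' => by
        ext c
        change ψ (l + l') ⊗ₜ[R] c = ψ l ⊗ₜ[R] c + ψ l' ⊗ₜ[R] c
        rw [map_add, add_tmul] }
    fun a l c => by
      change ψ (a • l) ⊗ₜ[R] c = ψ l ⊗ₜ[R] (a • c)
      rw [hψA, TensorProduct.smul_tmul, algebraMap_smul]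
  have hΨw : Ψ w = 0 := hw Ψ fun _ _ => rfl
  let e := hβ.equiv
  let E : N1 ⊗[A] κ ≃+ N ⊗[R] κ :=
    (((TensorProduct.comm A N1 κ).toAddEquiv.trans (AlgebraTensorModule.cancelBaseChange A R κ κ N1).symm.toAddEquiv).trans
      (TensorProduct.congr (LinearEquiv.refl R κ) e).toAddEquiv).trans (TensorProduct.comm R κ N).toAddEquiv
  have hE : ∀ n c, E (n ⊗ₜ c) = β n ⊗ₜ[R] c := fun n c => by
    change e ((1 : R) ⊗ₜ[A] n) ⊗ₜ[R] c = β n ⊗ₜ[R] c
    rw [IsBaseChange.equiv_tmul, one_smul]
  have hEs : ∀ (s : S1) (x : N1 ⊗[A] κ), E (s • x) = σ s • E x := by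
    intro s x
    induction x with
    | zero => simp
    | tmul n c => rw [TensorProduct.smul_tmul', hE, hE, TensorProduct.smul_tmul', hβs]
    | add a b ha hb => rw [smul_add, map_add, map_add, ha, hb, smul_add]
  have hΨs : ∀ (s : S1) (x : L ⊗[A] κ), Ψ (s • x) = σ s • Ψ x := by
    intro s x
    induction x with
    | zero => simp
    | tmul n c =>
      rw [TensorProduct.smul_tmul']
      change ψ (s • n) ⊗ₜ[R] c = σ s • (ψ n ⊗ₜ[R] c)
      rw [TensorProduct.smul_tmul', hψs]
    | add a b ha hb => rw [smul_add, map_add, map_add, ha, hb, smul_add]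
  let ιN := AlgebraTensorModule.rTensor R κ (LocalizedModule.mkLinearMap q.primeCompl N)
  let ιL := AlgebraTensorModule.rTensor A κ (LocalizedModule.mkLinearMap q1.primeCompl N1)
  have hι : ∀ x, ιN (E x) = Ψ (ιL x) := by
    intro x
    induction x with
    | zero => simp
    | tmul n c =>
      rw [hE]
      change LocalizedModule.mkLinearMap q.primeCompl N (β n) ⊗ₜ[R] c = ψ _ ⊗ₜ[R] c
      rw [← hψ]
    | add a b ha hb => rw [map_add, map_add, map_add, map_add, ha, hb]
  obtain ⟨⟨w0, s⟩, hws⟩ := IsLocalizedModule.surj q1.primeCompl ιL w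
  have h0 : ιN (E w0) = 0 := by
    rw [hι, ← hws]
    change Ψ ((s : S1) • w) = 0
    rw [hΨs, hΨw, smul_zero]
  obtain ⟨⟨u, huq⟩, hu⟩ := (IsLocalizedModule.eq_zero_iff q.primeCompl ιN).mp h0
  obtain ⟨s', hs'q, hs'⟩ := exists_stage_kill N p q g hgq hg σ y hy (E w0) u huq hu
  have h1 : s' • w0 = 0 := E.injective (by rw [hEs, hs', map_zero])
  have h2 : ιL w0 = 0 := (IsLocalizedModule.eq_zero_iff q1.primeCompl ιL).mpr ⟨⟨s', hs'q⟩, h1⟩
  refine IsLocalizedModule.smul_injective ιL s ?_
  change s • w = s • 0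
  rw [smul_zero]
  exact hws.trans h2

set_option maxHeartbeats 4000000 in
set_option synthInstance.maxHeartbeats 200000 in
omit [Module.Flat R N] in
/-- A finitely generated stage: a localized module `L` over a Noetherian ring `A`, mapping to `N_q`,
injectively after tensoring with the residue field of `p`. -/
theorem exists_stage :
    ∃ (A : Type u) (_ : CommRing A) (_ : IsNoetherianRing A) (_ : Algebra A R) (L : Type u) (_ : AddCommGroup L)
      (_ : Module A L) (ψ : L →+ LocalizedModule q.primeCompl N),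
      (∀ (a : A) (l : L), ψ (a • l) = algebraMap A R a • ψ l) ∧
      (∀ n : N, LocalizedModule.mkLinearMap q.primeCompl N n ∈ Submodule.span R (Set.range ψ)) ∧
      ∀ w : L ⊗[A] p.ResidueField,
        (∀ (Ψ : L ⊗[A] p.ResidueField →+ LocalizedModule q.primeCompl N ⊗[R] p.ResidueField),
          (∀ l c, Ψ (l ⊗ₜ c) = ψ l ⊗ₜ c) → Ψ w = 0) → w = 0 := by
  classical
  obtain ⟨g, hgq, hg⟩ := Groth.Agent.S1191.result N p q
  obtain ⟨R₀, hR₀, S₀, _, _, _, _, hS₀, hpush, N₀, _, _, _, _, _, _, f₀, hN₀, hf₀⟩ := exists_models R S N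
  have : IsNoetherianRing R₀ := Algebra.FiniteType.isNoetherianRing ℤ R₀
  obtain ⟨A, hA, y, hy⟩ := exists_sMap_eq R₀ S₀ ((pushoutAlgEquiv R₀ R S₀ S).symm g)
  have : IsNoetherianRing A := isNoetherianRing_of_fg hA
  let S1 := SOf R₀ S₀ A
  let N1 := MOf R₀ S₀ N₀ A
  let σ : S1 →+* S := (stageAlgHom R₀ R S₀ S A).toRingHom
  let β : N1 →ₗ[A] N := stageLinearMap (R₀ := R₀) (R := R) hf₀ A
  have hβ : IsBaseChange R β := isBaseChange_stageLinearMap (R₀ := R₀) (R := R) hf₀ A
  have hσy : σ y = g := by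
    change pushoutAlgEquiv R₀ R S₀ S (sMap R₀ S₀ (IsScalarTower.toAlgHom R₀ A R) y) = g
    rw [show IsScalarTower.toAlgHom R₀ A R = A.val from AlgHom.ext fun _ => rfl, hy, AlgEquiv.apply_symm_apply]
  have hσA : ∀ a : A, σ (algebraMap A S1 a) = algebraMap R S (algebraMap A R a) := fun a => by
    change stageAlgHom R₀ R S₀ S A (a ⊗ₜ 1) = _
    simp only [stageAlgHom, AlgHom.comp_apply, sMap_tmul, AlgEquiv.coe_toAlgHom, pushoutAlgEquiv_tmul, map_one,
      mul_one]
    rfl
  let q1 : Ideal S1 := q.comap σ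
  have hq1 : q1.IsPrime := inferInstance
  let Nq := LocalizedModule q.primeCompl N
  let : Module S1 Nq := Module.compHom Nq σ
  have hs1 : ∀ (s : S1) (x : Nq), s • x = σ s • x := fun _ _ => rfl
  have : IsScalarTower A S1 Nq := IsScalarTower.of_algebraMap_smul fun a x => by
    rw [hs1, hσA, algebraMap_smul]
    exact algebraMap_smul R a x
  let instNq : SMul R Nq := inferInstance
  let mkN := LocalizedModule.mkLinearMap q.primeCompl N
  have hmkN : ∀ (r : R) (m : N), mkN (r • m) = r • mkN m := fun r m => by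
    rw [← algebraMap_smul S r m, map_smul]
    exact algebraMap_smul S r (mkN m)
  let g0 : N1 →ₗ[S1] Nq :=
    { toFun := fun n => mkN (β n)
      map_add' := fun a b => by rw [map_add, map_add]
      map_smul' := fun s n => by
        rw [RingHom.id_apply, hs1, ← map_smul mkN]
        exact congrArg mkN (stageLinearMap_smul hf₀ A s n) }
  have hunit : ∀ s : q1.primeCompl, IsUnit (algebraMap S1 (Module.End S1 Nq) s) := fun s => by
    have h := IsLocalizedModule.map_units mkN (⟨σ s, s.2⟩ : q.primeCompl)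
    rw [Module.End.isUnit_iff] at h ⊢
    exact h
  let L := LocalizedModule q1.primeCompl N1
  let mkL := LocalizedModule.mkLinearMap q1.primeCompl N1
  let instAL : Module A L := inferInstance
  let instASL : SMul A L := instAL.toSMul
  obtain ⟨ψ, hψ'⟩ : ∃ ψ : L →ₗ[S1] Nq, ψ ∘ₗ mkL = g0 :=
    ⟨IsLocalizedModule.lift q1.primeCompl mkL g0 hunit, IsLocalizedModule.lift_comp q1.primeCompl mkL g0 hunit⟩
  have hψ : ∀ n, ψ (mkL n) = mkN (β n) := fun n => LinearMap.congr_fun hψ' n
  have hψA : ∀ (a : A) (l : L), ψ (a • l) = algebraMap A R a • ψ l := fun a l => by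
    rw [← algebraMap_smul S1 a l, map_smul, hs1, hσA]
    exact algebraMap_smul S (algebraMap A R a) (ψ l)
  refine ⟨A, inferInstance, inferInstance, inferInstance, L, inferInstance, inferInstance, ψ.toAddMonoidHom, hψA,
    fun n => ?_, fun w hw => ?_⟩
  · refine hβ.inductionOn n (fun n => mkN n ∈ Submodule.span R (Set.range ψ.toAddMonoidHom)) ?_ (fun m => ?_)
      (fun r m hm => ?_) fun a b ha hb => ?_
    · rw [map_zero]; exact Submodule.zero_mem _
    · exact Submodule.subset_span ⟨mkL m, hψ m⟩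
    · exact (congrArg (· ∈ Submodule.span R (Set.range ψ.toAddMonoidHom)) (hmkN r m)).mpr (Submodule.smul_mem _ r hm)
    · exact (congrArg (· ∈ Submodule.span R (Set.range ψ.toAddMonoidHom)) (map_add mkN a b)).mpr
        (Submodule.add_mem _ ha hb)
  exact stage_injective N p q g hgq hg β hβ σ (stageLinearMap_smul hf₀ A) y hσy ψ.toAddMonoidHom hψA
    (fun s l => map_smul ψ s l) hψ w hw

/-- Independent lifts of a basis of the fibre, spanning modulo every power of the prime. -/
theorem exists_basis_lifts {A L : Type u} [CommRing A] [AddCommGroup L] [Module A L] [Algebra A R]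
    (p1 : Ideal A) [p1.IsPrime] (hp1 : p1 = p.comap (algebraMap A R)) :
    ∃ (J : Type u) (e : J → L),
      (∀ (s : Finset J) (c : J → p.ResidueField), (∑ i ∈ s, e i ⊗ₜ[A] c i : L ⊗[A] p.ResidueField) = 0 →
        ∀ i ∈ s, c i = 0) ∧
      ∀ (K : ℕ) (l : L), ∃ d ∉ p1, d • l ∈ Submodule.span A (Set.range e) ⊔ p1 ^ K • (⊤ : Submodule A L) := by
  let κ1 := p1.ResidueField
  let κ := p.ResidueField
  let : Algebra κ1 κ := (Ideal.ResidueField.map p1 p (algebraMap A R) hp1).toAlgebra
  have : IsScalarTower A κ1 κ := IsScalarTower.of_algebraMap_eq fun a => by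
    rw [RingHom.algebraMap_toAlgebra, IsScalarTower.algebraMap_apply A R κ]
    exact (Ideal.ResidueField.map_algebraMap p1 p (algebraMap A R) hp1 a).symm
  let v : L → κ1 ⊗[A] L := fun l => (1 : κ1) ⊗ₜ[A] l
  obtain ⟨J, e, -, hsp, hli⟩ := exists_linearIndependent' κ1 v
  refine ⟨J, e, fun s c hc => ?_, ?_⟩
  · have htop : (⊤ : Submodule κ1 (κ1 ⊗[A] L)) ≤ Submodule.span κ1 (Set.range (v ∘ e)) := by
      rw [hsp]
      intro x _
      induction x with
      | zero => exact Submodule.zero_mem _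
      | tmul c l =>
        rw [show c ⊗ₜ[A] l = c • ((1 : κ1) ⊗ₜ[A] l) by rw [TensorProduct.smul_tmul', smul_eq_mul, mul_one]]
        exact Submodule.smul_mem _ c (Submodule.subset_span ⟨l, rfl⟩)
      | add a b ha hb => exact Submodule.add_mem _ (ha trivial) (hb trivial)
    let bas := Module.Basis.mk hli htop
    let C := AlgebraTensorModule.cancelBaseChange A κ1 κ κ L
    have h1 : ∑ i ∈ s, c i • (bas.baseChange κ) i = 0 := by
      apply C.injective
      rw [map_zero, map_sum]
      have h2 := congrArg (TensorProduct.comm A L κ) hc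
      rw [map_zero, map_sum] at h2
      refine Eq.trans (Finset.sum_congr rfl fun i _ => ?_) h2
      rw [map_smul, Module.Basis.baseChange_apply, Module.Basis.mk_apply]
      change c i • C ((1 : κ) ⊗ₜ[κ1] ((1 : κ1) ⊗ₜ[A] e i)) = c i ⊗ₜ[A] e i
      rw [AlgebraTensorModule.cancelBaseChange_tmul, one_smul, TensorProduct.smul_tmul', smul_eq_mul, mul_one]
    exact linearIndependent_iff'.mp (bas.baseChange κ).linearIndependent s c h1
  · let U := Submodule.span A (Set.range e)
    have hone : ∀ l : L, ∃ d ∉ p1, d • l ∈ U ⊔ p1 • (⊤ : Submodule A L) := by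
      intro l
      let Φ : κ1 ⊗[A] L →ₗ[κ1] κ1 ⊗[A] (L ⧸ U) := AlgebraTensorModule.lTensor κ1 κ1 U.mkQ
      have hker : Submodule.span κ1 (Set.range v) ≤ LinearMap.ker Φ := by
        rw [← hsp, Submodule.span_le]
        rintro _ ⟨j, rfl⟩
        change (1 : κ1) ⊗ₜ[A] U.mkQ (e j) = 0
        rw [Submodule.mkQ_apply, (Submodule.Quotient.mk_eq_zero U).mpr (Submodule.subset_span ⟨j, rfl⟩),
          TensorProduct.tmul_zero]
      have h1 : (1 : κ1) ⊗ₜ[A] U.mkQ l = 0 := hker (Submodule.subset_span ⟨l, rfl⟩)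
      obtain ⟨d, hd, hdl⟩ := Groth.SchDom.exists_smul_mem_of_tmul_one_eq_zero p1 (U.mkQ l) (by
        rw [← TensorProduct.comm_tmul, h1, map_zero])
      refine ⟨d, hd, ?_⟩
      rw [← map_smul, ← Submodule.range_mkQ U, ← Submodule.map_top, ← Submodule.map_smul''] at hdl
      obtain ⟨w, hw, hwe⟩ := hdl
      rw [Submodule.mkQ_apply, Submodule.mkQ_apply, Submodule.Quotient.eq] at hwe
      rw [show d • l = -(w - d • l) + w by abel]
      exact Submodule.add_mem_sup (neg_mem hwe) hw
    intro K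
    induction K with
    | zero =>
      intro l
      exact ⟨1, fun h => ‹p1.IsPrime›.ne_top ((Ideal.eq_top_iff_one p1).mpr h), by
        rw [pow_zero, Ideal.one_eq_top, Submodule.top_smul]; exact Submodule.mem_sup_right trivial⟩
    | succ K ih =>
      intro l
      obtain ⟨d, hd, hdl⟩ := ih l
      obtain ⟨u0, hu0, w, hw, hsum⟩ := Submodule.mem_sup.mp hdl
      obtain ⟨d', hd', hd'w⟩ : ∃ d' ∉ p1, d' • w ∈ U ⊔ p1 ^ (K + 1) • (⊤ : Submodule A L) := by
        refine Submodule.smul_induction_on hw (fun a ha x _ => ?_) fun a b ⟨da, hda, ha⟩ ⟨db, hdb, hb⟩ => ?_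
        · obtain ⟨dx, hdx, hx⟩ := hone x
          refine ⟨dx, hdx, ?_⟩
          obtain ⟨u1, hu1, w1, hw1, hsum1⟩ := Submodule.mem_sup.mp hx
          rw [smul_comm, ← hsum1, smul_add]
          refine Submodule.add_mem_sup (U.smul_mem _ hu1) ?_
          rw [pow_succ, ← smul_eq_mul, Submodule.smul_assoc]
          exact Submodule.smul_mem_smul ha hw1
        · refine ⟨da * db, ‹p1.IsPrime›.mul_notMem hda hdb, ?_⟩
          rw [smul_add, mul_comm da db, mul_smul, mul_comm db da, mul_smul]
          exact add_mem (Submodule.smul_mem _ _ ha) (Submodule.smul_mem _ _ hb)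
      refine ⟨d' * d, ‹p1.IsPrime›.mul_notMem hd' hd, ?_⟩
      rw [mul_smul, ← hsum, smul_add]
      exact add_mem (Submodule.mem_sup_left (U.smul_mem _ hu0)) hd'w

set_option maxHeartbeats 2000000 in
set_option synthInstance.maxHeartbeats 200000 in
/-- A weakly associated prime of `N ⊗ M` lies over a weakly associated prime of `M`. -/
theorem mem_weakAss_of_mem_weakAss_tensor (hq : q ∈ FlatCA.weakAss S (N ⊗[R] M)) :
    p ∈ FlatCA.weakAss R M := by
  classical
  obtain ⟨z, hz⟩ := hq
  let Rp := Localization.AtPrime p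
  let Sq := Localization.AtPrime q
  let Nq := LocalizedModule q.primeCompl N
  have hpq : p = q.comap (algebraMap R S) := Ideal.LiesOver.over
  let : Algebra Rp Sq := (Localization.localRingHom p q (algebraMap R S) hpq).toAlgebra
  have : IsScalarTower R Rp Sq := IsScalarTower.of_algebraMap_eq fun a => by
    rw [RingHom.algebraMap_toAlgebra, Localization.localRingHom_to_map, IsScalarTower.algebraMap_apply R S Sq]
  let : Module Rp Nq := Module.compHom Nq (algebraMap Rp Sq)
  have : IsScalarTower Rp Sq Nq := IsScalarTower.of_algebraMap_smul fun _ _ => rfl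
  have : IsScalarTower R Sq Nq := IsScalarTower.of_algebraMap_smul fun a x => by
    rw [IsScalarTower.algebraMap_apply R S Sq, algebraMap_smul, algebraMap_smul]
  have : IsScalarTower R Rp Nq := IsScalarTower.of_algebraMap_smul fun a x => by
    change algebraMap Rp Sq (algebraMap R Rp a) • x = a • x
    rw [← IsScalarTower.algebraMap_apply, algebraMap_smul]
  have : Module.Flat R Nq := Groth.Calg5.RelGCI.flat_localizedModule q.primeCompl
  have : Module.Flat Rp Nq := (Module.flat_iff_of_isLocalization Rp p.primeCompl Nq).2 inferInstance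
  let Mp := Rp ⊗[R] M
  let T := Nq ⊗[Rp] Mp
  let ι := AlgebraTensorModule.rTensor R M (LocalizedModule.mkLinearMap q.primeCompl N)
  let c := AlgebraTensorModule.cancelBaseChange R Rp Sq Nq M
  let zT : T := c.symm (ι z)
  have hI : ∀ s : S, s • z = 0 → s ∈ q := fun s hs => hz.1.2 ((Submodule.mem_annihilator_span_singleton _ _).mpr hs)
  have hne : zT ≠ 0 := fun h0 => by
    rw [LinearEquiv.map_eq_zero_iff] at h0
    obtain ⟨⟨u, hu⟩, h1⟩ := (IsLocalizedModule.eq_zero_iff q.primeCompl ι).mp h0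
    exact hu (hI u h1)
  have hRS : ∀ (r : R) (x : T), algebraMap R Rp r • x = algebraMap S Sq (algebraMap R S r) • x := fun r x => by
    rw [algebraMap_smul, ← IsScalarTower.algebraMap_apply, algebraMap_smul]
  have hlin : ∀ (s : S) (w : N ⊗[R] M), c.symm (ι (s • w)) = algebraMap S Sq s • c.symm (ι w) := fun s w => by
    rw [map_smul, ← algebraMap_smul Sq s (ι w), map_smul]
  have hnil : ∀ r ∈ p, ∃ k : ℕ, algebraMap R Rp r ^ k • zT = 0 := fun r hr => by
    obtain ⟨u, hu, k, hk⟩ := exists_notMem_mul_pow_mem hz (hpq.le hr : algebraMap R S r ∈ q)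
    rw [Submodule.mem_annihilator_span_singleton] at hk
    refine ⟨k, ?_⟩
    have h1 : algebraMap S Sq (u * algebraMap R S r ^ k) • zT = 0 := by
      rw [← hlin, hk, map_zero, map_zero]
    rw [map_mul, mul_smul] at h1
    have hu' : IsUnit (algebraMap S Sq u) := IsLocalization.map_units (M := q.primeCompl) Sq ⟨u, hu⟩
    rw [← map_pow, hRS, map_pow]
    exact hu'.smul_eq_zero.mp h1
  obtain ⟨A, _, _, _, L, _, _, ψ, hψ, hψsp, hψinj⟩ := exists_stage N p q
  let p1 := p.comap (algebraMap A R)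
  obtain ⟨J, e, hind, hspan⟩ := exists_basis_lifts (L := L) p p1 rfl
  -- a power of `p1` kills `zT`
  let φ : A →+* Rp := (algebraMap R Rp).comp (algebraMap A R)
  let Jz : Ideal Rp := LinearMap.ker (LinearMap.toSpanSingleton Rp T zT)
  obtain ⟨K, hK⟩ : ∃ K, p1.map φ ^ K ≤ Jz := by
    refine Ideal.exists_pow_le_of_le_radical_of_fg (Ideal.map_le_iff_le_comap.mpr fun a ha => ?_)
      (Ideal.FG.map (IsNoetherian.noetherian p1) φ)
    obtain ⟨k, hk⟩ := hnil _ (show algebraMap A R a ∈ p from ha)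
    exact ⟨k, hk⟩
  obtain ⟨G, hG⟩ : (p1 ^ K).FG := IsNoetherian.noetherian _
  let π : Mp →ₗ[Rp] (G → Mp) := LinearMap.pi fun a => φ a.1 • LinearMap.id
  let M0 : Submodule Rp Mp := LinearMap.ker π
  have hM0 : ∀ m ∈ M0, ∀ a ∈ p1 ^ K, φ a • m = 0 := fun m hm a ha => by
    rw [← hG] at ha
    induction ha using Submodule.span_induction with
    | mem a ha => exact congrFun hm ⟨a, ha⟩
    | zero => simp
    | add a b _ _ ha hb => rw [map_add, add_smul, ha, hb, add_zero]
    | smul a b _ hb => rw [smul_eq_mul, map_mul, mul_smul, hb, smul_zero]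
  have hzM0 : zT ∈ LinearMap.range (M0.subtype.lTensor Nq) :=
    mem_range_lTensor_of_smul_eq_zero Nq (fun a : G => φ a.1) zT fun a => by
      have ha : φ a.1 ∈ p1.map φ ^ K := by
        rw [← Ideal.map_pow]
        exact Ideal.mem_map_of_mem φ (hG.le (Ideal.subset_span a.2))
      exact hK ha
  -- coordinates
  let ε : J → Nq := fun j => ψ (e j)
  let Φ : (J →₀ Mp) →ₗ[Rp] T := Finsupp.lsum Rp fun j => TensorProduct.mk Rp Nq Mp (ε j)
  let W : Submodule Rp T := LinearMap.range Φ
  have hAψ : ∀ (a : A) (l : L), ψ (a • l) = φ a • ψ l := fun a l => by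
    rw [hψ]
    exact (algebraMap_smul Rp _ _).symm
  have hgen : ∀ l : L, ∀ m ∈ M0, ψ l ⊗ₜ[Rp] m ∈ W := by
    intro l m hm
    obtain ⟨d, hd, hdl⟩ := hspan K l
    have hdu : IsUnit (φ d) := IsLocalization.map_units (M := p.primeCompl) Rp ⟨algebraMap A R d, hd⟩
    rw [← Submodule.smul_mem_iff_of_isUnit W hdu, TensorProduct.smul_tmul', ← hAψ]
    obtain ⟨u0, hu0, w, hw, hsum⟩ := Submodule.mem_sup.mp hdl
    rw [← hsum, map_add, add_tmul]
    refine add_mem ?_ ?_
    · clear hsum
      induction hu0 using Submodule.span_induction with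
      | mem x hx =>
        obtain ⟨j, rfl⟩ := hx
        exact ⟨Finsupp.single j m, by simp [Φ, ε]; rfl⟩
      | zero => rw [map_zero, zero_tmul]; exact zero_mem _
      | add a b _ _ ha hb => rw [map_add, add_tmul]; exact add_mem ha hb
      | smul a x _ hx => rw [hAψ, ← TensorProduct.smul_tmul']; exact W.smul_mem _ hx
    · clear hsum
      refine Submodule.smul_induction_on hw (fun a ha x _ => ?_) fun a b ha hb => ?_
      · rw [hAψ, TensorProduct.smul_tmul, hM0 m hm a ha, TensorProduct.tmul_zero]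
        exact zero_mem _
      · rw [map_add, add_tmul]; exact add_mem ha hb
  let W0 : Submodule Rp T := Submodule.span Rp
    {x | ∃ (n : N) (m : Mp), m ∈ M0 ∧ LocalizedModule.mkLinearMap q.primeCompl N n ⊗ₜ[Rp] m = x}
  have hW0 : ∀ (s : S) (x : T), x ∈ W0 → algebraMap S Sq s • x ∈ W0 := by
    intro s x hx
    induction hx using Submodule.span_induction with
    | mem x hx =>
      obtain ⟨n, m, hm, rfl⟩ := hx
      rw [TensorProduct.smul_tmul', algebraMap_smul, ← map_smul]
      exact Submodule.subset_span ⟨_, m, hm, rfl⟩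
    | zero => rw [smul_zero]; exact zero_mem _
    | add a b _ _ ha hb => rw [smul_add]; exact add_mem ha hb
    | smul a b _ hb => rw [smul_comm]; exact W0.smul_mem a hb
  have hW0W : W0 ≤ W := Submodule.span_le.mpr (by
    rintro _ ⟨n, m, hm, rfl⟩
    have hn := hψsp n
    generalize LocalizedModule.mkLinearMap q.primeCompl N n = x at hn ⊢
    induction hn using Submodule.span_induction with
    | mem x hx => obtain ⟨l, rfl⟩ := hx; exact hgen l m hm
    | zero => rw [zero_tmul]; exact W.zero_mem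
    | add a b _ _ ha hb => rw [add_tmul]; exact W.add_mem ha hb
    | smul r b _ hb => rw [← algebraMap_smul Rp r b, ← TensorProduct.smul_tmul']; exact W.smul_mem _ hb)
  obtain ⟨U, hU, f, hf⟩ : ∃ U : S, U ∉ q ∧ algebraMap S Sq U • zT ∈ W := by
    suffices ∀ w : Nq ⊗[Rp] M0, ∃ U : S, U ∉ q ∧ algebraMap S Sq U • M0.subtype.lTensor Nq w ∈ W0 by
      obtain ⟨w, hw⟩ := hzM0
      obtain ⟨U, hU, hUw⟩ := this w
      exact ⟨U, hU, hW0W (hw ▸ hUw)⟩
    intro w
    induction w with
    | zero => exact ⟨1, fun h => ‹q.IsPrime›.ne_top ((Ideal.eq_top_iff_one q).mpr h), by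
        rw [map_zero, smul_zero]; exact W0.zero_mem⟩
    | tmul x m =>
      obtain ⟨⟨n, s⟩, hs⟩ := IsLocalizedModule.surj q.primeCompl (LocalizedModule.mkLinearMap q.primeCompl N) x
      refine ⟨s.1, s.2, ?_⟩
      rw [LinearMap.lTensor_tmul, TensorProduct.smul_tmul', algebraMap_smul]
      rw [show (s.1 : S) • x = _ from hs]
      exact Submodule.subset_span ⟨n, _, m.2, rfl⟩
    | add a b ha hb =>
      obtain ⟨Ua, hUa, ha⟩ := ha
      obtain ⟨Ub, hUb, hb⟩ := hb
      refine ⟨Ua * Ub, ‹q.IsPrime›.mul_notMem hUa hUb, ?_⟩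
      rw [map_add, smul_add, map_mul]
      nth_rw 1 [mul_comm (algebraMap S Sq Ua)]
      rw [mul_smul, mul_smul]
      exact add_mem (hW0 _ _ ha) (hW0 _ _ hb)
  have hUu : IsUnit (algebraMap S Sq U) := IsLocalization.map_units (M := q.primeCompl) Sq ⟨U, hU⟩
  -- the coordinates are unique
  have hli : LinearIndependent (IsLocalRing.ResidueField Rp)
      (TensorProduct.mk Rp (IsLocalRing.ResidueField Rp) Nq 1 ∘ ε) := by
    rw [linearIndependent_iff']
    intro s g hg
    let κ := p.ResidueField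
    change ∑ i ∈ s, (g i : κ) • ((1 : κ) ⊗ₜ[Rp] ε i) = 0 at hg
    have h1 := congrArg (fun x => TensorProduct.comm R κ Nq (IsLocalization.moduleTensorEquiv p.primeCompl Rp κ Nq x)) hg
    simp only [map_zero, map_sum] at h1
    refine hind s g (hψinj _ fun Ψ hΨ => ?_)
    rw [map_sum]
    refine Eq.trans (Finset.sum_congr rfl fun i _ => ?_) h1
    rw [hΨ, TensorProduct.smul_tmul', smul_eq_mul, mul_one]
    rfl
  have hinj : ∀ f' : J →₀ Mp, Φ f' = 0 → f' = 0 := by
    intro f' hf'
    ext j
    by_cases hj : j ∈ f'.support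
    · refine Groth.FlatMorOne.eq_zero_of_sum_tmul_eq_zero ε hli f'.support f' ?_ j hj
      have h1 := congrArg (TensorProduct.comm Rp Nq Mp) hf'
      change TensorProduct.comm Rp Nq Mp (∑ i ∈ f'.support, ε i ⊗ₜ[Rp] f' i) = TensorProduct.comm Rp Nq Mp 0 at h1
      rw [map_zero, map_sum] at h1
      refine Eq.trans (Finset.sum_congr rfl fun i _ => ?_) h1
      simp
    · exact Finsupp.notMem_support_iff.mp hj
  -- some coordinate does it
  obtain ⟨j, hj⟩ : ∃ j, f j ≠ 0 := by
    by_contra hno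
    push Not at hno
    refine hne (hUu.smul_eq_zero.mp ?_)
    rw [← hf, show f = 0 from Finsupp.ext hno, map_zero]
  have hfj : ∀ r ∈ p, ∃ k : ℕ, algebraMap R Rp r ^ k • f j = 0 := fun r hr => by
    obtain ⟨k, hk⟩ := hnil r hr
    refine ⟨k, ?_⟩
    have h1 : algebraMap R Rp r ^ k • f = 0 := hinj _ (by rw [map_smul, hf, smul_comm, hk, smul_zero])
    exact DFunLike.congr_fun h1 j
  let mk1 := TensorProduct.mk R Rp M 1
  obtain ⟨⟨x, s⟩, hx⟩ := IsLocalizedModule.surj p.primeCompl mk1 (f j)
  have hx' : (s : R) • f j = mk1 x := hx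
  refine ⟨x, ⟨inferInstance, fun a ha => ?_⟩, fun P hP hle r hr => ?_⟩
  · by_contra hap
    rw [Submodule.mem_annihilator_span_singleton] at ha
    refine hj (IsLocalizedModule.smul_injective mk1 (⟨a, hap⟩ * s) ?_)
    change _ = ((⟨a, hap⟩ * s : p.primeCompl) : R) • (0 : Mp)
    rw [smul_zero]
    change (a * (s : R)) • f j = 0
    rw [mul_smul, hx', ← map_smul, ha, map_zero]
  · obtain ⟨k, hk⟩ := hfj r hr
    rw [← map_pow, algebraMap_smul] at hk
    have h1 : mk1 (r ^ k • x) = 0 := by rw [map_smul, ← hx', smul_comm, hk, smul_zero]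
    obtain ⟨⟨c', hc'⟩, h2⟩ := (IsLocalizedModule.eq_zero_iff p.primeCompl mk1).mp h1
    have h3 : c' * r ^ k ∈ P := hP.2 ((Submodule.mem_annihilator_span_singleton _ _).mpr (by
      rw [mul_smul]; exact h2))
    exact (hP.1.mem_or_mem h3).elim (fun h => absurd (hle h) hc') fun h => hP.1.mem_of_pow_mem k h

end Groth.Calg3.WeakAssTensor
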